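import Cfsg.Agent.Lib.Fusion.Inter.Dichotomy
import Cfsg.Agent.Lib.Fusion.ComponentExists
import Cfsg.Agent.Fusion92.TClass.Transport

/-!
# The layer exists
-/

set_option autoImplicit false
set_option linter.style.haveILetI false

namespace Cfsg.Agent.Fusion.Inter

open Cfsg Cfsg.Agent.Fusion Cfsg.Agent.Fusion.NormalLift

variable {Ω : Type*} [Group Ω] {S : Subgroup Ω} [Finite S] {F : FusionSystem S} {p : ℕ} [Fact p.Prime]

/-- A normal subsystem whose group contains the group of a component contains the component. -/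
theorem component_sub_of_le (hS : IsPGroup p S) {T U : Subgroup Ω} {C : FusionSystem T} {E : FusionSystem U}
    (hC : C.IsComponentIn F p) (hE : E.IsNormalIn F p) (hTU : T ≤ U) : C.IsSubsystemOf E := by
  rcases component_dichotomy hC.1 inferInstance hS hC.2 hE with h | h
  · have hTS : T ≤ S := Fusion91.le_of_subnormal hC.1
    haveI := finite_of_le hTS
    refine absurd ⟨⟨fun a b => Subtype.ext ?_⟩⟩ (S5148.result p (hS.to_le hTS) C hC.2)
    exact C.center_le_centralizer (h ⟨b.2, hTU b.2⟩) a a.2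
  · exact h.2

theorem le_of_component_sub {T U : Subgroup Ω} {C : FusionSystem T} {E : FusionSystem U}
    (h : C.IsSubsystemOf E) : T ≤ U :=
  ((isMap_id (F := C) le_rfl).of_isSubsystemOf h).dom_le

/-- The layer exists. -/
theorem exists_layer (hS : IsPGroup p S) (hF : F.IsSaturated p) :
    ∃ (T : Subgroup Ω) (E : FusionSystem T), E.IsLayerOf F p := by
  classical
  let Cand : ∀ U : Subgroup Ω, FusionSystem U → Prop := fun U E =>
    E.IsNormalIn F p ∧ ∀ (T : Subgroup Ω) (C : FusionSystem T), C.IsComponentIn F p → T ≤ U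
  have h₀ : ∃ n, ∃ U E, Cand U E ∧ Nat.card U = n :=
    ⟨_, S, F, ⟨Fusion92.TClass.normal_self hF, fun T C hC => Fusion91.le_of_subnormal hC.1⟩, rfl⟩
  obtain ⟨U₁, E₁, hc₁, hn⟩ := Nat.find_spec h₀
  have h₁ : ∃ m, ∃ U E, Cand U E ∧ Nat.card U = Nat.find h₀ ∧ numMaps E = m :=
    ⟨_, U₁, E₁, hc₁, hn, rfl⟩
  obtain ⟨U, E, hc, hcard, hnum⟩ := Nat.find_spec h₁
  refine ⟨U, E, hc.1, fun T C hC => component_sub_of_le hS hC hc.1 (hc.2 T C hC),
    fun R D hD hDall => ?_⟩
  have hUS : U ≤ S := hc.1.1.2.2.2.1.1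
  haveI := finite_of_le hUS
  obtain ⟨G, ⟨hGF, hGE, hGD⟩, -⟩ := exists_inter hS hF hc.1 hD
  have hall : ∀ (T : Subgroup Ω) (C : FusionSystem T), C.IsComponentIn F p → T ≤ U ⊓ R :=
    fun T C hC => le_inf (hc.2 T C hC) (le_of_component_sub (hDall T C hC))
  have hge : Nat.card U ≤ Nat.card ↥(U ⊓ R) := by
    rw [hcard]
    exact Nat.find_min' h₀ ⟨_, G, ⟨hGF, hall⟩, rfl⟩
  have he : U ⊓ R = U := Subgroup.eq_of_le_of_card_ge inf_le_left hge
  revert G
  rw [he]
  intro G hGF hGE hGD P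
  suffices hPG : E.Hom P ⊆ G.Hom P from hPG.trans (hGD.1.2.2.1 P)
  by_contra hne
  have hlt := numMaps_lt hGE.1.2.2.1 (P := P) fun h => hne h.ge
  rw [hnum] at hlt
  exact absurd (Nat.find_min' h₁ ⟨U, G, ⟨hGF, hc.2⟩, hcard, rfl⟩) (not_le.mpr hlt)

end Cfsg.Agent.Fusion.Inter
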