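import Cfsg.Agent.Lib.Fusion.Inter.FittingNormal
import Cfsg.Agent.Lib.Fusion.Inter.Layer
import Cfsg.Agent.S5136
import Cfsg.Agent.S5150

/-!
# The generalized Fitting subsystem exists and is normal
-/

set_option autoImplicit false
set_option linter.style.haveILetI false

namespace Cfsg.Agent.Fusion.Inter

open Cfsg Cfsg.Agent.Fusion Cfsg.Agent.Fusion.NormalLift Cfsg.Agent.Fusion.Fitting
open Cfsg.FusionSystem (normalizerIn centralizerIn imageAlong preimageAlong)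

variable {Ω : Type*} [Group Ω] {S T Q : Subgroup Ω} [Finite S] {F : FusionSystem S} {E : FusionSystem T}
  {p : ℕ} [Fact p.Prime]

/-- The part in `T` of a subgroup centralized by `E` is central in `E`. -/
theorem inf_central (n : NData F E p) (hext : ∀ P f, IsMap E P f → ExtendsFix F Q P f)
    (hcomm : ∀ q ∈ Q, ∀ t ∈ T, q * t = t * q) {P : Subgroup Ω} {f : Ω → Ω} (hf : IsMap E P f) :
    ExtendsFix E (Q ⊓ T) P f := by
  haveI := n.finiteT
  refine alperin_induction_cr n.tp n.eSat (fun P f => ExtendsFix E (Q ⊓ T) P f)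
    (fun P f g h he => h.congr he) (fun P R f g hf _ h1 h2 => h1.comp h2 fun x hx => hf.mem hx)
    (fun P R f _ hle h => ?_) (fun R hc _ _ f hf => ?_) P f hf
  · obtain ⟨f', h1, h2, h3⟩ := h
    exact ⟨f', h1.mono (sup_le_sup_right hle _), h2.mono hle, h3⟩
  · have hZR : Q ⊓ T ≤ R := fun x hx => centralizer_le_of_centric hc
      ⟨hx.2, Subgroup.mem_centralizer_iff.mpr fun y hy => (hcomm x hx.1 y (hc.1 hy)).symm⟩
    obtain ⟨f', hf', he, hfix⟩ := hext R f hf.1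
    exact ⟨f, hf.1.mono (sup_le le_rfl hZR), fun _ _ => rfl,
      fun x hx => (he (hZR hx)).symm.trans (hfix x hx.1)⟩

theorem layer_data (hS : IsPGroup p S) (hF : F.IsSaturated p) (hE : E.IsLayerOf F p) :
    NData F E p ∧ (∀ P f, IsMap E P f → ExtendsFix F F.core P f) ∧ T ≤ centralizerIn S F.core := by
  have h : ∀ P f, IsMap E P f → (P ≤ centralizerIn S F.core ∧ ExtendsFix F F.core P f) := by
    intro P f hf
    obtain ⟨φ, hφ, hφe⟩ := id hf
    obtain ⟨-, hP, -, he⟩ := (mem_centralizerHom hφe).1 (S5150.result p hS F hF E hE P hφ)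
    exact ⟨hP, he⟩
  exact ⟨⟨hS, hF, hE.1⟩, fun P f hf => (h P f hf).2, (h T id (isMap_id le_rfl)).1⟩

/-- Every generalized Fitting subsystem is normal. -/
theorem fitting_isNormalIn (hS : IsPGroup p S) (hF : F.IsSaturated p) {U : Subgroup Ω}
    {D : FusionSystem U} (hD : D.IsGeneralizedFittingOf F p) : D.IsNormalIn F p := by
  obtain ⟨T, E, hE, hprod⟩ := hD
  obtain ⟨n, hext, hT⟩ := layer_data hS hF hE
  have hQn := Fusion91.isNormal_core F
  haveI := finite_of_le hQn.1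
  haveI := n.finiteT
  obtain ⟨D₀, θ, hd⟩ := exists_cpData (hS.to_le hQn.1) n.tp
    (inner_isNormalIn_of_normal hS hF hQn).1.1 n.eSat hprod
  exact FData.isNormalIn ⟨n, hQn, hext, hT, hd⟩

set_option maxHeartbeats 1000000 in
/-- A generalized Fitting subsystem exists. -/
theorem exists_fitting (hS : IsPGroup p S) (hF : F.IsSaturated p) :
    ∃ (U : Subgroup Ω) (D : FusionSystem U), D.IsGeneralizedFittingOf F p := by
  obtain ⟨T, E, hE⟩ := exists_layer hS hF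
  obtain ⟨n, hext, hT⟩ := layer_data hS hF hE
  set Q := F.core with hQ
  have hQn := Fusion91.isNormal_core F
  haveI := finite_of_le hQn.1
  haveI := n.finiteT
  have hcomm : ∀ q ∈ Q, ∀ t ∈ T, q * t = t * q := fun q hq t ht =>
    Subgroup.mem_centralizer_iff.mp (hT ht).2 q hq
  obtain ⟨D₀, hD₀⟩ := S5136.result p (hS.to_le hQn.1) n.tp (innerFusionSystem Q) E
  let θ : ↥(Q.prod T) →* Ω := MonoidHom.mk' (fun z => (z : Ω × Ω).1 * (z : Ω × Ω).2) fun a b => by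
    show (a : Ω × Ω).1 * (b : Ω × Ω).1 * ((a : Ω × Ω).2 * (b : Ω × Ω).2) = _
    rw [mul_assoc, ← mul_assoc (b : Ω × Ω).1, hcomm _ b.2.1 _ a.2.2]
    simp [mul_assoc]
  have hθ : ∀ z : ↥(Q.prod T), θ z = (z : Ω × Ω).1 * (z : Ω × Ω).2 := fun _ => rfl
  set Z := θ.ker.map (Q.prod T).subtype with hZ
  have hZmem : ∀ {z : Ω × Ω}, z ∈ Z → z.1 ∈ Q ⊓ T ∧ z.2 = z.1⁻¹ ∧ z ∈ Q.prod T := by
    rintro _ ⟨z, hz, rfl⟩
    have h1 : (z : Ω × Ω).1 * (z : Ω × Ω).2 = 1 := hz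
    have h2 : (z : Ω × Ω).2 = (z : Ω × Ω).1⁻¹ := eq_inv_of_mul_eq_one_right h1
    refine ⟨⟨z.2.1, ?_⟩, h2, z.2⟩
    have := T.inv_mem z.2.2
    rwa [h2, inv_inv] at this
  have hker : ∀ s : ↥(Q.prod T), θ s = 1 ↔ (s : Ω × Ω) ∈ Z := fun s =>
    ⟨fun hs => ⟨s, hs, rfl⟩, fun ⟨z, hz, he⟩ => Subtype.ext he ▸ hz⟩
  have hZc : D₀.IsCentral Z := by
    refine isCentral_iff.2 ⟨fun z hz => (hZmem hz).2.2, fun P f hf => ?_⟩
    obtain ⟨hle, f₁, f₂, hf₁, hf₂, he⟩ := (Fusion91.isMap_prod_iff hD₀).1 hf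
    obtain ⟨φ, ⟨-, c, hc, hce⟩, hφ⟩ := hf₁
    obtain ⟨e, hem, hee, hefix⟩ := inf_central n hext hcomm hf₂
    have hle' : P ⊔ Z ≤ Q.prod T := sup_le hle fun z hz => (hZmem hz).2.2
    refine ⟨fun z => (c * z.1 * c⁻¹, e z.2), (Fusion91.isMap_prod_iff hD₀).2 ⟨hle', _, e,
      isMap_conj ?_ hc, hem.mono ?_, fun _ _ => rfl⟩, fun z hz => ?_, fun z hz => ?_⟩
    · rintro _ ⟨z, hz, rfl⟩
      exact (hle' hz).1
    · rw [Subgroup.map_sup]
      refine sup_le_sup_left ?_ _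
      rintro _ ⟨z, hz, rfl⟩
      obtain ⟨h1, h2, -⟩ := hZmem hz
      exact show z.2 ∈ Q ⊓ T from h2.symm ▸ (Q ⊓ T).inv_mem h1
    · rw [he z hz]
      refine Prod.ext ?_ (hee (Fusion91.mem_map_snd hz))
      show c * z.1 * c⁻¹ = f₁ z.1
      rw [← hφ ⟨z.1, Fusion91.mem_map_fst hz⟩, hce]
    · obtain ⟨h1, h2, -⟩ := hZmem hz
      refine Prod.ext ?_ ?_
      · show c * z.1 * c⁻¹ = z.1
        rw [hcomm c hc z.1 h1.2, mul_inv_cancel_right]
      · show e z.2 = z.2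
        rw [h2]
        exact hefix _ ((Q ⊓ T).inv_mem h1)
  haveI : Finite ↥(Q.prod T) := Finite.of_equiv _ (Q.prodEquiv T).toEquiv.symm
  have hcl : D₀.StronglyClosed Z := stronglyClosed_iff.2 ⟨hZc.1, fun R f hf x hx hxZ => by
    rw [map_fix_central hZc hf hx hxZ]
    exact hxZ⟩
  refine ⟨θ.range, Fusion91.factorSys D₀ hcl θ hker rfl, T, E, hE, D₀, hD₀, Z, θ, le_sSup hZc, ?_, ?_,
    fun x hx => by rw [hθ]; exact mul_one x, fun y hy => by rw [hθ]; exact one_mul y,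
    Fusion91.factorSys_isFactor D₀ hcl θ hker rfl⟩
  · rw [Subgroup.eq_bot_iff_forall]
    rintro z ⟨hz, hz'⟩
    have h2 : z.2 = 1 := hz'.2
    obtain ⟨-, he, -⟩ := hZmem hz
    exact Prod.ext (inv_eq_one.mp (he.symm.trans h2)) h2
  · rw [Subgroup.eq_bot_iff_forall]
    rintro z ⟨hz, hz'⟩
    have h1 : z.1 = 1 := hz'.1
    obtain ⟨-, he, -⟩ := hZmem hz
    exact Prod.ext h1 (by rw [he, h1, inv_one]; rfl)

end Cfsg.Agent.Fusion.Inter
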