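import Cfsg.Agent.Lib.Fusion.Inter.Sat

/-!
# The intersection of two normal subsystems
-/

set_option autoImplicit false
set_option linter.style.haveILetI false

namespace Cfsg.Agent.Fusion.Inter

open Cfsg Cfsg.Agent.Fusion Cfsg.Agent.Fusion.NormalLift
open Cfsg.FusionSystem (normalizerIn centralizerIn)

variable {Ω : Type*} [Group Ω] {S T T₁ T₂ : Subgroup Ω} {F : FusionSystem S} {E : FusionSystem T}
  {E₁ : FusionSystem T₁} {E₂ : FusionSystem T₂} {p : ℕ} [Finite S]

theorem gSys_sub (h : IData F E₁ E₂ p) : (gSys h).IsSubsystemOf F := fun _ =>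
  hom_subset_of_isMap fun _ hf => ((isMap_gSys h).mp hf).isMap h

variable [Fact p.Prime]

theorem gSys_invariant (h : IData F E₁ E₂ p) : (gSys h).IsInvariantIn F := by
  refine Fus93.isInvariantIn_of (gSys_sub h) h.closed (fun P f hf k hk P' hP' => ?_) (gSys_frattini h)
  obtain ⟨ki, -, hkl, -⟩ := hk.exists_inv
  refine ⟨k ∘ f ∘ ki, (isMap_gSys h).mpr (((isMap_gSys h).mp hf).transport h hk hkl P' hP'),
    fun x hx => ?_⟩
  simp only [Function.comp_apply, hkl x (hf.dom_le hx)]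

theorem gSys_ext (h : IData F E₁ E₂ p) {k : Ω → Ω} (hk : IsIso (gSys h) (T₁ ⊓ T₂) (T₁ ⊓ T₂) k) :
    ∃ a : xGrp h (le_refl (T₁ ⊓ T₂)), Set.EqOn
      (autFun (a : MulAut ↥((T₁ ⊓ T₂) ⊔ centralizerIn S (T₁ ⊓ T₂)))) k (T₁ ⊓ T₂ : Subgroup Ω) := by
  obtain ⟨α, hα, hαe⟩ := lGrp_of_igen h ((isMap_gSys h).mp hk.1) rfl
  obtain ⟨a, rfl⟩ := lGrp_le_rho h (wc_w h) hα
  exact ⟨a, fun x hx => (rho_apply h le_rfl a hx).symm.trans (hαe hx)⟩

omit [Finite S] [Fact p.Prime] in
theorem mod_center {R K : Subgroup Ω} {g : Ω → Ω} {F : FusionSystem S}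
    (hg : IsMap F (R ⊔ centralizerIn K R) g) (hgR : g '' (R : Set Ω) = (R : Set Ω))
    (hmod : ∀ x ∈ R ⊔ centralizerIn K R, x⁻¹ * g x ∈ R) {c : Ω} (hc : c ∈ centralizerIn K R) :
    c⁻¹ * g c ∈ R ⊓ Subgroup.centralizer (R : Set Ω) :=
  ⟨hmod c (Subgroup.mem_sup_right hc), Subgroup.mul_mem _ (Subgroup.inv_mem _ hc.2)
    (map_mem_centralizer hg le_sup_left hgR (Subgroup.mem_sup_right hc) hc.2).2⟩

theorem gSys_normal (h : IData F E₁ E₂ p) : (gSys h).IsNormalIn F p := by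
  refine Fus93.isNormalIn_of ⟨gSys_isSaturated h, h.sat, gSys_invariant h⟩ fun k hk => ?_
  obtain ⟨a, hae⟩ := gSys_ext h hk
  exact ⟨_, a.2.1, fun x hx => hae hx, fun c hc => mod_center a.2.1.1
    (LiftI.isIso h.wS a.2).2 a.2.2.1 hc⟩

/-- Normality in one of the two subsystems. -/
theorem gSys_normal_single (h : IData F E₁ E₂ p) (n : NData F E p) (hWT : T₁ ⊓ T₂ ≤ T)
    (hl : ∀ R ψ, LiftI F E₁ E₂ R ψ → IsMap E (R ⊔ centralizerIn T R) ψ) :
    (gSys h).IsNormalIn E p := by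
  haveI := n.finiteT
  have hsub : (gSys h).IsSubsystemOf E := fun _ =>
    hom_subset_of_isMap fun _ hf => ((isMap_gSys h).mp hf).isMap_single h n hWT hl
  have hcl : E.StronglyClosed (T₁ ⊓ T₂) := stronglyClosed_iff.mpr ⟨hWT, fun _ _ hf x hx hxW =>
    h.map_w (hf.of_isSubsystemOf n.sub) hx hxW⟩
  have hinv : StrongInv (gSys h) E := fun P P' Q φ ψ hPQ hQ hφ hφQ hψ hψP =>
    strongInv_of_invariant (gSys_invariant h) P P' Q φ ψ hPQ hQ hφ hφQ (hψ.of_isSubsystemOf n.sub)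
      ⟨hψP.1.of_isSubsystemOf n.sub, hψP.2⟩
  refine Fus93.isNormalIn_of
    ⟨gSys_isSaturated h, n.eSat, invariant_of_strongInv n.tp n.eSat hsub hcl hinv⟩ fun k hk => ?_
  obtain ⟨a, hae⟩ := gSys_ext h hk
  have hiso := isIso_of_mapsTo (hl _ _ a.2) (sup_le hWT inf_le_left)
    (mapsTo_supT n h.wS a.2.1.1 (LiftI.isIso h.wS a.2).2) le_rfl
  refine ⟨_, hiso, fun x hx => hae hx, fun c hc => mod_center hiso.1 (LiftI.isIso h.wS a.2).2
    (fun x hx => a.2.2.1 x (le_supC n _ hx)) hc⟩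

/-- Powers of a map trivial modulo `R`. -/
theorem mod_pow {R D : Subgroup Ω} {γ : MulAut D} (hγ : ∀ x ∈ D, x⁻¹ * autFun γ x ∈ R) (m : ℕ) :
    ∀ x ∈ D, x⁻¹ * autFun (γ ^ m) x ∈ R := by
  induction m with
  | zero => intro x hx; rw [pow_zero, autFun_one hx]; simp
  | succ m ih =>
    intro x hx
    rw [pow_succ', autFun_mul _ _ hx, Function.comp_apply]
    have := R.mul_mem (ih x hx) (hγ _ (autFun_mem_self (γ ^ m) hx))
    convert this using 1
    group

/-- A lift in `F` of order prime to `p` of a map of a normal subsystem lying in `E` is a map of `E`. -/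
theorem lift_single {W : Subgroup Ω} {D : FusionSystem W} (n : NData F E p) (nD : NData E D p)
    {R : Subgroup Ω} (hRn : F.IsFullyNormalized R) (hRW : R ≤ W) (hc : centralizerIn W R ≤ R)
    {α : MulAut R} (hα : α ∈ D.autGroup R) {γ : MulAut ↥(R ⊔ centralizerIn S R)}
    (hγ : γ ∈ F.autGroup (R ⊔ centralizerIn S R)) (hγe : Set.EqOn (autFun γ) (autFun α) R)
    (hγc : ∀ x ∈ R ⊔ centralizerIn S R, x⁻¹ * autFun γ x ∈ R) (hγo : (orderOf γ).Coprime p) :
    IsMap E (R ⊔ centralizerIn T R) (autFun γ) := by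
  haveI := n.finiteT
  have hWT : W ≤ T := nD.tS
  have hRT := hRW.trans hWT
  set P := R ⊔ centralizerIn T R with hP
  have hPT : P ≤ T := sup_le hRT inf_le_left
  have hPS : P ≤ S := hPT.trans n.tS
  haveI := finite_of_le hPS
  haveI := finite_mulAut P
  have hD : R ⊔ centralizerIn S R ≤ S := sup_le hRn.1 (Fusion.centralizerIn_le _ _)
  have hγi := (mem_autGroup hD).mp hγ
  have hle : P ≤ R ⊔ centralizerIn S R := le_supC n R
  have hγR : autFun γ '' (R : Set Ω) = (R : Set Ω) := (Set.image_congr hγe).trans (autFun_image α)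
  have hγP := isIso_of_mapsTo (hγi.1.mono hle) hPS (mapsTo_supT n hRn.1 hγi.1 hγR) le_rfl
  obtain ⟨γT, hγT, hγTe⟩ := hγP.exists_aut
  obtain ⟨γE, hγE, hγEe, hγEc⟩ := nD.exists_lift (n.fullyNormalized_e hRn hRT) hRW hc α hα
  have hγEF : γE ∈ F.autGroup P := autGroup_mono (n.sub P) hγE
  have hγEi := (mem_autGroup hPS).mp hγEF
  have hEmod : ∀ x ∈ P, x⁻¹ * autFun γE x ∈ R := mod_sup
    (inf_le_right.trans (Subgroup.centralizer_le_normalizer _)) hγEi.1
    (fun x hx => hγEe hx ▸ autFun_mem_self α hx) hγEc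
  set δ := γE⁻¹ * γT with hδ
  have hδfix : δ ∈ fixMod P R := by
    refine ⟨fun x hx => Subtype.ext ?_, fun x => ?_⟩
    · rw [← autFun_coe δ, hδ, autFun_mul _ _ x.2, Function.comp_apply, hγTe x.2, hγe hx, ← hγEe hx,
        PrimeIndex.autFun_inv_apply γE x.2]
    · obtain ⟨y, hy, hye⟩ : ∃ y ∈ P, autFun γE y = autFun γT x :=
        hγEi.exists_preimage (autFun_mem_self _ x.2)
      rw [Subgroup.coe_mul, Subgroup.coe_inv, ← autFun_coe δ, hδ, autFun_mul _ _ x.2, Function.comp_apply,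
        ← hye, PrimeIndex.autFun_inv_apply γE hy]
      have h1 := hEmod y hy
      have h2 : (x : Ω)⁻¹ * autFun γT x ∈ R := by rw [hγTe x.2]; exact hγc _ (hle x.2)
      rw [hye] at h1
      have := R.mul_mem h2 (R.inv_mem h1)
      convert this using 1
      group
  obtain ⟨k, hk⟩ := fixMod_isPGroup (p := p) (n.pgroup.to_le hPS) ⟨δ, hδfix⟩
  haveI : ((E.autGroup P).subgroupOf (F.autGroup P)).Normal :=
    ⟨fun u hu v => Subgroup.mem_subgroupOf.mpr
      (autGroup_conj_mem n hPT (Subgroup.mem_subgroupOf.mp hu) v.2)⟩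
  have hTo : (orderOf γT).Coprime p := by
    obtain ⟨m, hm, hme⟩ := cop_of_pow (p := p) hγo hle
    refine Nat.Coprime.coprime_dvd_left
      (orderOf_dvd_of_pow_eq_one (MulEquiv.ext fun x => Subtype.ext ?_)) hm
    rw [← autFun_coe, iterate_autFun hγTe m x x.2, hme x x.2]
    rfl
  have hmem : (⟨γT, hγT⟩ : F.autGroup P) ∈ (E.autGroup P).subgroupOf (F.autGroup P) := by
    refine mem_of_coprime_mod _ (b := ⟨δ, Subgroup.mul_mem _ (Subgroup.inv_mem _ hγEF) hγT⟩)
      (by rwa [← Subgroup.orderOf_coe]) (k := k) (Subtype.ext (by simpa using congrArg Subtype.val hk))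
      (Subgroup.mem_subgroupOf.mpr ?_)
    show δ⁻¹ * γT ∈ E.autGroup P
    rw [show δ⁻¹ * γT = γT⁻¹ * γE * γT⁻¹⁻¹ by rw [hδ]; group]
    exact autGroup_conj_mem n hPT hγE (Subgroup.inv_mem _ hγT)
  exact ((mem_autGroup hPT).mp (Subgroup.mem_subgroupOf.mp hmem)).1.congr hγTe

set_option maxHeartbeats 1000000 in
/-- Every common normal subsystem over `T₁ ∩ T₂` is contained in the intersection system. -/
theorem le_gSys (h : IData F E₁ E₂ p) {D : FusionSystem (T₁ ⊓ T₂)} (hD : D.IsNormalIn F p)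
    (hD₁ : D.IsNormalIn E₁ p) (hD₂ : D.IsNormalIn E₂ p) : D.IsSubsystemOf (gSys h) := by
  haveI := finite_of_le h.wS
  have nF : NData F D p := ⟨h.pgroup, h.sat, hD⟩
  haveI := h.n₁.finiteT
  haveI := h.n₂.finiteT
  have n₁ : NData E₁ D p := ⟨h.n₁.tp, h.n₁.eSat, hD₁⟩
  have n₂ : NData E₂ D p := ⟨h.n₂.tp, h.n₂.eSat, hD₂⟩
  refine le_of_autGroup_le_cr (nF.tp) nF.eSat (gSys h) fun P hPc _ hPn => ?_
  have hPw : Wc F (T₁ ⊓ T₂) P :=
    wc_of_centric (fun Q f hf hQ => invariant_frattini nF.invariant hf hQ) hPc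
  obtain ⟨R, hPR, hRn⟩ := exists_fullyNormalized (F := F) (hPw.1.trans h.wS)
  have hRw := hPw.of_conj h hPR
  obtain ⟨θ, hθ⟩ := isConj_iff.mp hPR
  obtain ⟨θi, hθi, hθl, -⟩ := hθ.exists_inv
  haveI := finite_of_le hRn.1
  haveI := finite_mulAut R
  -- at a fully normalized subgroup
  have hR : ∀ β ∈ D.autGroup R, IGen F E₁ E₂ p R (autFun β) := by
    let K : Subgroup (D.autGroup R) :=
      { carrier := {β | IGen F E₁ E₂ p R (autFun (β : MulAut R))}
        one_mem' := (igen_id hRw.1).congr autFun_one.symm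
        mul_mem' := fun {a b} ha hb =>
          (hb.comp ha fun x hx => autFun_mem_self _ hx).congr (autFun_mul _ _).symm
        inv_mem' := fun {a} ha =>
          IGen.inv ha (autFun_image _) fun x hx => PrimeIndex.autFun_inv_apply _ hx }
    obtain ⟨U, hU⟩ :=
      (fullyAutomized_of_fullyNormalized nF.tp nF.eSat (nF.fullyNormalized_e hRn hRw.1)).2
    have hK : K = ⊤ := by
      refine eq_top_of_sylow_coprime U K (fun β hβ => ?_) fun β hβ => ?_
      · rw [hU, Subgroup.mem_subgroupOf] at hβ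
        obtain ⟨w, hw, hwe⟩ := mem_autInducedBy.mp hβ
        exact (IGen.conj hRw.1 hw).congr fun x hx => by
          rw [autFun_of_mem _ hx]; exact (hwe ⟨x, hx⟩).symm
      · obtain ⟨γ, hγ, hγe, hγc⟩ := nF.exists_lift hRn hRw.1 (hRw.self h.wS) _ β.2
        have hDS : R ⊔ centralizerIn S R ≤ S := sup_le hRn.1 (Fusion.centralizerIn_le _ _)
        haveI := finite_of_le hDS
        haveI := finite_mulAut ↥(R ⊔ centralizerIn S R)
        obtain ⟨m, hm, hme⟩ := exists_pow_coprime (p := p) γ (β : MulAut R) (by rwa [Subgroup.orderOf_coe])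
        have hmod := mod_pow (mod_sup (inf_le_right.trans (Subgroup.centralizer_le_normalizer _))
          ((mem_autGroup hDS).mp hγ).1 (fun x hx => hγe hx ▸ autFun_mem_self _ hx) hγc) m
        have he : Set.EqOn (autFun (γ ^ m)) (autFun (β : MulAut R)) R := by
          have key : ∀ n : ℕ, ∀ x ∈ R, autFun (γ ^ n) x = autFun ((β : MulAut R) ^ n) x := by
            intro n
            induction n with
            | zero =>
              intro x hx
              rw [pow_zero, pow_zero, autFun_one (Subgroup.mem_sup_left hx), autFun_one hx]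
            | succ n ih =>
              intro x hx
              rw [pow_succ, pow_succ, autFun_mul _ _ (Subgroup.mem_sup_left hx), autFun_mul _ _ hx,
                Function.comp_apply, Function.comp_apply, hγe hx, ih _ (autFun_mem_self _ hx)]
          intro x hx
          rw [key m x hx, hme]
        have hpow : γ ^ m ∈ F.autGroup (R ⊔ centralizerIn S R) := Subgroup.pow_mem _ hγ m
        have hlift : LiftI F E₁ E₂ R (autFun (γ ^ m)) :=
          ⟨(mem_autGroup hDS).mp hpow, hmod,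
            lift_single h.n₁ n₁ hRn hRw.1 (hRw.self h.wS) β.2 hpow he hmod hm,
            lift_single h.n₂ n₂ hRn hRw.1 (hRw.self h.wS) β.2 hpow he hmod hm⟩
        obtain ⟨a, ha, hae⟩ := exists_coprime_lift h hRw.1 hlift (cop_of_pow hm le_sup_left)
        exact (IGen.aut (KGen.of_lift h hRw (h.n₁.centralized hRn) a ha) le_rfl).congr fun x hx =>
          (rho_apply h hRw.1 a hx).trans ((hae hx).trans (he hx))
    intro β hβ
    exact hK.ge (Subgroup.mem_top (⟨β, hβ⟩ : D.autGroup R))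
  intro α hα
  have hai := (mem_autGroup hPw.1).mp hα
  obtain ⟨χ, hχ, hχe⟩ := nF.strongInv P R P (autFun α) θ le_rfl hPw.1 hai.1
    (fun x hx => autFun_mem_self α hx) hθ.1 hθ
  have hχR : IsIso D R R χ := isIso_of_mapsTo hχ hRw.1 (fun y hy => by
    obtain ⟨x, hx, rfl⟩ := hθ.exists_preimage hy
    rw [hχe x hx]
    exact hθ.mem (autFun_mem_self α hx)) le_rfl
  obtain ⟨β, hβ, hβe⟩ := hχR.exists_aut
  refine autGroup_mem_of_isMap ((isMap_gSys h).mpr ((igen_conj h hRw.1 hθi (βi := θ) (fun y hy => ?_)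
    (hR β hβ) fun y hy => autFun_mem_self β hy).congr fun x hx => ?_))
  · obtain ⟨x, hx, rfl⟩ := hθ.exists_preimage hy
    rw [hθl x hx]
  · simp only [Function.comp_apply]
    rw [hβe (hθ.mem hx), hχe x hx, hθl _ (autFun_mem_self α hx)]

/-- The intersection of two normal subsystems. -/
theorem exists_inter (hS : IsPGroup p S) (hF : F.IsSaturated p) (h₁ : E₁.IsNormalIn F p)
    (h₂ : E₂.IsNormalIn F p) : ∃ D : FusionSystem (T₁ ⊓ T₂),
      (D.IsNormalIn F p ∧ D.IsNormalIn E₁ p ∧ D.IsNormalIn E₂ p) ∧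
      ∀ D' : FusionSystem (T₁ ⊓ T₂), D'.IsNormalIn F p → D'.IsNormalIn E₁ p → D'.IsNormalIn E₂ p →
        D'.IsSubsystemOf D :=
  let h : IData F E₁ E₂ p := ⟨⟨hS, hF, h₁⟩, ⟨hS, hF, h₂⟩⟩
  ⟨gSys h, ⟨gSys_normal h,
    gSys_normal_single h h.n₁ inf_le_left fun _ _ hl => hl.2.2.1,
    gSys_normal_single h h.n₂ inf_le_right fun _ _ hl => hl.2.2.2⟩,
    fun _ a b c => le_gSys h a b c⟩

end Cfsg.Agent.Fusion.Inter
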