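import Cfsg.Agent.Lib.Fusion.Inter.Extend
import Cfsg.Agent.Lib.Fusion.Alperin

/-!
# Classes of maps: every map of `F` inside `W` is an automorphism of `W` after a generated map,
and the class is well defined on the normalizer of a fully normalized subgroup
-/

set_option autoImplicit false
set_option linter.style.haveILetI false

namespace Cfsg.Agent.Fusion.Inter

open Cfsg Cfsg.Agent.Fusion Cfsg.Agent.Fusion.NormalLift
open Cfsg.FusionSystem (normalizerIn centralizerIn)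

variable {Ω : Type*} [Group Ω] {S T₁ T₂ : Subgroup Ω} {F : FusionSystem S}
  {E₁ : FusionSystem T₁} {E₂ : FusionSystem T₂} {p : ℕ} [Finite S] [Fact p.Prime]

omit [Finite S] [Fact p.Prime] in
theorem card_lt_of_lt {P X : Subgroup Ω} [Finite X] (hlt : P < X) : Nat.card P < Nat.card X :=
  lt_of_le_of_ne (Subgroup.card_le_of_le hlt.le) fun e =>
    hlt.ne (Subgroup.eq_of_le_of_card_ge hlt.le e.ge)

omit [Finite S] [Fact p.Prime] in
theorem IData.nW_le (h : IData F E₁ E₂ p) (P : Subgroup Ω) :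
    normalizerIn (T₁ ⊓ T₂) P ≤ normalizerIn S P :=
  inf_le_inf_right _ h.wS

theorem lt_nW (h : IData F E₁ E₂ p) {P : Subgroup Ω} (hP : P < T₁ ⊓ T₂) :
    Nat.card P < Nat.card (normalizerIn (T₁ ⊓ T₂) P) := by
  haveI := finite_of_le h.wS
  haveI := finite_of_le (Fusion.normalizerIn_le (T₁ ⊓ T₂) P)
  exact card_lt_of_lt (lt_normalizerIn (h.pgroup.to_le h.wS) hP)

omit [Finite S] [Fact p.Prime] in
/-- A map stabilizing `R`, with source in `N_W(R)`, has values in `N_W(R)`. -/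
theorem mem_nW (h : IData F E₁ E₂ p) {R R' M : Subgroup Ω} {f : Ω → Ω} (hf : IsMap F M f) (hRM : R ≤ M)
    (him : f '' (R : Set Ω) = (R' : Set Ω)) {g : Ω} (hg : g ∈ M)
    (hgN : g ∈ normalizerIn (T₁ ⊓ T₂) R) : f g ∈ normalizerIn (T₁ ⊓ T₂) R' :=
  ⟨h.map_w hf hg hgN.1, (map_mem_normalizer hf hRM him hg hgN.2).2⟩

omit [Fact p.Prime] in
theorem isIso_nW (h : IData F E₁ E₂ p) {R : Subgroup Ω} (hR : R ≤ T₁ ⊓ T₂) {f : Ω → Ω}
    (hf : IsMap F (normalizerIn (T₁ ⊓ T₂) R) f) (him : f '' (R : Set Ω) = (R : Set Ω)) :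
    IsIso F (normalizerIn (T₁ ⊓ T₂) R) (normalizerIn (T₁ ⊓ T₂) R) f :=
  isIso_of_mapsTo hf ((Fusion.normalizerIn_le _ _).trans h.wS)
    (fun _ hg => mem_nW h hf (le_normalizerIn hR) him hg hg) le_rfl

/-- An automorphism normalizing `Aut_W(R)` extends to `N_W(R)`. -/
theorem exists_ext_nW (h : IData F E₁ E₂ p) {R : Subgroup Ω} (hRn : F.IsFullyNormalized R)
    (hRW : R ≤ T₁ ⊓ T₂) {n : MulAut R} (hn : n ∈ F.autGroup R)
    (hnn : ∀ a ∈ autInducedBy (T₁ ⊓ T₂) R, n * a * n⁻¹ ∈ autInducedBy (T₁ ⊓ T₂) R) :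
    ∃ f, IsMap F (normalizerIn (T₁ ⊓ T₂) R) f ∧ Set.EqOn f (autFun n) R := by
  have hni := (mem_autGroup hRn.1).mp hn
  obtain ⟨f, hf, hfe⟩ := receptive_extend (h.n₁.recv hRn) hni (M := normalizerIn (T₁ ⊓ T₂) R)
    ⟨(Fusion.normalizerIn_le _ _).trans h.wS, fun g hg => ⟨hg.2, by
      have hmem : conjAutHom (T₁ ⊓ T₂) R ⟨g, hg⟩ ∈ autInducedBy (T₁ ⊓ T₂) R := by
        rw [← range_conjAutHom]; exact ⟨_, rfl⟩
      obtain ⟨g', hg', hge⟩ := mem_autInducedBy.mp (hnn _ hmem)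
      refine ⟨g', h.wS hg', fun x hx => ?_⟩
      have h1 := hge (n ⟨x, hx⟩)
      rw [MulAut.mul_apply, MulAut.mul_apply, MulAut.inv_apply_self, ← autFun_coe n,
        conjAutHom_apply, ← autFun_of_mem n hx] at h1
      exact h1⟩⟩
  exact ⟨f, hf.mono le_sup_right, hfe⟩

set_option maxHeartbeats 1000000 in
/-- Every map of `F` inside `W` is an automorphism of `W` after a generated map. -/
theorem frattini (h : IData F E₁ E₂ p) {P : Subgroup Ω} {f : Ω → Ω} (hP : P ≤ T₁ ⊓ T₂)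
    (hf : IsMap F P f) : ∃ a, Cls F E₁ E₂ p P f a := by
  suffices H : ∀ (n : ℕ) (P : Subgroup Ω) (f : Ω → Ω),
      Nat.card ↥(T₁ ⊓ T₂) - Nat.card P = n → P ≤ T₁ ⊓ T₂ → IsMap F P f → ∃ a, Cls F E₁ E₂ p P f a from
    H _ P f rfl hP hf
  intro n
  induction n using Nat.strong_induction_on with
  | _ n ih =>
  intro P f hn hP hf
  haveI := finite_of_le h.wS
  haveI := finite_of_le (hP.trans h.wS)
  by_cases hPW : P = T₁ ⊓ T₂
  · subst hPW
    exact ⟨f, cls_aut le_rfl (isIso_of_mapsTo hf h.wS (fun _ hx => h.map_w hf hx hx) le_rfl)⟩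
  have hlt : P < T₁ ⊓ T₂ := lt_of_le_of_ne hP hPW
  have hbig : ∀ (X : Subgroup Ω) (u : Ω → Ω), Nat.card P < Nat.card X → X ≤ T₁ ⊓ T₂ → IsMap F X u →
      ∃ a, Cls F E₁ E₂ p X u a := fun X u hc hX hu =>
    ih (Nat.card ↥(T₁ ⊓ T₂) - Nat.card X)
      (by have := Subgroup.card_le_of_le hX; omega) X u rfl hX hu
  obtain ⟨Q, hQ⟩ := hf.exists_image
  obtain ⟨R, hPR, hRn⟩ := exists_fullyNormalized (F := F) hf.dom_le
  have hQW : Q ≤ T₁ ⊓ T₂ := fun y hy => by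
    obtain ⟨x, hx, rfl⟩ := hQ.exists_preimage hy
    exact h.map_w hf hx (hP hx)
  have hfa := fullyAutomized_of_fullyNormalized h.pgroup h.sat hRn
  obtain ⟨θ₁, hθ₁, hθ₁P, -⟩ := exists_normalizer_map h.pgroup hfa (h.n₁.recv hRn) hPR
  obtain ⟨θ₂, hθ₂, hθ₂Q, -⟩ := exists_normalizer_map h.pgroup hfa (h.n₁.recv hRn)
    (isConj_trans (isConj_symm hQ.isConj) hPR)
  have hRW : R ≤ T₁ ⊓ T₂ := fun y hy => by
    obtain ⟨x, hx, rfl⟩ := hθ₁P.exists_preimage hy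
    exact h.map_w hθ₁P.1 hx (hP hx)
  obtain ⟨a₁, hc₁⟩ := hbig _ θ₁ (lt_nW h hlt) (Fusion.normalizerIn_le _ _) (hθ₁.mono (h.nW_le P))
  haveI := finite_of_le (hQW.trans h.wS)
  have hQlt : Q < T₁ ⊓ T₂ := lt_of_le_of_ne hQW fun e => by
    refine hPW (Subgroup.eq_of_le_of_card_ge hP ?_)
    rw [hQ.card_eq, e]
  obtain ⟨a₂, hc₂⟩ := hbig _ θ₂ (hQ.card_eq.symm ▸ lt_nW h hQlt) (Fusion.normalizerIn_le _ _)
    (hθ₂.mono (h.nW_le Q))
  obtain ⟨θ₁i, hθ₁i, hl₁, -⟩ := hθ₁P.exists_inv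
  obtain ⟨θ₂i, hθ₂i, hl₂, -⟩ := hθ₂Q.exists_inv
  have hx : IsIso F R R (θ₂ ∘ f ∘ θ₁i) := (hθ₁i.comp hQ).comp hθ₂Q
  obtain ⟨a, hc⟩ : ∃ a, Cls F E₁ E₂ p R (θ₂ ∘ f ∘ θ₁i) a := by
    by_cases hcw : centralizerIn (T₁ ⊓ T₂) R ≤ R
    · have hwc := wc_of_fullyNormalized h hRn hRW hcw
      obtain ⟨x, hxF, hxe⟩ := hx.exists_aut
      obtain ⟨ν, hν, α, hα, hνn, hxν⟩ := lGrp_decomp h hRn hwc hxF
      obtain ⟨f', hf', hf'e⟩ := exists_ext_nW h hRn hRW hν hνn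
      have hRlt : R < T₁ ⊓ T₂ := lt_of_le_of_ne hRW fun e => hPW
        (Subgroup.eq_of_le_of_card_ge hP (by rw [hθ₁P.card_eq, e]))
      obtain ⟨a, hc⟩ := hbig _ f' (hθ₁P.card_eq.symm ▸ lt_nW h hRlt) (Fusion.normalizerIn_le _ _) hf'
      refine ⟨a ∘ id, ((cls_of_gen h (igen_of_lGrp h hwc (h.n₁.centralized hRn) hα)).comp h
        (hc.mono h (le_normalizerIn hRW)) fun y hy => autFun_mem_self _ hy).congr fun y hy => ?_⟩
      rw [← hxe hy, hxν, autFun_mul _ _ hy, Function.comp_apply, Function.comp_apply,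
        hf'e (autFun_mem_self _ hy)]
    · obtain ⟨θ, -, hθe, hθD, -⟩ := exists_extend_centralizer h.pgroup h.sat hx
        (h.n₁.centralized hRn) (h.n₁.centralized hRn)
      have hXlt : R < R ⊔ centralizerIn (T₁ ⊓ T₂) R :=
        lt_of_le_of_ne le_sup_left fun e => hcw (le_sup_right.trans e.ge)
      have hXW : R ⊔ centralizerIn (T₁ ⊓ T₂) R ≤ T₁ ⊓ T₂ := sup_le hRW inf_le_left
      haveI := finite_of_le (hXW.trans h.wS)
      obtain ⟨a, hc⟩ := hbig _ θ (hθ₁P.card_eq.symm ▸ card_lt_of_lt hXlt) hXW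
        (hθD.1.mono (sup_le_sup_left (inf_le_inf_right _ h.wS) R))
      exact ⟨a, (hc.mono h le_sup_left).congr hθe⟩
  have hd₁ : Cls F E₁ E₂ p P θ₁ a₁ := hc₁.mono h (le_normalizerIn hP)
  have hd₂ : Cls F E₁ E₂ p Q θ₂ a₂ := hc₂.mono h (le_normalizerIn hQW)
  obtain ⟨a₂i, -, hal, -⟩ := hd₂.1.exists_inv
  have hd₂i : Cls F E₁ E₂ p R θ₂i a₂i := hd₂.inv h hθ₂Q hl₂ hal
  refine ⟨a₂i ∘ (a ∘ a₁), ((hd₁.comp h hc fun x hx => hθ₁P.mem hx).comp h hd₂i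
    fun x hx' => hx.mem (hθ₁P.mem hx')).congr fun x hx' => ?_⟩
  simp only [Function.comp_apply]
  rw [hl₁ x hx', hl₂ _ (hQ.mem hx')]

/-! ### Pairs -/

/-- `x` on `R` is an automorphism of `N_W(R)` of class `a` after an element of `L₀(R)`. -/
def Pair (h : IData F E₁ E₂ p) {R : Subgroup Ω} (hR : R ≤ T₁ ⊓ T₂) (x a : Ω → Ω) : Prop :=
  ∃ σ α, Cls F E₁ E₂ p (normalizerIn (T₁ ⊓ T₂) R) σ a ∧ σ '' (R : Set Ω) = (R : Set Ω) ∧
    α ∈ lGrp h hR ∧ Set.EqOn x (σ ∘ autFun α) R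

section Pairs

variable {h : IData F E₁ E₂ p} {R : Subgroup Ω}

omit [Fact p.Prime] in
theorem Pair.congr {hR : R ≤ T₁ ⊓ T₂} {x x' a : Ω → Ω} (hx : Pair h hR x a)
    (he : Set.EqOn x x' R) : Pair h hR x' a :=
  let ⟨σ, α, h1, h2, h3, h4⟩ := hx
  ⟨σ, α, h1, h2, h3, he.symm.trans h4⟩

omit [Fact p.Prime] in
theorem Pair.congr_aut {hR : R ≤ T₁ ⊓ T₂} {x a a' : Ω → Ω} (hx : Pair h hR x a)
    (he : Set.EqOn a a' (T₁ ⊓ T₂ : Subgroup Ω)) : Pair h hR x a' :=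
  let ⟨σ, α, h1, h2, h3, h4⟩ := hx
  ⟨σ, α, h1.congr_aut h he, h2, h3, h4⟩

omit [Fact p.Prime] in
theorem pair_of_cls {hR : R ≤ T₁ ⊓ T₂} {σ a : Ω → Ω}
    (hc : Cls F E₁ E₂ p (normalizerIn (T₁ ⊓ T₂) R) σ a) (hσ : σ '' (R : Set Ω) = (R : Set Ω)) :
    Pair h hR σ a :=
  ⟨σ, 1, hc, hσ, Subgroup.one_mem _, fun x hx => by rw [Function.comp_apply, autFun_one hx]; rfl⟩

omit [Fact p.Prime] in
theorem pair_of_lGrp {hR : R ≤ T₁ ⊓ T₂} {α : MulAut R} (hα : α ∈ lGrp h hR) :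
    Pair h hR (autFun α) id :=
  ⟨id, α, cls_of_gen h (igen_id (Fusion.normalizerIn_le _ _)), Set.image_id _, hα, fun _ _ => rfl⟩

theorem Pair.comp {hR : Wc F (T₁ ⊓ T₂) R} (hRn : F.IsFullyNormalized R) {x x' a a' : Ω → Ω}
    (hx : Pair h hR.1 x a) (hx' : Pair h hR.1 x' a') : Pair h hR.1 (x' ∘ x) (a' ∘ a) := by
  obtain ⟨σ, α, hσ, hσR, hα, he⟩ := hx
  obtain ⟨σ', α', hσ', hσ'R, hα', he'⟩ := hx'
  have hRN := le_normalizerIn hR.1 (K := T₁ ⊓ T₂)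
  obtain ⟨β, hβ, hβe⟩ := (show IsIso F R R σ from ⟨(hσ.isMap h).mono hRN, hσR⟩).exists_aut
  refine ⟨σ' ∘ σ, β⁻¹ * α' * β * α, hσ.comp h hσ'
    (fun y hy => (isIso_nW h hR.1 (hσ.isMap h) hσR).mem hy),
    by rw [Set.image_comp, hσR, hσ'R], Subgroup.mul_mem _ ?_ hα, fun y hy => ?_⟩
  · simpa using lGrp_conj h hRn hR (Subgroup.inv_mem _ hβ) hα'
  · have h1 := autFun_mem_self α hy
    have h2 : autFun β (autFun (β⁻¹ * α' * β * α) y) = autFun α' (autFun β (autFun α y)) := by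
      rw [← Function.comp_apply (f := autFun β), ← autFun_mul _ _ hy,
        show β * (β⁻¹ * α' * β * α) = α' * (β * α) by group, autFun_mul _ _ hy, Function.comp_apply,
        autFun_mul _ _ hy, Function.comp_apply]
    simp only [Function.comp_apply]
    rw [he hy, Function.comp_apply, he' (hβe h1 ▸ autFun_mem_self β h1), Function.comp_apply, ← hβe h1,
      ← h2, hβe (autFun_mem_self _ hy)]

theorem Pair.inv {hR : Wc F (T₁ ⊓ T₂) R} (hRn : F.IsFullyNormalized R) {x xi a ai : Ω → Ω}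
    (hx : Pair h hR.1 x a) (hl : ∀ y ∈ R, xi (x y) = y) (hal : ∀ y ∈ T₁ ⊓ T₂, ai (a y) = y) :
    Pair h hR.1 xi ai := by
  obtain ⟨σ, α, hσ, hσR, hα, he⟩ := hx
  have hRN := le_normalizerIn hR.1 (K := T₁ ⊓ T₂)
  have hi := isIso_nW h hR.1 (hσ.isMap h) hσR
  obtain ⟨σi, hσi, hσl, -⟩ := hi.exists_inv
  obtain ⟨β, hβ, hβe⟩ := (show IsIso F R R σ from ⟨hi.1.mono hRN, hσR⟩).exists_aut
  refine ⟨σi, β * α⁻¹ * β⁻¹, hσ.inv h hi hσl hal, ?_,
    lGrp_conj h hRn hR hβ (Subgroup.inv_mem _ hα), fun y hy => ?_⟩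
  · conv_lhs => rw [← hσR, ← Set.image_comp]
    exact (Set.image_congr fun z hz => hσl z (hRN hz)).trans (Set.image_id _)
  · obtain ⟨z, hz, rfl⟩ : ∃ z ∈ R, x z = y := by
      refine ⟨autFun (α⁻¹ * β⁻¹) y, autFun_mem_self _ hy, ?_⟩
      have h1 := autFun_mem_self (α⁻¹ * β⁻¹) hy
      rw [he h1, Function.comp_apply, ← hβe (autFun_mem_self _ h1), ← Function.comp_apply (f := autFun β),
        ← autFun_mul _ _ h1, ← Function.comp_apply (f := autFun (β * α)), ← autFun_mul _ _ hy,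
        show β * α * (α⁻¹ * β⁻¹) = 1 by group, autFun_one hy, id]
    have h1 := autFun_mem_self α hz
    rw [hl z hz, he hz]
    simp only [Function.comp_apply]
    rw [← hβe h1]
    rw [autFun_mul _ _ (autFun_mem_self _ h1), Function.comp_apply, PrimeIndex.autFun_inv_apply β h1,
      autFun_mul _ _ h1, Function.comp_apply, PrimeIndex.autFun_inv_apply α hz, hβe hz, hσl z (hRN hz)]

end Pairs

/-- Generated maps at `P` extend, as generated maps, wherever they extend in `F`. -/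
def RecvAt (F : FusionSystem S) (E₁ : FusionSystem T₁) (E₂ : FusionSystem T₂) (p : ℕ) (P : Subgroup Ω) :
    Prop :=
  ∀ (Y : Subgroup Ω) (f F₁ : Ω → Ω), IGen F E₁ E₂ p P f → P ≤ Y → Y ≤ normalizerIn (T₁ ⊓ T₂) P →
    IsMap F Y F₁ → Set.EqOn F₁ f P → ∃ g, IGen F E₁ E₂ p Y g ∧ Set.EqOn g f P

set_option maxHeartbeats 1000000 in
/-- The key step for `M` fully normalized in the normalizer system. -/
theorem key_nice (h : IData F E₁ E₂ p) {R : Subgroup Ω} (hRn : F.IsFullyNormalized R)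
    (hR : Wc F (T₁ ⊓ T₂) R)
    (hrec : ∀ P : Subgroup Ω, Nat.card R < Nat.card P → Wc F (T₁ ⊓ T₂) P → RecvAt F E₁ E₂ p P)
    {M : Subgroup Ω} {σ a : Ω → Ω} (hRM : R < M) (hMN : M ≤ normalizerIn (T₁ ⊓ T₂) R)
    (hMne : M ≠ normalizerIn (T₁ ⊓ T₂) R)
    (hMn : (normalizerSystem F R hRn.1).IsFullyNormalized M)
    (hbig : ∀ (Y : Subgroup Ω) (τ b : Ω → Ω), Nat.card M < Nat.card Y → R ≤ Y →
      Y ≤ normalizerIn (T₁ ⊓ T₂) R → Cls F E₁ E₂ p Y τ b → τ '' (R : Set Ω) = (R : Set Ω) →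
      Pair h hR.1 τ b)
    (hc : Cls F E₁ E₂ p M σ a) (hσR : σ '' (R : Set Ω) = (R : Set Ω)) : Pair h hR.1 σ a := by
  set N₀ := normalizerIn (T₁ ⊓ T₂) R with hN₀
  haveI := finite_of_le hRn.1
  have hRN : R ≤ N₀ := le_normalizerIn hR.1
  have hMS : M ≤ S := hMN.trans (inf_le_left.trans h.wS)
  haveI := finite_of_le hMS
  have hσm := hc.isMap h
  obtain ⟨x, hxF, hxe⟩ := (show IsIso F R R σ from ⟨hσm.mono hRM.le, hσR⟩).exists_aut
  obtain ⟨ν, hν, α, hα, hνn, hxν⟩ := lGrp_decomp h hRn hR hxF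
  obtain ⟨f', hf', hf'e⟩ := exists_ext_nW h hRn hR.1 hν hνn
  obtain ⟨an, hcn⟩ := frattini h (Fusion.normalizerIn_le _ _) hf'
  have hf'R : f' '' (R : Set Ω) = (R : Set Ω) := (Set.image_congr hf'e).trans (autFun_image _)
  have hfi := isIso_nW h hR.1 hf' hf'R
  obtain ⟨f'i, hf'i, hfl, -⟩ := hfi.exists_inv
  have hσN : ∀ m ∈ M, σ m ∈ N₀ := fun m hm => mem_nW h hσm hRM.le hσR hm (hMN hm)
  have hσα : ∀ y ∈ R, σ y = f' (autFun α y) := fun y hy => by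
    rw [← hxe hy, hxν, autFun_mul _ _ hy, Function.comp_apply, hf'e (autFun_mem_self _ hy)]
  have hconj : ∀ m ∈ M, ∃ w ∈ N₀, ∀ y ∈ R, autFun α (m * y * m⁻¹) = w * autFun α y * w⁻¹ := by
    intro m hm
    refine ⟨f'i (σ m), hf'i.mem (hσN m hm), fun y hy => ?_⟩
    have hy' : m * y * m⁻¹ ∈ R := conj_mem_of_mem_normalizer (hMN hm).2 hy
    rw [← hfl _ (hRN (autFun_mem_self α hy')), ← hσα _ hy', hσm.map_conj hm (hRM.le hy),
      hf'i.1.map_conj (hσN m hm) (hσN y (hRM.le hy)), hσα y hy, hfl _ (hRN (autFun_mem_self α hy))]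
  obtain ⟨g₁, hg₁, hg₁e⟩ := extend_of_lGrp h hRn hR hRM.le hMN hα hconj
  have hg₁R : g₁ '' (R : Set Ω) = (R : Set Ω) := (Set.image_congr hg₁e).trans (autFun_image _)
  have hg₁N : ∀ m ∈ M, g₁ m ∈ N₀ := fun m hm => mem_nW h (hg₁.isMap h) hRM.le hg₁R hm (hMN hm)
  set k := f' ∘ g₁ with hk
  have hkc : Cls F E₁ E₂ p M k (an ∘ id) := (cls_of_gen h hg₁).comp h hcn hg₁N
  have hkσ : ∀ y ∈ R, k y = σ y := fun y hy => by rw [hσα y hy, hk, Function.comp_apply, hg₁e hy]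
  obtain ⟨M₁, hM₁⟩ := hσm.exists_image
  have hdiff : ∀ m ∈ M, (σ m)⁻¹ * k m ∈ R := by
    intro m hm
    refine hR.self h.wS (inv_mul_mem_centralizerIn (hfi.mem (hg₁N m hm)).1 (hσN m hm).1 fun z hz => ?_)
    obtain ⟨y, hy, rfl⟩ : ∃ y ∈ R, σ y = z := by
      have : z ∈ σ '' (R : Set Ω) := hσR.symm ▸ hz
      obtain ⟨y, hy, rfl⟩ := this
      exact ⟨y, hy, rfl⟩
    have hy' : m * y * m⁻¹ ∈ R := conj_mem_of_mem_normalizer (hMN hm).2 hy
    rw [← hσm.map_conj hm (hRM.le hy), ← hkσ _ hy', ← hkσ y hy, (hkc.isMap h).map_conj hm (hRM.le hy)]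
  have hRM₁ : R ≤ M₁ := fun z hz => by
    have : z ∈ σ '' (R : Set Ω) := hσR.symm ▸ hz
    obtain ⟨y, hy, rfl⟩ := this
    exact hM₁.mem (hRM.le hy)
  have hkM : IsIso F M M₁ k := isIso_of_mapsTo (hkc.isMap h) hM₁.cod_le (fun m hm => by
    have := M₁.mul_mem (hM₁.mem hm) (hRM₁ (hdiff m hm))
    rwa [mul_inv_cancel_left] at this) hM₁.card_eq.ge
  obtain ⟨ki, hki, hkl, hkr⟩ := hkM.exists_inv
  obtain ⟨ani, -, hanl, hanr⟩ := hcn.1.exists_inv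
  have hδi : IsIso F M M (ki ∘ σ) := hM₁.comp hki
  have hδc : Cls F E₁ E₂ p M (ki ∘ σ) (ani ∘ a) :=
    hc.comp h (hkc.inv h hkM hkl fun y hy => hanl y hy) fun m hm => hM₁.mem hm
  have hδR : ∀ y ∈ R, ki (σ y) = y := fun y hy => by rw [← hkσ y hy, hkl y (hRM.le hy)]
  obtain ⟨he, g, hg, hge⟩ := hδc
  set e := ani ∘ a with hedef
  obtain ⟨ei, hei, hel, -⟩ := he.exists_inv
  haveI := finite_of_le (Fusion.normalizerIn_le S R)
  have hNp := h.pgroup.to_le (Fusion.normalizerIn_le S R)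
  have hMS' : M ≤ normalizerIn S R := hMN.trans (h.nW_le R)
  have hδN : IsIso (normalizerSystem F R hRn.1) M M (ki ∘ σ) :=
    ⟨isMap_normalizerSystem_of_le hRn.1 hδi.1 hRM.le hMS'
      ((Set.image_congr hδR).trans (Set.image_id' _)), hδi.2⟩
  obtain ⟨c, hcC, -, hce⟩ := exists_centralizer_conj hNp
    (normalizerSystem_isSaturated h.pgroup h.sat hRn) hMn hRM.le
    (fun β hβ z hz => by
      rw [← SetLike.mem_coe, ← ((mem_stabAut hRn.1 hRM.le hMS').mp hβ).2]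
      exact ⟨z, hz, rfl⟩) hδN hδR
    (fun m hm => hR.self h.wS (inv_mul_mem_centralizerIn (hMN (hδi.mem hm)).1 (hMN hm).1 fun z hz => by
      have hz' : m * z * m⁻¹ ∈ R := conj_mem_of_mem_normalizer (hMN hm).2 hz
      have h1 := hδi.1.map_conj hm (hRM.le hz)
      simp only [Function.comp_apply] at h1 ⊢
      rw [hδR _ hz', hδR z hz] at h1
      exact h1.symm))
  -- extend `g` to the normalizer of `M`
  set Y := normalizerIn N₀ M with hY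
  have hYN : Y ≤ N₀ := Fusion.normalizerIn_le _ _
  have hN₀S : N₀ ≤ S := inf_le_left.trans h.wS
  haveI := finite_of_le hN₀S
  haveI := finite_of_le (hYN.trans hN₀S)
  have hMY : Nat.card M < Nat.card Y :=
    card_lt_of_lt (lt_normalizerIn (h.pgroup.to_le hN₀S) (lt_of_le_of_ne hMN hMne))
  have hcW : ∀ y ∈ Y, c * y * c⁻¹ ∈ T₁ ⊓ T₂ := fun y hy =>
    h.map_w (isMap_conj (F := F) h.wS hcC.1.1) (hYN hy).1 (hYN hy).1
  have hF₁ : IsMap F Y (ei ∘ fun y => c * y * c⁻¹) :=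
    (isMap_conj (hYN.trans hN₀S) hcC.1.1).comp hei.1 hcW
  obtain ⟨g₂, hg₂, hg₂e⟩ := hrec M (card_lt_of_lt hRM) (hR.of_le h hRM.le (hMN.trans inf_le_left)) Y g _
    hg (le_normalizerIn hMN) (inf_le_inf_right _ (Fusion.normalizerIn_le _ _)) hF₁ (fun m hm => by
      rw [Function.comp_apply, ← hce m hm, hge hm, Function.comp_apply]
      exact hel _ (hg.apply_mem h hm))
  have hcY : Cls F E₁ E₂ p Y (e ∘ g₂) (e ∘ id) :=
    (cls_of_gen h hg₂).comp h (cls_aut le_rfl he) fun y hy => hg₂.apply_mem h hy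
  have heR : ∀ y ∈ R, e (g₂ y) = y := fun y hy => by
    rw [hg₂e (hRM.le hy)]
    exact (hge (hRM.le hy)).symm.trans (hδR y hy)
  have hp₁ : Pair h hR.1 (e ∘ g₂) (e ∘ id) := hbig Y _ _ hMY (hRM.le.trans (le_normalizerIn hMN)) hYN hcY
    ((Set.image_congr heR).trans (Set.image_id' _))
  refine ((Pair.comp (hR := hR) hRn hp₁ (pair_of_lGrp hα)).comp (hR := hR) hRn (pair_of_cls hcn hf'R)).congr (fun y hy => ?_)
    |>.congr_aut fun y hy => ?_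
  · simp only [Function.comp_apply]
    rw [heR y hy, hσα y hy]
  · simp only [Function.comp_apply, id, hedef]
    exact hanr _ (hc.1.mem hy)

set_option maxHeartbeats 1000000 in
/-- The class is well defined at `R`. -/
theorem key (h : IData F E₁ E₂ p) {R : Subgroup Ω} (hRn : F.IsFullyNormalized R)
    (hR : Wc F (T₁ ⊓ T₂) R)
    (hrec : ∀ P : Subgroup Ω, Nat.card R < Nat.card P → Wc F (T₁ ⊓ T₂) P → RecvAt F E₁ E₂ p P)
    {M : Subgroup Ω} {σ a : Ω → Ω} (hRM : R ≤ M) (hMN : M ≤ normalizerIn (T₁ ⊓ T₂) R)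
    (hne : R ≠ M ∨ M = normalizerIn (T₁ ⊓ T₂) R)
    (hc : Cls F E₁ E₂ p M σ a) (hσR : σ '' (R : Set Ω) = (R : Set Ω)) : Pair h hR.1 σ a := by
  suffices H : ∀ (n : ℕ) (M : Subgroup Ω) (σ a : Ω → Ω),
      Nat.card (normalizerIn (T₁ ⊓ T₂) R) - Nat.card M = n → R ≤ M → M ≤ normalizerIn (T₁ ⊓ T₂) R →
      (R ≠ M ∨ M = normalizerIn (T₁ ⊓ T₂) R) → Cls F E₁ E₂ p M σ a → σ '' (R : Set Ω) = (R : Set Ω) →
      Pair h hR.1 σ a from H _ M σ a rfl hRM hMN hne hc hσR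
  intro n
  induction n using Nat.strong_induction_on with
  | _ n ih =>
  intro M σ a hn hRM hMN hne hc hσR
  by_cases hMe : M = normalizerIn (T₁ ⊓ T₂) R
  · subst hMe
    exact pair_of_cls hc hσR
  have hN₀S : normalizerIn (T₁ ⊓ T₂) R ≤ S := inf_le_left.trans h.wS
  haveI := finite_of_le hN₀S
  haveI := finite_of_le (hMN.trans hN₀S)
  haveI := finite_of_le hRn.1
  have hlt : R < M := lt_of_le_of_ne hRM (hne.resolve_right hMe)
  have hbig : ∀ (Y : Subgroup Ω) (τ b : Ω → Ω), Nat.card M < Nat.card Y → R ≤ Y →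
      Y ≤ normalizerIn (T₁ ⊓ T₂) R → Cls F E₁ E₂ p Y τ b → τ '' (R : Set Ω) = (R : Set Ω) →
      Pair h hR.1 τ b := fun Y τ b hMY hRY hY hτ hτR =>
    ih (Nat.card (normalizerIn (T₁ ⊓ T₂) R) - Nat.card Y)
      (by have := Subgroup.card_le_of_le hY; omega) Y τ b rfl hRY hY
      (Or.inl fun e => by subst e; have := card_lt_of_lt hlt; omega) hτ hτR
  haveI := finite_of_le (Fusion.normalizerIn_le S R)
  have hNp := h.pgroup.to_le (Fusion.normalizerIn_le S R)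
  have hNsat := normalizerSystem_isSaturated h.pgroup h.sat hRn
  obtain ⟨M₀, hM₀c, hM₀n⟩ :=
    exists_fullyNormalized (F := normalizerSystem F R hRn.1) (hMN.trans (h.nW_le R))
  obtain ⟨τ, hτ, hτM, -⟩ := exists_normalizer_map hNp (fullyAutomized_of_fullyNormalized hNp hNsat hM₀n)
    (receptive_of_fullyNormalized hNp hNsat hM₀n) hM₀c
  set Y := normalizerIn (normalizerIn (T₁ ⊓ T₂) R) M with hY
  have hYle : Y ≤ normalizerIn (normalizerIn S R) M := inf_le_inf_right _ (h.nW_le R)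
  have hYN : Y ≤ normalizerIn (T₁ ⊓ T₂) R := Fusion.normalizerIn_le _ _
  haveI := finite_of_le (hYN.trans hN₀S)
  have hMY : Nat.card M < Nat.card Y :=
    card_lt_of_lt (lt_normalizerIn (h.pgroup.to_le hN₀S) (lt_of_le_of_ne hMN hMe))
  have hτR := image_of_normalizerSystem (hτ.mono hYle) (hRM.trans (le_normalizerIn hMN))
  have hτY : IsMap F Y τ := (isMap_normalizerSystem.mp (hτ.mono hYle)).1
  have hτMF : IsIso F M M₀ τ := ⟨hτY.mono (le_normalizerIn hMN), hτM.2⟩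
  obtain ⟨b, hb⟩ := frattini h (hYN.trans inf_le_left) hτY
  have hpτ : Pair h hR.1 τ b := hbig Y τ b hMY (hRM.trans (le_normalizerIn hMN)) hYN hb hτR
  obtain ⟨τi, hτi, hτl, -⟩ := hτMF.exists_inv
  obtain ⟨bi, -, hbl, -⟩ := hb.1.exists_inv
  have hτiR : τi '' (R : Set Ω) = (R : Set Ω) := by
    conv_lhs => rw [← hτR, ← Set.image_comp]
    exact (Set.image_congr fun z hz => hτl z (hRM hz)).trans (Set.image_id _)
  have hM₀N : M₀ ≤ normalizerIn (T₁ ⊓ T₂) R := fun y hy => by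
    obtain ⟨x, hx, rfl⟩ := hτMF.exists_preimage hy
    exact mem_nW h hτY (hRM.trans (le_normalizerIn hMN)) hτR (le_normalizerIn hMN hx) (hMN hx)
  have hRM₀ : R ≤ M₀ := fun y hy => by
    have : y ∈ τ '' (R : Set Ω) := hτR.symm ▸ hy
    obtain ⟨x, hx, rfl⟩ := this
    exact hτMF.mem (hRM hx)
  have hlt₀ : R < M₀ := lt_of_le_of_ne hRM₀ fun e => by
    have := card_lt_of_lt hlt
    rw [hτMF.card_eq, ← e] at this
    exact lt_irrefl _ this
  have hne₀ : M₀ ≠ normalizerIn (T₁ ⊓ T₂) R := fun e =>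
    hMe (Subgroup.eq_of_le_of_card_ge hMN (by rw [hτMF.card_eq, e]))
  have hp₀ : Pair h hR.1 (σ ∘ τi) (a ∘ bi) := key_nice h hRn hR hrec hlt₀ hM₀N hne₀ hM₀n
    (fun Y' τ' b' hc' => hbig Y' τ' b' (hτMF.card_eq.trans_lt hc'))
    (((hb.mono h (le_normalizerIn hMN)).inv h hτMF hτl hbl).comp h hc fun y hy => hτi.mem hy)
    (by rw [Set.image_comp, hτiR, hσR])
  refine ((Pair.comp (hR := hR) hRn hpτ hp₀).congr fun y hy => ?_).congr_aut fun y hy => ?_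
  · simp only [Function.comp_apply, hτl y (hRM hy)]
  · simp only [Function.comp_apply, hbl y hy]

end Cfsg.Agent.Fusion.Inter
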