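import Cfsg.Agent.Lib.Fusion.Inter.Main
import Cfsg.Agent.Lib.Fusion.Quasisimple
import Cfsg.Agent.Fusion91.Factor
import Cfsg.Agent.S5140
import Cfsg.Agent.S5141
import Cfsg.Agent.S5148

/-!
# A component meets a normal subsystem centrally or lies in it
-/

set_option autoImplicit false
set_option linter.style.haveILetI false

namespace Cfsg.Agent.Fusion.Inter

open Cfsg Cfsg.Agent.Fusion Cfsg.Agent.Fusion.NormalLift
open Cfsg.FusionSystem (normalizerIn centralizerIn imageAlong preimageAlong)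

variable {Ω : Type*} [Group Ω] {S U : Subgroup Ω} {F : FusionSystem S} {E : FusionSystem U} {p : ℕ}

/-- A map fixes the central elements of its source. -/
theorem map_fix_central {Z : Subgroup Ω} (hZ : F.IsCentral Z) {P : Subgroup Ω} {f : Ω → Ω}
    (hf : IsMap F P f) {x : Ω} (hx : x ∈ P) (hxZ : x ∈ Z) : f x = x := by
  obtain ⟨f', -, he, hfx⟩ := (isCentral_iff.1 hZ).2 P f hf
  rw [← he hx]
  exact hfx x hxZ

variable [Finite S] [Fact p.Prime]

set_option maxHeartbeats 1000000 in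
/-- In a quasisimple system a normal subsystem is central or everything. -/
theorem normal_of_quasisimple (hS : IsPGroup p S) (hq : F.Quasisimple p) (hE : E.IsNormalIn F p) :
    U ≤ F.center ∨ (S ≤ U ∧ F.IsSubsystemOf E) := by
  have hq₀ := hq
  obtain ⟨hF, hhyp, hsimp⟩ := hq
  have n : NData F E p := ⟨hS, hF, hE⟩
  have hUS : U ≤ S := n.tS
  haveI := n.finiteT
  set Z := F.center with hZd
  have hZc : F.IsCentral Z := Fusion91.isCentral_center F
  have hZcl := Fusion91.stronglyClosed_center F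
  obtain ⟨Q, hQ⟩ := Fusion91.exists_factor_mk' F hZcl
  have hα := S5134.result p hS F hF Z hZcl _ Q hQ
  obtain ⟨hQs, -, hsm⟩ := hsimp Q hQ
  set θ := QuotientGroup.mk' (Z.subgroupOf S) with hθ
  set θU := θ.comp (Subgroup.inclusion hUS) with hθU
  have hker : ∀ u : U, θU u = 1 ↔ (u : Ω) ∈ U ⊓ Z := fun u => by
    rw [hθU, MonoidHom.comp_apply, hQ.2.1]
    exact ⟨fun h => ⟨u.2, h⟩, fun h => h.2⟩
  have hcl : E.StronglyClosed (U ⊓ Z) := stronglyClosed_iff.mpr ⟨inf_le_left, fun P f hf x hx hxZ => by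
    rw [map_fix_central hZc (hf.of_isSubsystemOf n.sub) hx hxZ.2]
    exact hxZ⟩
  set U' := θU.range with hU'
  set Eb := Fusion91.factorSys E hcl θU hker (rfl : θU.range = U') with hEb
  have hEbf := Fusion91.factorSys_isFactor E hcl θU hker (rfl : θU.range = U')
  have hαU := S5134.result p n.tp E n.eSat (U ⊓ Z) hcl θU Eb hEbf
  have hpush : ∀ {x : Ω}, x ∈ U → Fusion91.push θU x = Fusion91.push θ x := fun {x} hx => by
    rw [Fusion91.push_of_mem hx, Fusion91.push_of_mem (hUS hx)]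
    rfl
  have hU'mem : ∀ {y : S ⧸ Z.subgroupOf S}, y ∈ U' ↔ ∃ u ∈ U, Fusion91.push θ u = y := fun {y} => by
    refine ⟨fun hy => ?_, fun ⟨u, hu, he⟩ => ⟨⟨u, hu⟩, ?_⟩⟩
    · obtain ⟨u, hu, he⟩ := Fusion91.exists_push_eq (α := θU) rfl hy
      exact ⟨u, hu, (hpush hu).symm.trans he⟩
    · rw [← he, ← hpush hu, Fusion91.push_of_mem hu]
  -- the image system is a subsystem
  have hsub : Eb.IsSubsystemOf Q := fun P => hom_subset_of_isMap fun g hg => by
    obtain ⟨f, hf, hfe⟩ := Fusion91.exists_lift_map hαU hg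
    obtain ⟨g', hg', hg'e⟩ := Fusion91.exists_push_map hα (hf.of_isSubsystemOf n.sub)
    have hP : P ≤ imageAlong θ (preimageAlong θU P) := fun y hy => by
      obtain ⟨u, hu, rfl⟩ := Fusion91.exists_push_eq (α := θU) rfl (hg.dom_le hy)
      rw [hpush hu]
      exact (Fusion91.mem_imageAlong_push (hf.dom_le.trans hUS)).mpr
        ⟨u, Fusion91.mem_preimage_push.mpr ⟨hu, hy⟩, rfl⟩
    refine (hg'.mono hP).congr fun y hy => ?_
    obtain ⟨u, hu, rfl⟩ := Fusion91.exists_push_eq (α := θU) rfl (hg.dom_le hy)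
    have hu' := Fusion91.mem_preimage_push.mpr ⟨hu, hy⟩
    rw [← hfe u hu', hpush (hf.apply_mem hu'), hpush hu, hg'e u hu']
  have hclosed : Q.StronglyClosed U' := stronglyClosed_iff.mpr ⟨le_top, fun P g hg y hy hyU => by
    obtain ⟨u, hu, rfl⟩ := hU'mem.mp hyU
    obtain ⟨f, hf, hfe⟩ := Fusion91.exists_lift_map hα hg
    have hu' := Fusion91.mem_preimage_push.mpr ⟨hUS hu, hy⟩
    exact hU'mem.mpr ⟨f u, Fusion92.closed_apply n.closed hf hu' hu, hfe u hu'⟩⟩
  have hinv : Eb.IsInvariantIn Q := by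
    refine Fus93.isInvariantIn_of hsub hclosed (fun P g hg k hk P' hP' => ?_) fun P g hg hP => ?_
    · obtain ⟨fk, hfk, hfke⟩ := Fusion91.exists_lift_map hα hk.1
      obtain ⟨f, hf, hfe⟩ := Fusion91.exists_lift_map hαU hg
      have hUpre : U ≤ preimageAlong θ U' := fun u hu =>
        Fusion91.mem_preimage_push.mpr ⟨hUS hu, hU'mem.mpr ⟨u, hu, rfl⟩⟩
      have hkU : IsIso F U U fk := isIso_of_mapsTo (hfk.mono hUpre) hUS
        (fun u hu => Fusion92.closed_apply n.closed hfk (hUpre hu) hu) le_rfl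
      obtain ⟨R, hR⟩ := (hkU.1.mono hf.dom_le).exists_image
      obtain ⟨f', hf', hf'e⟩ := invariant_inv n.invariant hf hkU hR.2.symm
      obtain ⟨g', hg', hg'e⟩ := Fusion91.exists_push_map hαU hf'
      have hle : P' ≤ imageAlong θU R := fun y hy => by
        obtain ⟨z, hz, rfl⟩ := (Set.ext_iff.mp hP' y).mp hy
        obtain ⟨u, hu, rfl⟩ := Fusion91.exists_push_eq (α := θU) rfl (hg.dom_le hz)
        have hu' := Fusion91.mem_preimage_push.mpr ⟨hu, hz⟩
        refine (Fusion91.mem_imageAlong_push hf'.dom_le).mpr ⟨fk u, hR.mem hu', ?_⟩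
        rw [hpush (hkU.mem hu), hfke u (hUpre hu), hpush hu]
      refine ⟨g', hg'.mono hle, fun z hz => ?_⟩
      obtain ⟨u, hu, rfl⟩ := Fusion91.exists_push_eq (α := θU) rfl (hg.dom_le hz)
      have hu' := Fusion91.mem_preimage_push.mpr ⟨hu, hz⟩
      have hfu := hf.apply_mem hu'
      rw [← hfe u hu', hpush hfu, ← hfke _ (hUpre hfu), ← hpush (hkU.mem hfu), hpush hu,
        ← hfke u (hUpre hu), ← hpush (hkU.mem hu), hg'e _ (hR.mem hu'), hf'e u hu']
    · obtain ⟨f, hf, hfe⟩ := Fusion91.exists_lift_map hα hg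
      obtain ⟨k, e, hk, he, hke⟩ := invariant_frattini n.invariant
        (hf.mono (inf_le_left : preimageAlong θ P ⊓ U ≤ _)) inf_le_right
      obtain ⟨kb, hkb, hkbe⟩ := Fusion91.exists_push_map hα hk.1
      obtain ⟨eb, heb, hebe⟩ := Fusion91.exists_push_map hαU he
      have hUle : U' ≤ imageAlong θ U := fun y hy =>
        (Fusion91.mem_imageAlong_push hUS).mpr (hU'mem.mp hy)
      have hkiso : IsIso Q U' U' kb := by
        refine ⟨hkb.mono hUle, Set.Subset.antisymm ?_ fun y hy => ?_⟩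
        · rintro _ ⟨z, hz, rfl⟩
          obtain ⟨u, hu, rfl⟩ := hU'mem.mp hz
          exact hU'mem.mpr ⟨k u, hk.mem hu, (hkbe u hu).symm⟩
        · obtain ⟨v, hv, rfl⟩ := hU'mem.mp hy
          obtain ⟨u, hu, rfl⟩ := hk.exists_preimage hv
          exact ⟨_, hU'mem.mpr ⟨u, hu, rfl⟩, hkbe u hu⟩
      have hle : P ≤ imageAlong θU (preimageAlong θ P ⊓ U) := fun y hy => by
        obtain ⟨u, hu, rfl⟩ := hU'mem.mp (hP hy)
        exact (Fusion91.mem_imageAlong_push inf_le_right).mpr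
          ⟨u, ⟨Fusion91.mem_preimage_push.mpr ⟨hUS hu, hy⟩, hu⟩, hpush hu⟩
      refine ⟨kb, eb, hkiso, heb.mono hle, fun y hy => ?_⟩
      obtain ⟨u, hu, rfl⟩ := hU'mem.mp (hP hy)
      have hu' := Fusion91.mem_preimage_push.mpr ⟨hUS hu, hy⟩
      have hm : u ∈ preimageAlong θ P ⊓ U := ⟨hu', hu⟩
      rw [← hfe u hu', ← hpush hu, hebe u hm, hpush (he.apply_mem hm), hkbe _ (he.apply_mem hm),
        hke u hm]
  haveI : Finite (S ⧸ Z.subgroupOf S) := Quotient.finite _
  have hQp : IsPGroup p (⊤ : Subgroup (S ⧸ Z.subgroupOf S)) := (hS.to_quotient _).to_subgroup _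
  have hEbs : Eb.IsSaturated p := Fusion91.isSaturated_image n.tp n.eSat hαU
  obtain ⟨D, hD⟩ := S5140.result p (hQp.to_le le_top) Eb hEbs
  have hDn := S5141.result p hQp Q hQs Eb ⟨hEbs, hQs, hinv⟩ D hD
  rcases hsm _ D hDn with hbot | ⟨htop, hall⟩
  · left
    intro u hu
    have h1 : Fusion91.push θ u ∈ U' := hU'mem.mpr ⟨u, hu, rfl⟩
    rw [show U' = ⊥ from hbot, Subgroup.mem_bot, Fusion91.push_of_mem (hUS hu), hQ.2.1] at h1
    exact h1
  right
  -- `U` is everything
  have hdec : ∀ x ∈ S, ∃ u ∈ U, u⁻¹ * x ∈ Z := fun x hx => by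
    obtain ⟨u, hu, he⟩ := hU'mem.mp (htop.ge (Subgroup.mem_top (Fusion91.push θ x)))
    refine ⟨u, hu, (hQ.2.1 (⟨u, hUS hu⟩⁻¹ * ⟨x, hx⟩)).mp ?_⟩
    rw [map_mul, map_inv, inv_mul_eq_one]
    rw [Fusion91.push_of_mem (hUS hu), Fusion91.push_of_mem hx] at he
    exact he
  have hcen : ∀ z ∈ Z, ∀ y ∈ S, y * z = z * y := fun z hz y hy => F.center_le_centralizer hz y hy
  have hhypU : F.hyperfocalSubgroup p ≤ U := (Subgroup.closure_le _).2 (by
    rintro _ ⟨P, a, x, hP, -, rfl⟩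
    obtain ⟨f', hf', he, hfx⟩ := (isCentral_iff.1 hZc).2 P _ ((mem_autGroup hP).1 a.2).1
    obtain ⟨u, hu, hz⟩ := hdec x (hP x.2)
    have hzm : u⁻¹ * (x : Ω) ∈ P ⊔ Z := Subgroup.mem_sup_right hz
    have hum : u ∈ P ⊔ Z := by
      have h1 := Subgroup.mul_mem (P ⊔ Z) (Subgroup.mem_sup_left x.2) (Subgroup.inv_mem _ hzm)
      simpa using h1
    have h1 : f' x = f' u * (u⁻¹ * x) := by
      conv_lhs => rw [← mul_inv_cancel_left u (x : Ω)]
      rw [hf'.map_mul hum hzm, hfx _ hz]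
    have h2 : ((a : MulAut P) x : Ω) = f' x := by rw [← autFun_coe, he x.2]
    show (x : Ω)⁻¹ * (((a : MulAut P) x : P) : Ω) ∈ U
    have hx' : u⁻¹ * (x : Ω) * u = x := by rw [← hcen _ hz u (hUS hu), mul_inv_cancel_left]
    rw [h2, h1, hcen _ hz _ (hf'.apply_mem hum)]
    nth_rewrite 1 [← hx']
    rw [show (u⁻¹ * (x : Ω) * u)⁻¹ * (u⁻¹ * x * f' u) = u⁻¹ * f' u by group]
    exact U.mul_mem (U.inv_mem hu) (Fusion92.closed_apply n.closed hf' hum hu))
  obtain rfl : U = S := le_antisymm hUS (hhyp.ge.trans hhypU)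
  refine ⟨le_rfl, fun P => hom_subset_of_isMap fun f hf => ?_⟩
  -- the automorphisms of the whole group
  have haut : ∀ k, IsIso F U U k → IsMap E U k := by
    intro k hk
    obtain ⟨kb, hkb, hkbe⟩ := Fusion91.exists_push_map hα hk.1
    have hkb' : IsMap Eb (imageAlong θ U) kb := by
      refine (hkb.of_subset (hall _).ge).of_subset (hD.2.1.1 _)
    obtain ⟨e, he, hee⟩ := Fusion91.exists_lift_map hαU hkb'
    have hUe : U ≤ preimageAlong θU (imageAlong θ U) := fun u hu => Fusion91.mem_preimage_push.mpr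
      ⟨hu, (Fusion91.mem_imageAlong_push le_rfl).mpr ⟨u, hu, (hpush hu).symm⟩⟩
    have hei : IsIso E U U e := isIso_of_mapsTo (he.mono hUe) le_rfl
      (fun u hu => (he.mono hUe).apply_mem hu) le_rfl
    have heF : IsIso F U U e := ⟨hei.1.of_isSubsystemOf n.sub, hei.2⟩
    obtain ⟨ei, hei', hel, her⟩ := heF.exists_inv
    have hδ : IsIso F U U (ei ∘ k) := hk.comp hei'
    have hkfix : ∀ z ∈ Z ⊓ U, k z = z := fun z hz => map_fix_central hZc hk.1 hz.2 hz.1
    obtain ⟨c, hc, -, hce⟩ := exists_centralizer_conj hS hF (Z := Z ⊓ U) fullyNormalized_self inf_le_right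
      (fun β hβ z hz => by
        rw [map_fix_central hZc ((mem_autGroup le_rfl).mp hβ).1 hz.2 hz.1]; exact hz) hδ
      (fun z hz => by
        rw [Function.comp_apply, hkfix z hz]
        exact map_fix_central hZc hei'.1 hz.2 hz.1)
      (fun x hx => by
        obtain ⟨v, hv, hve⟩ := heF.exists_preimage (hk.mem hx)
        have hd : x⁻¹ * v ∈ Z := (hQ.2.1 ((⟨x, hx⟩ : U)⁻¹ * ⟨v, hv⟩)).mp (by
          rw [map_mul, map_inv, inv_mul_eq_one]
          have h1 := hee v (hUe hv)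
          rw [hpush (he.mono hUe |>.apply_mem hv), hpush hv, hve, ← hkbe x hx] at h1
          have hinj : Fusion91.push θ x = Fusion91.push θ v := by
            have := hkb.injOn ((Fusion91.mem_imageAlong_push le_rfl).mpr ⟨x, hx, rfl⟩)
              ((Fusion91.mem_imageAlong_push le_rfl).mpr ⟨v, hv, rfl⟩) h1
            exact this
          rwa [Fusion91.push_of_mem hx, Fusion91.push_of_mem hv] at hinj)
        refine ⟨?_, U.mul_mem (U.inv_mem hx) (hδ.mem hx)⟩
        rw [Function.comp_apply, ← hve, hel v hv]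
        exact hd)
    refine ((isMap_conj le_rfl hc.1).comp hei.1 fun x hx => U.mul_mem (U.mul_mem hc.1 hx) (U.inv_mem hc.1)).congr
      fun x hx => ?_
    rw [Function.comp_apply, ← hce x hx, Function.comp_apply, her _ (hk.mem hx)]
  obtain ⟨k, g, hk, hg, hge⟩ := invariant_frattini n.invariant hf hf.dom_le
  exact (hg.comp (haut k hk) fun x hx => hg.apply_mem hx).congr fun x hx => (hge x hx).symm

omit [Finite S] [Fact p.Prime] in
/-- A component meets a normal subsystem centrally or lies in it. -/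
theorem component_dichotomy {T : Subgroup Ω} {C : FusionSystem T} (hC : C.IsSubnormalIn F p) :
    ∀ [Fact p.Prime], Finite S → IsPGroup p S → C.Quasisimple p →
      ∀ {U : Subgroup Ω} {E : FusionSystem U},
      E.IsNormalIn F p → T ⊓ U ≤ C.center ∨ (T ≤ U ∧ C.IsSubsystemOf E) := by
  induction hC with
  | refl =>
    intro _ hfin hS hq U E hE
    haveI := hfin
    rcases normal_of_quasisimple hS hq hE with h | h
    · exact Or.inl (inf_le_right.trans h)
    · exact Or.inr h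
  | @step V S C D F p hCD hD ih =>
    intro _ hfin hS hq U E hE
    haveI := hfin
    have hVS : V ≤ S := hD.1.2.2.2.1.1
    have h : IData F D E p := ⟨⟨hS, hD.1.2.1, hD⟩, ⟨hS, hD.1.2.1, hE⟩⟩
    have hTV : T ≤ V := Fusion91.le_of_subnormal hCD
    rcases ih (finite_of_le hVS) (hS.to_le hVS) hq
      (gSys_normal_single h h.n₁ inf_le_left fun _ _ hl => hl.2.2.1) with h1 | h1
    · exact Or.inl ((le_inf inf_le_left (le_inf (inf_le_left.trans hTV) inf_le_right)).trans h1)
    · exact Or.inr ⟨h1.1.trans inf_le_right,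
        fun P => (h1.2 P).trans ((gSys_normal_single h h.n₂ inf_le_right fun _ _ hl => hl.2.2.2).1.2.2.1 P)⟩

end Cfsg.Agent.Fusion.Inter
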