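import Cfsg.Agent.Lib.Fusion.Inter.Gen

/-!
# Elements of `L₀(R)` extend, as generated maps, to the subgroups whose action they respect
-/

set_option autoImplicit false
set_option linter.style.haveILetI false

namespace Cfsg.Agent.Fusion.Inter

open Cfsg Cfsg.Agent.Fusion Cfsg.Agent.Fusion.NormalLift
open Cfsg.FusionSystem (normalizerIn centralizerIn)

variable {Ω : Type*} [Group Ω] {S T T₁ T₂ : Subgroup Ω} {F : FusionSystem S} {E : FusionSystem T}
  {E₁ : FusionSystem T₁} {E₂ : FusionSystem T₂} {p : ℕ} [Finite S] [Fact p.Prime]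

omit [Finite S] [Fact p.Prime] in
theorem cop_of_pow {M : Subgroup Ω} {β : MulAut M} (ho : (orderOf β).Coprime p) {M' : Subgroup Ω}
    (hM' : M' ≤ M) : Cop p M' (autFun β) :=
  ⟨orderOf β, ho, fun x hx => by
    rw [← iterate_autFun (Set.eqOn_refl (autFun β) _) _ x (hM' hx), pow_orderOf_eq_one,
      autFun_one (hM' hx)]
    rfl⟩

set_option maxHeartbeats 1000000 in
/-- A lift of order prime to `p` normalizing the action of `M` extends to a generating automorphism
of `M`. -/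
theorem lift_extend (h : IData F E₁ E₂ p) {R M : Subgroup Ω} (hRn : F.IsFullyNormalized R)
    (hR : Wc F (T₁ ⊓ T₂) R) (hRM : R ≤ M) (hMN : M ≤ normalizerIn (T₁ ⊓ T₂) R)
    (hMn : (normalizerSystem F R hRn.1).IsFullyNormalized M) (a : xGrp h hR.1)
    (ha : (orderOf a).Coprime p)
    (hn : ∀ m ∈ M, ∃ m' ∈ M, ∀ x ∈ R, autFun (rho h hR.1 a) (m * x * m⁻¹) =
      m' * autFun (rho h hR.1 a) x * m'⁻¹) :
    ∃ φ, KGen F E₁ E₂ p M φ ∧ Set.EqOn φ (autFun (rho h hR.1 a)) R := by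
  set D := R ⊔ centralizerIn S R with hD
  have hRS := hRn.1
  have hDS : D ≤ S := sup_le hRS (Fusion.centralizerIn_le _ _)
  have hDN : D ≤ normalizerIn S R := supC_le hRS
  have hMW : M ≤ T₁ ⊓ T₂ := hMN.trans inf_le_left
  have hMS : M ≤ S := hMW.trans h.wS
  have hMn' : M ≤ normalizerIn S R := fun m hm => ⟨hMS hm, (hMN hm).2⟩
  haveI := finite_of_le hDS
  haveI := finite_mulAut D
  haveI := finite_of_le (Fusion.normalizerIn_le S R)
  have hNp := h.pgroup.to_le (Fusion.normalizerIn_le S R)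
  have hNsat := normalizerSystem_isSaturated h.pgroup h.sat hRn
  have hRc := fullyCentralized_of_fullyNormalized h.pgroup h.sat hRn
  set aD := (a : MulAut D) with haD
  have hai := (mem_autGroup hDS).mp (xGrp_le h hR.1 a.2)
  have hρ : ∀ x ∈ R, autFun (rho h hR.1 a) x = autFun aD x := fun x hx => rho_apply h hR.1 a hx
  have hDn : ∀ g ∈ normalizerIn S R, ∀ y ∈ D, g * y * g⁻¹ ∈ D := fun g hg y hy =>
    conj_mem_of_mem_normalizer (normalizer_supC hg) hy
  have hWc : ∀ x y : Ω, x ∈ T₁ ⊓ T₂ → y ∈ T₁ ⊓ T₂ → (∀ z ∈ R, x * z * x⁻¹ = y * z * y⁻¹) → y⁻¹ * x ∈ R :=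
    fun x y hx hy he => hR.self h.wS (inv_mul_mem_centralizerIn hx hy he)
  -- the lift normalizes the action of `M C_S(R)`
  have hstep : ∀ m ∈ M, ∃ m' ∈ M, ∃ c ∈ centralizerIn S R,
      (∀ y ∈ D, autFun aD (m * y * m⁻¹) = (m' * c) * autFun aD y * (m' * c)⁻¹) ∧
      IsMap E₁ (R ⊔ centralizerIn T₁ R) (fun x => c * x * c⁻¹) ∧
      IsMap E₂ (R ⊔ centralizerIn T₂ R) (fun x => c * x * c⁻¹) := by
    intro m hm
    obtain ⟨m', hm', hme⟩ := hn m hm
    obtain ⟨γ, hγ, hγe⟩ := (liftI_conj h hR (hMW hm) (hMN hm).2).exists_mem_xGrp h hR.1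
    obtain ⟨γ', hγ', hγ'e⟩ := (liftI_conj h hR (hMW hm') (hMN hm').2).exists_mem_xGrp h hR.1
    set δ : xGrp h hR.1 := ⟨γ', hγ'⟩⁻¹ * a * ⟨γ, hγ⟩ * a⁻¹ with hδ
    have hδe : ∀ y ∈ D, autFun (δ : MulAut D) (autFun aD y) =
        m'⁻¹ * autFun aD (m * y * m⁻¹) * m' := by
      intro y hy
      have h1 : autFun (δ : MulAut D) (autFun aD y) = autFun (γ'⁻¹ * aD * γ) y := by
        rw [← Function.comp_apply (f := autFun (δ : MulAut D)), ← autFun_mul _ _ hy,
          show (δ : MulAut D) * aD = γ'⁻¹ * aD * γ by simp [hδ, haD, mul_assoc]]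
      have hym : m * y * m⁻¹ ∈ D := hDn m (hMn' hm) y hy
      rw [h1, autFun_mul _ _ hy, Function.comp_apply, autFun_mul _ _ (autFun_mem_self _ hy),
        Function.comp_apply, hγe hy]
      have hz : autFun aD (m * y * m⁻¹) ∈ D := autFun_mem_self _ hym
      have hz' : m'⁻¹ * autFun aD (m * y * m⁻¹) * m' ∈ D := by
        simpa using hDn m'⁻¹ (Subgroup.inv_mem _ (hMn' hm')) _ hz
      have h2 := PrimeIndex.autFun_inv_apply γ' hz'
      rw [hγ'e hz'] at h2
      rw [← h2]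
      congr 1
      group
    have hfix : ∀ z ∈ R, autFun (δ : MulAut D) z = z := by
      intro z hz
      obtain ⟨x, hx, rfl⟩ := (LiftI.isIso hRS a.2).exists_preimage hz
      have hmx : m * x * m⁻¹ ∈ R := conj_mem_of_mem_normalizer (hMN hm).2 hx
      show autFun (δ : MulAut D) (autFun aD x) = autFun aD x
      rw [hδe x (Subgroup.mem_sup_left hx), ← hρ _ hmx, hme x hx, hρ x hx]
      group
    have hδi := (mem_autGroup hDS).mp (xGrp_le h hR.1 δ.2)
    have hδR : autFun (δ : MulAut D) '' (R : Set Ω) = (R : Set Ω) := (LiftI.isIso hRS δ.2).2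
    have hδN : IsIso (normalizerSystem F R hRS) D D (autFun (δ : MulAut D)) :=
      ⟨isMap_normalizerSystem_of_le hRS hδi.1 le_sup_left hDN hδR, hδi.2⟩
    obtain ⟨c, hc, -, hce⟩ := exists_centralizer_conj hNp hNsat
      (fullyNormalized_of_normalized (F := normalizerSystem F R hRS) hDN fun g hg => normalizer_supC hg)
      le_sup_left (fun α hα z hz => by
        rw [← SetLike.mem_coe, ← ((mem_stabAut hRS le_sup_left hDN).mp hα).2]
        exact ⟨z, hz, rfl⟩) hδN hfix δ.2.2.1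
    refine ⟨m', hm', c, ⟨hc.1.1, hc.2⟩, fun y hy => ?_,
      δ.2.2.2.1.congr fun x hx => hce x (le_supC h.n₁ R hx),
      δ.2.2.2.2.congr fun x hx => hce x (le_supC h.n₂ R hx)⟩
    have h1 := hδe y hy
    rw [hce _ (hai.mem hy)] at h1
    calc autFun aD (m * y * m⁻¹) = m' * (m'⁻¹ * autFun aD (m * y * m⁻¹) * m') * m'⁻¹ := by group
      _ = m' * (c * autFun aD y * c⁻¹) * m'⁻¹ := by rw [← h1]
      _ = _ := by group
  -- extension to `R C_S(R) M`
  have hext : IsExtendable S D (autFun aD) M := by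
    refine ⟨hMS, fun m hm => ?_⟩
    obtain ⟨m', hm', c, hc, hmc, -, -⟩ := hstep m hm
    exact ⟨normalizer_supC (hMn' hm), m' * c, S.mul_mem (hMS hm') hc.1, hmc⟩
  obtain ⟨f, hf, hfe⟩ := receptive_extend (receptive_supC h.pgroup h.sat hRc) hai hext
  set Mc := D ⊔ M with hMc
  have hMcS : Mc ≤ S := sup_le hDS hMS
  have hfR : ∀ x ∈ R, f x = autFun (rho h hR.1 a) x := fun x hx => by
    rw [hρ x hx]
    exact hfe (Subgroup.mem_sup_left hx : x ∈ D)
  have hmapM : ∀ {g : Ω → Ω}, (∀ x ∈ R, g x = autFun (rho h hR.1 a) x) → ∀ {X : Subgroup Ω},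
      R ≤ X → M ≤ X → IsMap F X g → ∀ m ∈ M, g m ∈ M := by
    intro g hg X hRX hMX hgX m hm
    obtain ⟨m', hm', hme⟩ := hn m hm
    have h1 := hWc (g m) m' (h.map_w hgX (hMX hm) (hMW hm)) (hMW hm') fun z hz => by
      obtain ⟨x, hx, rfl⟩ := ((mem_autGroup hRS).mp (rho_mem_autGroup h hR.1 a)).exists_preimage hz
      rw [← hme x hx, ← hg x hx, ← hgX.map_conj (hMX hm) (hRX hx),
        hg _ (conj_mem_of_mem_normalizer (hMN hm).2 hx)]
    have := M.mul_mem hm' (hRM h1)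
    rwa [mul_inv_cancel_left] at this
  have hfM := hmapM hfR (le_sup_left.trans le_sup_left) le_sup_right hf
  have hfi : IsIso F Mc Mc f := isIso_of_mapsTo hf hMcS (isMap_mem_sup hf le_sup_left le_sup_right
    (fun x hx => Subgroup.mem_sup_left (hfe hx ▸ hai.mem hx))
    fun x hx => Subgroup.mem_sup_right (hfM x hx)) le_rfl
  haveI := finite_of_le hMcS
  haveI := finite_mulAut Mc
  obtain ⟨β, hβ, hβe⟩ := hfi.exists_aut
  obtain ⟨e, he, hee⟩ := exists_pow_coprime (p := p) β aD (by rwa [Subgroup.orderOf_coe])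
  set φ := autFun (β ^ e) with hφ
  have key : ∀ n : ℕ, ∀ x ∈ D, autFun (β ^ n) x = autFun (aD ^ n) x := by
    intro n
    induction n with
    | zero =>
      intro x hx
      rw [pow_zero, pow_zero, autFun_one (Subgroup.mem_sup_left hx : x ∈ Mc), autFun_one hx]
    | succ n ih =>
      intro x hx
      rw [pow_succ, pow_succ, autFun_mul _ _ (Subgroup.mem_sup_left hx : x ∈ Mc), autFun_mul _ _ hx,
        Function.comp_apply, Function.comp_apply, hβe (Subgroup.mem_sup_left hx), hfe hx,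
        ih _ (autFun_mem_self _ hx)]
  have hφD : ∀ x ∈ D, φ x = autFun aD x := fun x hx => by rw [hφ, key e x hx, hee]
  have hφR : ∀ x ∈ R, φ x = autFun (rho h hR.1 a) x := fun x hx => by
    rw [hρ x hx, hφD x (Subgroup.mem_sup_left hx)]
  have hφi : IsIso F Mc Mc φ := (mem_autGroup hMcS).mp (Subgroup.pow_mem _ hβ e)
  have hφM : ∀ m ∈ M, φ m ∈ M := hmapM hφR (le_sup_left.trans le_sup_left) le_sup_right hφi.1
  have hφMi : IsIso F M M φ := isIso_of_mapsTo (hφi.1.mono le_sup_right) hMS hφM le_rfl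
  have hCM : centralizerIn S M ≤ centralizerIn S R := inf_le_inf_left _ (Subgroup.centralizer_le hRM)
  have hle : M ⊔ centralizerIn S M ≤ Mc :=
    sup_le le_sup_right (hCM.trans (le_sup_right.trans le_sup_left))
  -- membership in the normal subsystems
  have hsingle : ∀ {T : Subgroup Ω} {E : FusionSystem T}, NData F E p → M ≤ T →
      IsMap E (R ⊔ centralizerIn T R) (autFun aD) →
      (∀ m ∈ M, ∃ m' ∈ M, ∃ c ∈ centralizerIn S R,
        (∀ y ∈ D, autFun aD (m * y * m⁻¹) = (m' * c) * autFun aD y * (m' * c)⁻¹) ∧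
        IsMap E (R ⊔ centralizerIn T R) (fun x => c * x * c⁻¹)) →
      IsMap E (M ⊔ centralizerIn T M) φ := by
    intro T E n hMT haE hst
    haveI := n.finiteT
    have hRT := hRM.trans hMT
    set DT := R ⊔ centralizerIn T R with hDT
    set P := DT ⊔ M with hP
    have hDTT : DT ≤ T := sup_le hRT inf_le_left
    have hPT : P ≤ T := sup_le hDTT hMT
    have hPS : P ≤ S := hPT.trans n.tS
    have hPMc : P ≤ Mc := sup_le_sup_right (le_supC n R) M
    have haT := mapsTo_supT n hRS hai.1 (LiftI.isIso hRS a.2).2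
    have hextT : IsExtendable T DT (autFun aD) M := by
      refine ⟨hMT, fun m hm => ?_⟩
      have hmN : m ∈ normalizerIn T R := ⟨hMT hm, (hMN hm).2⟩
      obtain ⟨m', hm', c, hc, hmc, hcE⟩ := hst m hm
      obtain ⟨t, ht, htc⟩ := induced_single n hRn hRT (centralizerIn_le_normalizerIn S R hc) hcE
      refine ⟨normalizer_supC hmN, m' * t, T.mul_mem (hMT hm') ht.1, fun x hx => ?_⟩
      rw [hmc x (le_supC n R hx)]
      have h1 := Subgroup.mem_centralizer_iff.mp htc.2 _ (haT x hx)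
      calc m' * c * autFun aD x * (m' * c)⁻¹
          = m' * t * ((t⁻¹ * c) * autFun aD x) * (t⁻¹ * c)⁻¹ * (m' * t)⁻¹ := by group
        _ = m' * t * (autFun aD x * (t⁻¹ * c)) * (t⁻¹ * c)⁻¹ * (m' * t)⁻¹ := by rw [h1]
        _ = _ := by group
    obtain ⟨g, hg, hge⟩ := receptive_extend (receptive_supC n.tp n.eSat
      (fullyCentralized_of_fullyNormalized n.tp n.eSat (n.fullyNormalized_e hRn hRT)))
      (isIso_of_mapsTo haE (Q := DT) hDTT haT le_rfl) hextT
    have hgR : ∀ x ∈ R, g x = autFun (rho h hR.1 a) x := fun x hx => by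
      rw [hρ x hx]
      exact hge (Subgroup.mem_sup_left hx : x ∈ DT)
    have hgM := hmapM hgR (le_sup_left.trans le_sup_left) le_sup_right (hg.of_isSubsystemOf n.sub)
    have hgP : IsIso E P P g := isIso_of_mapsTo hg hPT (isMap_mem_sup hg le_sup_left le_sup_right
      (fun x hx => Subgroup.mem_sup_left (hge hx ▸ haT x hx))
      fun x hx => Subgroup.mem_sup_right (hgM x hx)) le_rfl
    have hφP : IsIso F P P φ := isIso_of_mapsTo (hφi.1.mono hPMc) hPS
      (isMap_mem_sup (hφi.1.mono hPMc) le_sup_left le_sup_right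
        (fun x hx => Subgroup.mem_sup_left (by rw [hφD x (le_supC n R hx)]; exact haT x hx))
        fun x hx => Subgroup.mem_sup_right (hφM x hx)) le_rfl
    haveI := finite_of_le hPS
    haveI := finite_mulAut P
    obtain ⟨αg, hαg, hαge⟩ := hgP.exists_aut
    obtain ⟨αφ, hαφ, hαφe⟩ := hφP.exists_aut
    set δ := αg⁻¹ * αφ with hδ
    have hαgF : αg ∈ F.autGroup P := autGroup_mono (n.sub P) hαg
    have hδfix : δ ∈ fixMod P DT := by
      have hfix : ∀ z ∈ DT, autFun δ z = z := fun z hz => by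
        rw [autFun_mul _ _ (Subgroup.mem_sup_left hz : z ∈ P), Function.comp_apply,
          hαφe (Subgroup.mem_sup_left hz), hφD z (le_supC n R hz), ← hge hz,
          ← hαge (Subgroup.mem_sup_left hz), PrimeIndex.autFun_inv_apply αg (Subgroup.mem_sup_left hz)]
      have hnorm : P ≤ Subgroup.normalizer (DT : Set Ω) :=
        sup_le DT.le_normalizer fun m hm => normalizer_supC (⟨hMT hm, (hMN hm).2⟩ : m ∈ normalizerIn T R)
      refine ⟨fun x hx => Subtype.ext (by rw [← autFun_coe, hfix _ hx]), fun x => ?_⟩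
      rw [Subgroup.coe_mul, Subgroup.coe_inv]
      have hcc : (x : Ω)⁻¹ * (δ x : Ω) ∈ centralizerIn T DT := by
        refine inv_mul_mem_centralizerIn (hPT (δ x).2) (hPT x.2) fun z hz => ?_
        have hz' : (x : Ω) * z * (x : Ω)⁻¹ ∈ DT := conj_mem_of_mem_normalizer (hnorm x.2) hz
        have h1 := hfix _ hz'
        rw [autFun_of_mem _ (Subgroup.mem_sup_left hz' : _ ∈ P)] at h1
        have h2 : (⟨(x : Ω) * z * (x : Ω)⁻¹, Subgroup.mem_sup_left hz'⟩ : P) =
            x * ⟨z, Subgroup.mem_sup_left hz⟩ * x⁻¹ := Subtype.ext rfl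
        rw [h2, map_mul, map_mul, map_inv, Subgroup.coe_mul, Subgroup.coe_mul, Subgroup.coe_inv,
          ← autFun_coe δ ⟨z, _⟩, hfix z hz] at h1
        exact h1
      exact Subgroup.mem_sup_right ⟨hcc.1, Subgroup.centralizer_le (fun y hy => Subgroup.mem_sup_left hy) hcc.2⟩
    obtain ⟨k, hk⟩ := fixMod_isPGroup (p := p) (h.pgroup.to_le hPS) ⟨δ, hδfix⟩
    haveI : ((E.autGroup P).subgroupOf (F.autGroup P)).Normal :=
      ⟨fun u hu v => Subgroup.mem_subgroupOf.mpr
        (autGroup_conj_mem n hPT (Subgroup.mem_subgroupOf.mp hu) v.2)⟩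
    have hcopP : (orderOf αφ).Coprime p := by
      obtain ⟨m, hm, hme⟩ := cop_of_pow (p := p) he hPMc
      refine Nat.Coprime.coprime_dvd_left (orderOf_dvd_of_pow_eq_one (MulEquiv.ext fun x => Subtype.ext ?_)) hm
      rw [← autFun_coe, iterate_autFun hαφe m x x.2, hφ, hme x x.2]
      rfl
    have hmem : (⟨αφ, hαφ⟩ : F.autGroup P) ∈ (E.autGroup P).subgroupOf (F.autGroup P) := by
      refine mem_of_coprime_mod _ (b := ⟨δ, Subgroup.mul_mem _ (Subgroup.inv_mem _ hαgF) hαφ⟩)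
        (by rwa [← Subgroup.orderOf_coe]) (k := k) (Subtype.ext (by simpa using congrArg Subtype.val hk))
        (Subgroup.mem_subgroupOf.mpr ?_)
      show δ⁻¹ * αφ ∈ E.autGroup P
      have : δ⁻¹ * αφ = αφ⁻¹ * αg * αφ⁻¹⁻¹ := by rw [hδ]; group
      rw [this]
      exact autGroup_conj_mem n hPT hαg (Subgroup.inv_mem _ hαφ)
    refine (((mem_autGroup hPT).mp (Subgroup.mem_subgroupOf.mp hmem)).1.mono ?_).congr fun x hx => hαφe ?_
    · exact sup_le le_sup_right ((inf_le_inf_left _ (Subgroup.centralizer_le hRM)).trans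
        ((le_sup_right : centralizerIn T R ≤ DT).trans le_sup_left))
    · exact sup_le le_sup_right ((inf_le_inf_left _ (Subgroup.centralizer_le hRM)).trans
        ((le_sup_right : centralizerIn T R ≤ DT).trans le_sup_left)) hx
  refine ⟨φ, ⟨hR.of_le h hRM hMW, M, id, id, φ, isIso_id hMS, fun _ _ => rfl,
    fullyCentralized_of_normalizerSystem h.pgroup h.sat hRn hRM hMn, ?_, cop_of_pow he le_sup_right,
    fun x hx => rfl⟩, hφR⟩
  refine ⟨isIso_of_mapsTo (hφi.1.mono hle) (sup_le hMS (Fusion.centralizerIn_le _ _))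
    (isMap_mem_sup (hφi.1.mono hle) le_sup_left le_sup_right
      (fun x hx => Subgroup.mem_sup_left (hφM x hx)) fun x hx => Subgroup.mem_sup_right
        (map_mem_centralizer hφi.1 le_sup_right hφMi.2 (hle (Subgroup.mem_sup_right hx)) hx.2)) le_rfl,
    mod_sup ((inf_le_right).trans (Subgroup.centralizer_le_normalizer _)) (hφi.1.mono hle) hφM
      (fun c hc => hRM ?_), ?_, ?_⟩
  · rw [hφD c (Subgroup.mem_sup_right (hCM hc))]
    exact a.2.2.1 c (Subgroup.mem_sup_right (hCM hc))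
  · exact hsingle h.n₁ (hMW.trans inf_le_left) a.2.2.2.1 fun m hm =>
      let ⟨m', hm', c, hc, h1, h2, _⟩ := hstep m hm
      ⟨m', hm', c, hc, h1, h2⟩
  · exact hsingle h.n₂ (hMW.trans inf_le_right) a.2.2.2.2 fun m hm =>
      let ⟨m', hm', c, hc, h1, _, h2⟩ := hstep m hm
      ⟨m', hm', c, hc, h1, h2⟩

/-- The elements of `N_W(R)` whose action on `R` lies in `Q`, with `R`. -/
def preim (W R : Subgroup Ω) {L : Subgroup (MulAut R)} (Q : Subgroup L) : Subgroup Ω :=
  R ⊔ ((Q.map L.subtype).comap (conjAutHom W R)).map (normalizerIn W R).subtype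

omit [Finite S] [Fact p.Prime] in
theorem mem_preimPart {W R : Subgroup Ω} {L : Subgroup (MulAut R)} {Q : Subgroup L} {g : Ω} :
    g ∈ ((Q.map L.subtype).comap (conjAutHom W R)).map (normalizerIn W R).subtype ↔
      g ∈ normalizerIn W R ∧ ∃ v ∈ Q, ∀ x ∈ R, autFun (v : MulAut R) x = g * x * g⁻¹ := by
  constructor
  · rintro ⟨⟨g, hg⟩, ⟨v, hv, hve⟩, rfl⟩
    refine ⟨hg, v, hv, fun x hx => ?_⟩
    rw [autFun_of_mem _ hx, show (v : MulAut R) = _ from hve, conjAutHom_apply]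
    rfl
  · rintro ⟨hg, v, hv, hve⟩
    refine ⟨⟨g, hg⟩, ⟨v, hv, MulEquiv.ext fun x => Subtype.ext ?_⟩, rfl⟩
    rw [conjAutHom_apply, ← hve x x.2, autFun_coe]
    rfl

omit [Finite S] [Fact p.Prime] in
theorem preim_mono {W R : Subgroup Ω} {L : Subgroup (MulAut R)} {Q Q' : Subgroup L} (hle : Q' ≤ Q) :
    preim W R Q' ≤ preim W R Q :=
  sup_le_sup_left (Subgroup.map_mono (Subgroup.comap_mono (Subgroup.map_mono hle))) R

omit [Finite S] [Fact p.Prime] in
theorem preim_le {W R : Subgroup Ω} {L : Subgroup (MulAut R)} (hR : R ≤ W) (Q : Subgroup L) :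
    preim W R Q ≤ normalizerIn W R :=
  sup_le (le_normalizerIn hR) (Subgroup.map_subtype_le _)

omit [Fact p.Prime] in
/-- `a` carries `preim Q` into `preim Q'` when it carries `Q` into `Q'`. -/
theorem preim_mapsTo (h : IData F E₁ E₂ p) {R : Subgroup Ω} (hR : Wc F (T₁ ⊓ T₂) R)
    {Q : Subgroup (lGrp h hR.1)} {a : lGrp h hR.1} {g : Ω → Ω}
    (hg : IsMap F (preim (T₁ ⊓ T₂) R Q) g) (hga : ∀ x ∈ R, g x = autFun (a : MulAut R) x) :
    ∀ x ∈ preim (T₁ ⊓ T₂) R Q, g x ∈ preim (T₁ ⊓ T₂) R (cj a Q) := by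
  refine isMap_mem_sup hg le_sup_left le_sup_right
    (fun x hx => Subgroup.mem_sup_left (hga x hx ▸ autFun_mem_self _ hx)) fun x hx => ?_
  obtain ⟨hxN, v, hv, hve⟩ := mem_preimPart.mp hx
  have hgR : g '' (R : Set Ω) = (R : Set Ω) := (Set.image_congr fun y hy => hga y hy).trans (autFun_image _)
  refine Subgroup.mem_sup_right (mem_preimPart.mpr ⟨⟨h.map_w hg (Subgroup.mem_sup_right hx) hxN.1,
    (map_mem_normalizer hg le_sup_left hgR (Subgroup.mem_sup_right hx) hxN.2).2⟩,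
    a * v * a⁻¹, ⟨v, hv, rfl⟩, fun y hy => ?_⟩)
  obtain ⟨z, hz, rfl⟩ : ∃ z ∈ R, g z = y := by
    have : y ∈ g '' (R : Set Ω) := hgR.symm ▸ hy
    obtain ⟨z, hz, rfl⟩ := this
    exact ⟨z, hz, rfl⟩
  have hxz : x * z * x⁻¹ ∈ R := conj_mem_of_mem_normalizer hxN.2 hz
  rw [← hg.map_conj (Subgroup.mem_sup_right hx) (Subgroup.mem_sup_left hz), hga _ hxz, hga z hz, ← hve z hz,
    Subgroup.coe_mul, Subgroup.coe_mul, Subgroup.coe_inv, autFun_mul _ _ (autFun_mem_self _ hz),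
    Function.comp_apply, PrimeIndex.autFun_inv_apply _ hz, autFun_mul _ _ hz, Function.comp_apply]

set_option maxHeartbeats 1000000 in
/-- An element of `L₀(R)` carrying the action of `M` into that of `W` extends to `M`. -/
theorem extend_of_lGrp (h : IData F E₁ E₂ p) {R M : Subgroup Ω} (hRn : F.IsFullyNormalized R)
    (hR : Wc F (T₁ ⊓ T₂) R) (hRM : R ≤ M) (hMN : M ≤ normalizerIn (T₁ ⊓ T₂) R) {α : MulAut R}
    (hα : α ∈ lGrp h hR.1)
    (hconj : ∀ m ∈ M, ∃ w ∈ normalizerIn (T₁ ⊓ T₂) R, ∀ x ∈ R,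
      autFun α (m * x * m⁻¹) = w * autFun α x * w⁻¹) :
    ∃ g, IGen F E₁ E₂ p M g ∧ Set.EqOn g (autFun α) R := by
  haveI := finite_of_le hRn.1
  haveI := finite_mulAut R
  have hRc := fullyCentralized_of_fullyNormalized h.pgroup h.sat hRn
  set L := lGrp h hR.1 with hL
  obtain ⟨U, hU⟩ := lGrp_sylow h hRn hR
  have hUW : ∀ v : L, v ∈ (U : Subgroup L) ↔ (v : MulAut R) ∈ autInducedBy (T₁ ⊓ T₂) R := fun v => by
    rw [hU, Subgroup.mem_subgroupOf]
  let Good : Subgroup L → L → Prop := fun Q a =>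
    ∃ g, IGen F E₁ E₂ p (preim (T₁ ⊓ T₂) R Q) g ∧ Set.EqOn g (autFun (a : MulAut R)) R
  have hgood : ∀ (Q : Subgroup L) (a : L), Q ≤ U → cj a Q ≤ U → Good Q a := by
    refine fusion_induction U Good ?_ ?_ ?_ ?_ ?_
    · intro Q _ u hu
      obtain ⟨w, hw, hwe⟩ := mem_autInducedBy.mp ((hUW u).mp hu)
      refine ⟨_, IGen.conj ((preim_le hR.1 Q).trans inf_le_left) hw, fun x hx => ?_⟩
      rw [autFun_of_mem _ hx]
      exact (hwe ⟨x, hx⟩).symm
    · intro Q hQ a ha haQ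
      have hR₀N : R ≤ preim (T₁ ⊓ T₂) R Q := le_sup_left
      have hMn : preim (T₁ ⊓ T₂) R Q ≤ normalizerIn S R := fun x hx =>
        ⟨h.wS (preim_le hR.1 Q hx).1, (preim_le hR.1 Q hx).2⟩
      haveI := finite_of_le (Fusion.normalizerIn_le S R)
      set N := normalizerSystem F R hRn.1 with hN
      obtain ⟨M₀, hM₀c, hM₀n⟩ := exists_fullyNormalized (F := N) hMn
      obtain ⟨τ, hτ⟩ := isConj_iff.mp hM₀c
      have hτR := image_of_normalizerSystem hτ.1 hR₀N
      have hτF : IsIso F (preim (T₁ ⊓ T₂) R Q) M₀ τ := ⟨(isMap_normalizerSystem.mp hτ.1).1, hτ.2⟩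
      have hRM₀ : R ≤ M₀ := fun y hy => by
        have : y ∈ τ '' (R : Set Ω) := hτR.symm ▸ hy
        obtain ⟨x, hx, rfl⟩ := this
        exact hτ.mem (hR₀N hx)
      have hM₀W : M₀ ≤ normalizerIn (T₁ ⊓ T₂) R := fun y hy => by
        obtain ⟨x, hx, rfl⟩ := hτ.exists_preimage hy
        exact ⟨h.map_w hτF.1 hx (preim_le hR.1 Q hx).1, (hτ.cod_le hy).2⟩
      obtain ⟨b, hb, hbe⟩ := (IsIso.exists_aut (P := R) ⟨hτF.1.mono hR₀N, hτR⟩ : _)
      have hbR : ∀ x ∈ R, autFun b x = τ x := fun x hx => hbe hx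
      have ha'L : b * (a : MulAut R) * b⁻¹ ∈ L := lGrp_conj h hRn hR hb a.2
      obtain ⟨aX, haX, haXe⟩ := lift_of_lGrp h hR ha'L (by
        rw [← MulAut.conj_apply, MulEquiv.orderOf_eq, Subgroup.orderOf_coe]; exact ha)
      have hval : ∀ x ∈ R, autFun (rho h hR.1 aX) (τ x) = τ (autFun (a : MulAut R) x) := fun x hx => by
        rw [haXe, ← hbR x hx, autFun_mul _ _ (autFun_mem_self _ hx), Function.comp_apply,
          PrimeIndex.autFun_inv_apply _ hx, autFun_mul _ _ hx, Function.comp_apply,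
          hbR _ (autFun_mem_self _ hx)]
      have hnorm : ∀ m ∈ M₀, ∃ m' ∈ M₀, ∀ x ∈ R, autFun (rho h hR.1 aX) (m * x * m⁻¹) =
          m' * autFun (rho h hR.1 aX) x * m'⁻¹ := by
        intro m hm
        obtain ⟨m₁, hm₁, rfl⟩ := hτ.exists_preimage hm
        suffices H : ∃ m₂ ∈ preim (T₁ ⊓ T₂) R Q, ∀ x ∈ R, autFun (a : MulAut R) (m₁ * x * m₁⁻¹) =
            m₂ * autFun (a : MulAut R) x * m₂⁻¹ by
          obtain ⟨m₂, hm₂, hme⟩ := H
          refine ⟨τ m₂, hτ.mem hm₂, fun y hy => ?_⟩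
          have : y ∈ τ '' (R : Set Ω) := hτR.symm ▸ hy
          obtain ⟨x, hx, rfl⟩ := this
          have hx' : m₁ * x * m₁⁻¹ ∈ R := conj_mem_of_mem_normalizer (preim_le hR.1 Q hm₁).2 hx
          rw [← hτF.1.map_conj hm₁ (hR₀N hx), hval _ hx', hval x hx, hme x hx,
            hτF.1.map_conj hm₂ (hR₀N (autFun_mem_self _ hx))]
        let K : Subgroup Ω :=
          { carrier := {m | ∃ m₂ ∈ preim (T₁ ⊓ T₂) R Q, ∀ x ∈ R, m * x * m⁻¹ ∈ R ∧
              autFun (a : MulAut R) (m * x * m⁻¹) = m₂ * autFun (a : MulAut R) x * m₂⁻¹}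
            one_mem' := ⟨1, Subgroup.one_mem _, fun x hx => by simp [hx]⟩
            mul_mem' := fun {m n} ⟨m₂, hm₂, hm⟩ ⟨n₂, hn₂, hn⟩ => ⟨m₂ * n₂, Subgroup.mul_mem _ hm₂ hn₂,
              fun x hx => by
                obtain ⟨h1, h2⟩ := hn x hx
                obtain ⟨h3, h4⟩ := hm _ h1
                rw [show m * n * x * (m * n)⁻¹ = m * (n * x * n⁻¹) * m⁻¹ by group]
                refine ⟨h3, ?_⟩
                rw [h4, h2]
                group⟩
            inv_mem' := fun {m} ⟨m₂, hm₂, hm⟩ => by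
              refine ⟨m₂⁻¹, Subgroup.inv_mem _ hm₂, fun x hx => ?_⟩
              have hmR : m ∈ Subgroup.normalizer (R : Set Ω) :=
                Subgroup.mem_normalizer_fintype fun y hy => (hm y hy).1
              have h1 : m⁻¹ * x * m⁻¹⁻¹ ∈ R := conj_mem_of_mem_normalizer (Subgroup.inv_mem _ hmR) hx
              refine ⟨h1, ?_⟩
              have h2 := (hm _ h1).2
              rw [show m * (m⁻¹ * x * m⁻¹⁻¹) * m⁻¹ = x by group] at h2
              rw [h2]
              group }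
        have hK : preim (T₁ ⊓ T₂) R Q ≤ K := by
          refine sup_le (fun r hr => ?_) fun g hg => ?_
          · refine ⟨autFun (a : MulAut R) r, Subgroup.mem_sup_left (autFun_mem_self _ hr), fun x hx =>
              ⟨R.mul_mem (R.mul_mem hr hx) (R.inv_mem hr), ?_⟩⟩
            exact ((mem_autGroup hRn.1).mp (lGrp_le h hR a.2)).1.map_conj hr hx
          · obtain ⟨hgN, v, hv, hve⟩ := mem_preimPart.mp hg
            have hav : a * v * a⁻¹ ∈ Q := by
              rw [← SetLike.mem_coe, ← haQ]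
              exact ⟨v, hv, rfl⟩
            obtain ⟨g₂, hg₂, hg₂e⟩ := mem_autInducedBy.mp ((hUW _).mp (hQ hav))
            refine ⟨g₂, Subgroup.mem_sup_right (mem_preimPart.mpr ⟨⟨hg₂, mem_normalizer_of_induces hg₂e⟩,
              a * v * a⁻¹, hav, fun x hx => by rw [autFun_of_mem _ hx]; exact hg₂e ⟨x, hx⟩⟩),
              fun x hx => ⟨conj_mem_of_mem_normalizer hgN.2 hx, ?_⟩⟩
            have h1 := hg₂e ⟨_, autFun_mem_self (a : MulAut R) hx⟩
            rw [← hve x hx]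
            rw [← autFun_coe, Subgroup.coe_mul, Subgroup.coe_mul, Subgroup.coe_inv,
              autFun_mul _ _ (autFun_mem_self _ hx), Function.comp_apply,
              PrimeIndex.autFun_inv_apply _ hx, autFun_mul _ _ hx, Function.comp_apply] at h1
            exact h1
        obtain ⟨m₂, hm₂, hme⟩ := hK hm₁
        exact ⟨m₂, hm₂, fun x hx => (hme x hx).2⟩
      obtain ⟨φ, hφ, hφe⟩ := lift_extend h hRn hR hRM₀ hM₀W hM₀n aX haX hnorm
      obtain ⟨τi, hτi, hτl, hτr⟩ := hτF.exists_inv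
      refine ⟨τi ∘ φ ∘ τ, IGen.aut (hφ.map h hτi hτr) le_rfl, fun x hx => ?_⟩
      simp only [Function.comp_apply]
      rw [hφe (by rw [← hbR x hx]; exact autFun_mem_self _ hx), hval x hx,
        hτl _ (hR₀N (autFun_mem_self _ hx))]
    · rintro Q a b - - ⟨g₁, hg₁, he₁⟩ ⟨g₂, hg₂, he₂⟩
      refine ⟨g₂ ∘ g₁, hg₁.comp hg₂ (preim_mapsTo h hR (hg₁.isMap h) fun x hx => he₁ hx), fun x hx => ?_⟩
      rw [Function.comp_apply, he₁ hx, he₂ (autFun_mem_self _ hx), Subgroup.coe_mul, autFun_mul _ _ hx,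
        Function.comp_apply]
    · rintro Q a hQ - ⟨g, hg, he⟩
      obtain ⟨X, hX⟩ := (hg.isMap h).exists_image
      obtain ⟨gi, -, hgl, -⟩ := hX.exists_inv
      have hXeq : X = preim (T₁ ⊓ T₂) R (cj a Q) := by
        refine le_antisymm (fun y hy => ?_) (sup_le (fun y hy => ?_) fun y hy => ?_)
        · obtain ⟨x, hx, rfl⟩ := hX.exists_preimage hy
          exact preim_mapsTo h hR (hg.isMap h) (fun x hx => he hx) x hx
        · obtain ⟨x, rfl⟩ : ∃ x : R, (((a : MulAut R) x : R) : Ω) = y :=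
            ⟨(a : MulAut R)⁻¹ ⟨y, hy⟩, by rw [MulAut.apply_inv_self]⟩
          rw [← autFun_coe, ← he x.2]
          exact hX.mem (Subgroup.mem_sup_left x.2)
        · obtain ⟨hyN, v', hv', hve⟩ := mem_preimPart.mp hy
          obtain ⟨v, hv, rfl⟩ := hv'
          obtain ⟨m, hm, hme⟩ := mem_autInducedBy.mp ((hUW v).mp (hQ hv))
          have hmp : m ∈ preim (T₁ ⊓ T₂) R Q := Subgroup.mem_sup_right (mem_preimPart.mpr
            ⟨⟨hm, mem_normalizer_of_induces hme⟩, v, hv, fun x hx => by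
              rw [autFun_of_mem _ hx]; exact hme ⟨x, hx⟩⟩)
          have h1 : y⁻¹ * g m ∈ R := hR.self h.wS (inv_mul_mem_centralizerIn
            (hg.apply_mem h hmp) hyN.1 fun z hz => by
            obtain ⟨x, rfl⟩ : ∃ x : R, (((a : MulAut R) x : R) : Ω) = z :=
              ⟨(a : MulAut R)⁻¹ ⟨z, hz⟩, by rw [MulAut.apply_inv_self]⟩
            rw [← hve _ (Subtype.mem _), ← autFun_coe (a : MulAut R), ← he x.2,
              ← (hg.isMap h).map_conj hmp (Subgroup.mem_sup_left x.2), ← hme x,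
              he (Subtype.mem _), autFun_coe]
            show _ = autFun ((a * v * a⁻¹ : lGrp h hR.1) : MulAut R) (g x)
            rw [he x.2, autFun_coe (a : MulAut R) x, autFun_coe, Subgroup.coe_mul, Subgroup.coe_mul,
              Subgroup.coe_inv, MulAut.mul_apply, MulAut.mul_apply, MulAut.inv_apply_self])
          have h2 : g m ∈ X := hX.mem hmp
          have h3 : y⁻¹ * g m ∈ X := by
            obtain ⟨x, hx⟩ : ∃ x : R, (((a : MulAut R) x : R) : Ω) = y⁻¹ * g m :=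
              ⟨(a : MulAut R)⁻¹ ⟨_, h1⟩, by rw [MulAut.apply_inv_self]⟩
            rw [← hx, ← autFun_coe, ← he x.2]
            exact hX.mem (Subgroup.mem_sup_left x.2)
          have := X.mul_mem h2 (X.inv_mem h3)
          simpa using this
      refine ⟨gi, IGen.inv hg (hXeq ▸ hX.2) hgl, fun y hy => ?_⟩
      obtain ⟨x, rfl⟩ : ∃ x : R, (((a : MulAut R) x : R) : Ω) = y :=
        ⟨(a : MulAut R)⁻¹ ⟨y, hy⟩, by rw [MulAut.apply_inv_self]⟩
      rw [← autFun_coe, ← he x.2, hgl _ (Subgroup.mem_sup_left x.2), he x.2, Subgroup.coe_inv,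
        PrimeIndex.autFun_inv_apply _ x.2]
    · rintro Q Q' a hle - ⟨g, hg, he⟩
      exact ⟨g, hg.mono h (preim_mono hle), he⟩
  set a : L := ⟨α, hα⟩
  set Q := (autInducedBy M R).subgroupOf L with hQ
  have hMW : M ≤ (T₁ ⊓ T₂) := hMN.trans inf_le_left
  have hQU : Q ≤ U := fun v hv => (hUW v).mpr (autInducedBy_mono hMW (Subgroup.mem_subgroupOf.mp hv))
  have hQU' : cj a Q ≤ U := by
    rintro _ ⟨v, hv, rfl⟩
    obtain ⟨m, hm, hme⟩ := mem_autInducedBy.mp (Subgroup.mem_subgroupOf.mp hv)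
    obtain ⟨w, hw, hwe⟩ := hconj m hm
    refine (hUW _).mpr (mem_autInducedBy.mpr ⟨w, hw.1, fun y => ?_⟩)
    obtain ⟨x, rfl⟩ := α.surjective y
    show (((α * (v : MulAut R) * α⁻¹) (α x) : R) : Ω) = _
    rw [MulAut.mul_apply, MulAut.mul_apply, MulAut.inv_apply_self, ← autFun_coe α ((v : MulAut R) x),
      hme x, hwe x x.2, autFun_coe]
  obtain ⟨g, hg, hge⟩ := hgood Q a hQU hQU'
  refine ⟨g, hg.mono h fun m hm => Subgroup.mem_sup_right (mem_preimPart.mpr ⟨hMN hm,
    ⟨conjAutHom (T₁ ⊓ T₂) R ⟨m, hMN hm⟩, ?_⟩, ?_, fun x hx => ?_⟩), hge⟩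
  · exact Subgroup.mem_sup_left (by rw [← range_conjAutHom]; exact ⟨_, rfl⟩)
  · exact Subgroup.mem_subgroupOf.mpr (mem_autInducedBy.mpr ⟨m, hm, fun x => conjAutHom_apply ..⟩)
  · show autFun (conjAutHom (T₁ ⊓ T₂) R ⟨m, hMN hm⟩) x = _
    rw [autFun_of_mem _ hx, conjAutHom_apply]

end Cfsg.Agent.Fusion.Inter
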