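import Cfsg.Agent.Lib.Fusion.FittingCentralizer
import Cfsg.Agent.Lib.Fusion.Inter.Main

/-!
# The product of a normal subgroup with a normal subsystem centralizing it is normal
-/

set_option autoImplicit false
set_option linter.style.haveILetI false

namespace Cfsg.Agent.Fusion.Inter

open Cfsg Cfsg.Agent.Fusion Cfsg.Agent.Fusion.NormalLift Cfsg.Agent.Fusion.Fitting
open Cfsg.FusionSystem (normalizerIn centralizerIn imageAlong preimageAlong)

variable {Ω : Type*} [Group Ω] {S T Q U : Subgroup Ω} {F : FusionSystem S} {E : FusionSystem T}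
  {D : FusionSystem U} {p : ℕ} [Fact p.Prime] {D₀ : FusionSystem (Q.prod T)} {θ : ↥(Q.prod T) →* Ω}

/-- A normal subgroup and a normal subsystem centralizing it, with their central product. -/
structure FData (F : FusionSystem S) (E : FusionSystem T) (D : FusionSystem U) (p : ℕ) [Fact p.Prime]
    (Q : Subgroup Ω) (D₀ : FusionSystem (Q.prod T)) (θ : ↥(Q.prod T) →* Ω) : Prop where
  n : NData F E p
  hQ : F.IsNormal Q
  ext : ∀ P f, IsMap E P f → ExtendsFix F Q P f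
  tC : T ≤ centralizerIn S Q
  cp : CPData E D Q D₀ θ

/-- The second projection of the elements lying over `P`. -/
def snd₂ (θ : ↥(Q.prod T) →* Ω) (P : Subgroup Ω) : Subgroup Ω :=
  (preimageAlong θ P).map (MonoidHom.snd Ω Ω)

theorem FData.qS (h : FData F E D p Q D₀ θ) : Q ≤ S := h.hQ.1

theorem FData.mem_u (h : FData F E D p Q D₀ θ) {x : Ω} :
    x ∈ U ↔ ∃ q ∈ Q, ∃ t ∈ T, x = q * t := by
  refine ⟨fun hx => ?_, fun ⟨q, hq, t, ht, he⟩ => he ▸ U.mul_mem (h.cp.left hq) (h.cp.right ht)⟩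
  obtain ⟨z, hz, rfl⟩ := Fusion91.exists_push_eq h.cp.surj.2.1 hx
  exact ⟨z.1, hz.1, z.2, hz.2, h.cp.push_eq z hz⟩

theorem FData.u_eq (h : FData F E D p Q D₀ θ) : U = T ⊔ Q := by
  refine le_antisymm (fun x hx => ?_) (sup_le h.cp.right h.cp.left)
  obtain ⟨q, hq, t, ht, rfl⟩ := h.mem_u.mp hx
  exact Subgroup.mul_mem _ (Subgroup.mem_sup_right hq) (Subgroup.mem_sup_left ht)

theorem FData.uS (h : FData F E D p Q D₀ θ) : U ≤ S := h.u_eq.le.trans (sup_le h.n.tS h.qS)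

theorem mem_snd₂ (h : FData F E D p Q D₀ θ) {P : Subgroup Ω} {q t : Ω} (hq : q ∈ Q) (ht : t ∈ T)
    (hP : q * t ∈ P) : t ∈ snd₂ θ P := by
  refine ⟨(q, t), Fusion91.mem_preimage_push.mpr ⟨⟨hq, ht⟩, ?_⟩, rfl⟩
  rwa [h.cp.push_eq _ ⟨hq, ht⟩]

theorem snd₂_le (θ : ↥(Q.prod T) →* Ω) (P : Subgroup Ω) : snd₂ θ P ≤ T := by
  rintro _ ⟨z, hz, rfl⟩
  exact ((Fusion91.preimageAlong_le θ P) hz).2

theorem snd₂_le_sup (h : FData F E D p Q D₀ θ) (P : Subgroup Ω) : snd₂ θ P ≤ P ⊔ Q := by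
  rintro _ ⟨z, hz, rfl⟩
  obtain ⟨hz', hzP⟩ := Fusion91.mem_preimage_push.mp hz
  rw [h.cp.push_eq z hz'] at hzP
  have := Subgroup.mul_mem (P ⊔ Q) (Subgroup.mem_sup_right (Q.inv_mem hz'.1)) (Subgroup.mem_sup_left hzP)
  rwa [inv_mul_cancel_left] at this

/-- Conjugation by an element of `Q` after a map fixing `Q` and lying in `E` on `T` is a map of `D`. -/
theorem dmap (h : FData F E D p Q D₀ θ) {P P₂ : Subgroup Ω} {c : Ω} {g m : Ω → Ω} (hc : c ∈ Q)
    (hP : P ≤ U) (hg : IsMap E P₂ g) (hm : IsMap F (P₂ ⊔ Q) m) (hme : Set.EqOn m g P₂)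
    (hfix : ∀ q ∈ Q, m q = q) (hP₂ : ∀ q ∈ Q, ∀ t ∈ T, q * t ∈ P → t ∈ P₂) :
    IsMap D P (fun x => c * m x * c⁻¹) := by
  set R := preimageAlong θ P
  have hR : R ≤ Q.prod T := Fusion91.preimageAlong_le θ P
  have hR₂ : R.map (MonoidHom.snd Ω Ω) ≤ P₂ := by
    rintro _ ⟨z, hz, rfl⟩
    obtain ⟨hz', hzP⟩ := Fusion91.mem_preimage_push.mp hz
    rw [h.cp.push_eq z hz'] at hzP
    exact hP₂ z.1 hz'.1 z.2 hz'.2 hzP
  have hg₀ : IsMap D₀ R fun z => (c * z.1 * c⁻¹, g z.2) := by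
    refine (Fusion91.isMap_prod_iff h.cp.prod).mpr ⟨hR, _, g, isMap_conj ?_ hc, hg.mono hR₂, fun _ _ => rfl⟩
    rintro _ ⟨z, hz, rfl⟩
    exact (hR hz).1
  obtain ⟨f', hf', hfe⟩ := Fusion91.exists_push_map h.cp.surj hg₀
  have hPle : P ≤ imageAlong θ R := fun x hx => by
    obtain ⟨z, hz, rfl⟩ := Fusion91.exists_push_eq h.cp.surj.2.1 (hP hx)
    exact (Fusion91.mem_imageAlong_push hR).mpr ⟨z, Fusion91.mem_preimage_push.mpr ⟨hz, hx⟩, rfl⟩
  refine (hf'.mono hPle).congr fun x hx => ?_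
  obtain ⟨z, hz, rfl⟩ := Fusion91.exists_push_eq h.cp.surj.2.1 (hP hx)
  have hzR : z ∈ R := Fusion91.mem_preimage_push.mpr ⟨hz, hx⟩
  have hz₂ : z.2 ∈ P₂ := hR₂ ⟨z, hzR, rfl⟩
  have hgz : g z.2 ∈ T := hg.apply_mem hz₂
  have hmem : (c * z.1 * c⁻¹, g z.2) ∈ Q.prod T := ⟨Q.mul_mem (Q.mul_mem hc hz.1) (Q.inv_mem hc), hgz⟩
  rw [hfe z hzR, h.cp.push_eq _ hmem, h.cp.push_eq z hz,
    hm.map_mul (Subgroup.mem_sup_right hz.1) (Subgroup.mem_sup_left hz₂), hfix _ hz.1, hme hz₂]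
  show c * z.1 * c⁻¹ * g z.2 = _
  rw [mul_assoc (c * z.1), h.cp.comm c⁻¹ (Q.inv_mem hc) _ hgz]
  group

/-- The form of a map of `D`. -/
theorem dlift (h : FData F E D p Q D₀ θ) {P : Subgroup Ω} {f : Ω → Ω} (hf : IsMap D P f) :
    ∃ c ∈ Q, ∃ g m, IsMap E (snd₂ θ P) g ∧ IsMap F (snd₂ θ P ⊔ Q) m ∧ Set.EqOn m g (snd₂ θ P) ∧
      (∀ q ∈ Q, m q = q) ∧ ∀ x ∈ P, f x = c * m x * c⁻¹ := by
  obtain ⟨c, hc, g, hg, he⟩ := h.cp.lift hf
  obtain ⟨m, hm, hme, hfix⟩ := h.ext _ _ hg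
  refine ⟨c, hc, g, m, hg, hm, hme, hfix, fun x hx => ?_⟩
  obtain ⟨z, hz, hxz, hfz⟩ := he x hx
  have hz' := (Fusion91.preimageAlong_le θ P) hz
  have hz₂ := Fusion91.mem_map_snd hz
  rw [hfz, hxz, hm.map_mul (Subgroup.mem_sup_right hz'.1) (Subgroup.mem_sup_left hz₂), hfix _ hz'.1,
    hme hz₂, mul_assoc (c * z.1), h.cp.comm c⁻¹ (Q.inv_mem hc) _ (hg.apply_mem hz₂)]
  group

variable [Finite S]

theorem FData.stab (h : FData F E D p Q D₀ θ) {X : Subgroup Ω} {f : Ω → Ω} (hf : IsMap F X f)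
    (hQX : Q ≤ X) : f '' (Q : Set Ω) = (Q : Set Ω) := by
  obtain ⟨f', -, he, him⟩ := normal_extendsStab h.hQ hf
  exact (Set.image_congr fun x hx => (he (hQX hx)).symm).trans him

theorem FData.map_q (h : FData F E D p Q D₀ θ) {X : Subgroup Ω} {f : Ω → Ω} (hf : IsMap F X f)
    (hQX : Q ≤ X) {q : Ω} (hq : q ∈ Q) : f q ∈ Q := by
  rw [← SetLike.mem_coe, ← h.stab hf hQX]
  exact ⟨q, hq, rfl⟩

theorem FData.map_u (h : FData F E D p Q D₀ θ) {X : Subgroup Ω} {f : Ω → Ω} (hf : IsMap F X f)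
    {x : Ω} (hx : x ∈ X) (hxU : x ∈ U) : f x ∈ U := by
  obtain ⟨f', hf', he, -⟩ := normal_extendsStab h.hQ hf
  obtain ⟨q, hq, t, ht, hxe⟩ := h.mem_u.mp hxU
  have hqm : q ∈ X ⊔ Q := Subgroup.mem_sup_right hq
  have htm : t ∈ X ⊔ Q := by
    have := Subgroup.mul_mem (X ⊔ Q) (Subgroup.inv_mem _ hqm) (Subgroup.mem_sup_left hx)
    rwa [hxe, inv_mul_cancel_left] at this
  rw [← he hx, hxe, hf'.map_mul hqm htm]
  exact h.mem_u.mpr ⟨_, h.map_q hf' le_sup_right hq, _, Fusion92.closed_apply h.n.closed hf' htm ht, rfl⟩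

theorem FData.sub (h : FData F E D p Q D₀ θ) : D.IsSubsystemOf F := fun P =>
  hom_subset_of_isMap fun f hf => h.cp.subsystem h.qS (fun R φ hφ => by
    have hm := isMap_extFun hφ
    exact (mem_centralizerHom fun x => (extFun_coe φ x).symm).mpr
      ⟨hm.of_isSubsystemOf h.n.sub, fun x hx => h.tC (hm.dom_le hx),
        fun x hx => h.tC (hm.apply_mem hx), h.ext _ _ hm⟩) hf

theorem FData.dSat (h : FData F E D p Q D₀ θ) : D.IsSaturated p := by
  haveI := finite_of_le h.qS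
  haveI := finite_of_le h.n.tS
  haveI : Finite ↥(Q.prod T) := Finite.of_equiv _ (Q.prodEquiv T).toEquiv.symm
  have hQp := h.n.pgroup.to_le h.qS
  exact Fusion91.isSaturated_image (isPGroup_prod hQp h.n.tp) (Fusion91.isSaturated_prod hQp h.n.tp
    (inner_isNormalIn_of_normal h.n.pgroup h.n.sat h.hQ).1.1 h.n.eSat h.cp.prod) h.cp.surj

/-- Invariance of `E` in the centralizer system of `Q`. -/
theorem FData.e_invariant (h : FData F E D p Q D₀ θ) :
    E.IsInvariantIn (centralizerSystem F Q h.qS) := by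
  haveI := finite_of_le (Fusion.centralizerIn_le S Q)
  have hC := isCentralizerSystem_centralizerSystem (F := F) Q h.qS
  have hCF : (centralizerSystem F Q h.qS).IsSubsystemOf F := fun P =>
    hom_subset_of_isMap fun f hf => ((IsCentralizerSystem.isMap_iff hC).1 hf).1
  refine invariant_of_strongInv (h.n.pgroup.to_le (Fusion.centralizerIn_le S Q))
    (centralizerSystem_isSaturated h.n.pgroup h.n.sat
      (fullyCentralized_of_fullyNormalized h.n.pgroup h.n.sat (normal_fullyNormalized h.hQ)))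
    (fun P => hom_subset_of_isMap fun f hf => (IsCentralizerSystem.isMap_iff hC).2
      ⟨hf.of_isSubsystemOf h.n.sub, fun x hx => h.tC (hf.dom_le hx), fun x hx => h.tC (hf.apply_mem hx),
        h.ext _ _ hf⟩)
    (stronglyClosed_iff.mpr ⟨h.tC, fun P f hf x hx hxT =>
      Fusion92.closed_apply h.n.closed (hf.of_isSubsystemOf hCF) hx hxT⟩)
    fun P P' R φ ψ hPR hR hφ hφR hψ hψP => h.n.strongInv P P' R φ ψ hPR hR hφ hφR
      (hψ.of_isSubsystemOf hCF) ⟨hψP.1.of_isSubsystemOf hCF, hψP.2⟩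

set_option maxHeartbeats 1000000 in
theorem FData.invariant (h : FData F E D p Q D₀ θ) : D.IsInvariantIn F := by
  have hUS := h.uS
  haveI := finite_of_le hUS
  refine Fus93.isInvariantIn_of h.sub
    (stronglyClosed_iff.mpr ⟨hUS, fun P f hf x hx hxU => h.map_u hf hx hxU⟩) ?_ ?_
  · intro P f hf k hk P' hP'
    obtain ⟨ki, hki, hkl, hkr⟩ := hk.exists_inv
    have hkT : IsIso F T T k := isIso_of_mapsTo (hk.1.mono h.cp.right) h.n.tS
      (fun x hx => Fusion92.closed_apply h.n.closed hk.1 (h.cp.right hx) hx) le_rfl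
    obtain ⟨c, hc, g, m, hg, hm, hme, hfix, he⟩ := dlift h hf
    obtain ⟨P₂, hP₂⟩ := (hkT.1.mono (snd₂_le θ P)).exists_image
    obtain ⟨g', hg', hg'e⟩ := invariant_inv h.n.invariant hg hkT hP₂.2.symm
    obtain ⟨m', hm', hm'e, hfix'⟩ := h.ext _ _ hg'
    have hP'U : P' ≤ U := fun y hy => by
      obtain ⟨x, hx, rfl⟩ := (Set.ext_iff.mp hP' y).mp hy
      exact hk.mem (hf.dom_le hx)
    refine ⟨_, dmap h (h.map_q hk.1 h.cp.left hc) hP'U hg' hm' hm'e hfix' fun q hq t ht hqt => ?_,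
      fun x hx => ?_⟩
    · obtain ⟨x, hx, hxe⟩ := (Set.ext_iff.mp hP' (q * t)).mp hqt
      have hxe' : x = ki q * ki t := by
        rw [← hki.1.map_mul (h.cp.left hq) (h.cp.right ht), ← hxe, hkl x (hf.dom_le hx)]
      rw [← hkr t (h.cp.right ht)]
      exact hP₂.mem (mem_snd₂ h (h.map_q hki.1 h.cp.left hq)
        (Fusion92.closed_apply h.n.closed hki.1 (h.cp.right ht) ht) (hxe' ▸ hx))
    · obtain ⟨q, hq, t, ht, rfl⟩ := h.mem_u.mp (hf.dom_le hx)
      have ht₂ := mem_snd₂ h hq ht hx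
      have hgt : g t ∈ T := hg.apply_mem ht₂
      rw [he _ hx, hm.map_mul (Subgroup.mem_sup_right hq) (Subgroup.mem_sup_left ht₂), hfix q hq, hme ht₂]
      have hqg : q * g t ∈ U := U.mul_mem (h.cp.left hq) (h.cp.right hgt)
      rw [hk.1.map_conj (h.cp.left hc) hqg, hk.1.map_mul (h.cp.left hq) (h.cp.right hgt),
        hk.1.map_mul (h.cp.left hq) (h.cp.right ht)]
      show k c * m' (k q * k t) * (k c)⁻¹ = _
      rw [hm'.map_mul (Subgroup.mem_sup_right (h.map_q hk.1 h.cp.left hq))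
          (Subgroup.mem_sup_left (hP₂.mem ht₂)), hfix' _ (h.map_q hk.1 h.cp.left hq),
        hm'e (hP₂.mem ht₂), hg'e t ht₂]
  · intro P f hf hP
    obtain ⟨f', hf', hf'e, hf'Q⟩ := normal_extendsStab h.hQ hf
    have hPQ : P ⊔ Q ≤ U := sup_le hP h.cp.left
    have hQn := normal_fullyNormalized h.hQ
    obtain ⟨b, hb, hbe⟩ := receptive_extend (receptive_of_fullyNormalized h.n.pgroup h.n.sat hQn)
      (show IsIso F Q Q f' from ⟨hf'.mono le_sup_right, hf'Q⟩) (isExtendable_centralizerIn f')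
    have hUle : U ≤ Q ⊔ centralizerIn S Q := h.u_eq.le.trans (sup_le (h.tC.trans le_sup_right) le_sup_left)
    have hbU : IsIso F U U b := isIso_of_mapsTo (hb.mono hUle) hUS
      (fun x hx => h.map_u hb (hUle hx) hx) le_rfl
    obtain ⟨bi, hbi, hbl, hbr⟩ := hbU.exists_inv
    have hf'' : IsMap F (P ⊔ Q) (bi ∘ f') :=
      hf'.comp hbi.1 fun x hx => h.map_u hf' hx (hPQ hx)
    have hfix : ∀ q ∈ Q, (bi ∘ f') q = q := fun q hq => by
      rw [Function.comp_apply, ← hbe hq, hbl q (h.cp.left hq)]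
    have hle : snd₂ θ P ⊔ Q ≤ P ⊔ Q := sup_le (snd₂_le_sup h P) le_sup_right
    have hC := isCentralizerSystem_centralizerSystem (F := F) Q h.qS
    have hCm : IsMap (centralizerSystem F Q h.qS) (snd₂ θ P) (bi ∘ f') :=
      (IsCentralizerSystem.isMap_iff hC).2 ⟨hf''.mono (le_sup_left.trans hle),
        fun x hx => h.tC (snd₂_le θ P hx),
        fun x hx => h.tC (Fusion92.closed_apply h.n.closed hf'' (snd₂_le_sup h P hx) (snd₂_le θ P hx)),
        bi ∘ f', hf''.mono hle, fun _ _ => rfl, hfix⟩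
    obtain ⟨k, g, hk, hg, hkg⟩ := invariant_frattini h.e_invariant hCm (snd₂_le θ P)
    obtain ⟨-, -, -, k', hk', hk'e, hk'fix⟩ := (IsCentralizerSystem.isMap_iff hC).1 hk.1
    obtain ⟨m, hm, hme, hmfix⟩ := h.ext _ _ hg
    have hk'U : IsIso F U U k' := isIso_of_mapsTo (hk'.mono h.u_eq.le) hUS
      (fun x hx => h.map_u hk' (h.u_eq.le hx) hx) le_rfl
    refine ⟨b ∘ k', _, hk'U.comp hbU,
      dmap h Q.one_mem hP hg hm hme hmfix fun q hq t ht hqt => mem_snd₂ h hq ht hqt, fun x hx => ?_⟩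
    obtain ⟨q, hq, t, ht, rfl⟩ := h.mem_u.mp (hP hx)
    have ht₂ := mem_snd₂ h hq ht hx
    simp only [Function.comp_apply, one_mul, inv_one, mul_one]
    rw [hm.map_mul (Subgroup.mem_sup_right hq) (Subgroup.mem_sup_left ht₂), hmfix q hq, hme ht₂,
      hk'.map_mul (Subgroup.mem_sup_right hq) (Subgroup.mem_sup_left (hg.apply_mem ht₂)),
      hk'fix q hq, hk'e (hg.apply_mem ht₂), ← hkg t ht₂]
    show f (q * t) = b (q * (bi ∘ f') t)
    have hft : f' t ∈ U := h.map_u hf' (snd₂_le_sup h P ht₂) (h.cp.right ht)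
    rw [Function.comp_apply, hbU.1.map_mul (h.cp.left hq) (hbi.mem hft), hbr _ hft, hbe hq,
      ← hf'.map_mul (Subgroup.mem_sup_right hq) (snd₂_le_sup h P ht₂), hf'e hx]

/-- The automorphisms of `T` in `E` lift fixing `Q`. -/
def ExtQ (F : FusionSystem S) (T Q : Subgroup Ω) (g : Ω → Ω) : Prop :=
  ∃ γ, IsIso F (T ⊔ centralizerIn S T) (T ⊔ centralizerIn S T) γ ∧ Set.EqOn γ g T ∧ (∀ q ∈ Q, γ q = q) ∧
    ∀ x ∈ T ⊔ centralizerIn S T, x⁻¹ * γ x ∈ T

set_option maxHeartbeats 1000000 in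
theorem FData.extQ (h : FData F E D p Q D₀ θ) {g : Ω → Ω} (hg : IsIso E T T g) : ExtQ F T Q g := by
  haveI := h.n.finiteT
  haveI := finite_mulAut T
  set DT := T ⊔ centralizerIn S T with hDT
  have hDTS : DT ≤ S := sup_le h.n.tS (Fusion.centralizerIn_le _ _)
  haveI := finite_of_le hDTS
  haveI := finite_mulAut DT
  have hUS := h.uS
  haveI := finite_of_le hUS
  haveI := finite_mulAut U
  have hQC : Q ≤ centralizerIn S T := fun q hq => ⟨h.qS hq, Subgroup.mem_centralizer_iff.mpr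
    fun t ht => (h.cp.comm q hq t ht).symm⟩
  have hUD : U ≤ DT := h.u_eq.le.trans (sup_le_sup_left hQC T)
  have hid : ExtQ F T Q id := ⟨id, isIso_id hDTS, fun _ _ => rfl, fun _ _ => rfl, fun x _ => by simp⟩
  have hcomp : ∀ {a b : MulAut T}, ExtQ F T Q (autFun a) → ExtQ F T Q (autFun b) →
      ExtQ F T Q (autFun (a * b)) := by
    rintro a b ⟨γa, ha, hae, haf, ham⟩ ⟨γb, hb, hbe, hbf, hbm⟩
    refine ⟨γa ∘ γb, hb.comp ha, fun x hx => ?_, fun q hq => by rw [Function.comp_apply, hbf q hq, haf q hq],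
      fun x hx => ?_⟩
    · rw [Function.comp_apply, hbe hx, hae (autFun_mem_self b hx), autFun_mul _ _ hx]
      rfl
    · have := T.mul_mem (hbm x hx) (ham _ (hb.mem hx))
      rw [Function.comp_apply]
      convert this using 1
      group
  have hpow : ∀ {a : MulAut T}, ExtQ F T Q (autFun a) → ∀ n : ℕ, ExtQ F T Q (autFun (a ^ n)) := by
    intro a ha n
    induction n with
    | zero =>
      obtain ⟨γ, h1, h2, h3, h4⟩ := hid
      exact ⟨γ, h1, fun x hx => by rw [pow_zero, autFun_one hx]; exact h2 hx, h3, h4⟩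
    | succ n ih => rw [pow_succ]; exact hcomp ih ha
  let K : Subgroup (E.autGroup T) :=
    { carrier := {a | ExtQ F T Q (autFun (a : MulAut T))}
      one_mem' := by simpa using hpow (a := 1) (by
        obtain ⟨γ, h1, h2, h3, h4⟩ := hid
        exact ⟨γ, h1, fun x hx => by rw [autFun_one hx]; exact h2 hx, h3, h4⟩) 0
      mul_mem' := fun ha hb => hcomp ha hb
      inv_mem' := fun {a} ha => by
        obtain ⟨n, hn⟩ : ∃ n : ℕ, a⁻¹ = a ^ n := ⟨orderOf a - 1, by
          rw [inv_eq_iff_mul_eq_one, ← pow_succ', Nat.sub_add_cancel (orderOf_pos a), pow_orderOf_eq_one]⟩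
        show ExtQ F T Q (autFun ((a⁻¹ : E.autGroup T) : MulAut T))
        rw [hn, Subgroup.coe_pow]
        exact hpow ha n }
  obtain ⟨V, hV⟩ := (fullyAutomized_of_fullyNormalized h.n.tp h.n.eSat fullyNormalized_self).2
  have hK : K = ⊤ := by
    refine eq_top_of_sylow_coprime V K (fun a ha => ?_) fun a ha => ?_
    · rw [hV, Subgroup.mem_subgroupOf] at ha
      obtain ⟨t, ht, hte⟩ := mem_autInducedBy.mp ha
      have htm : t ∈ DT := Subgroup.mem_sup_left ht
      refine ⟨fun x => t * x * t⁻¹, ⟨isMap_conj hDTS (h.n.tS ht), image_conj_eq_self (DT.le_normalizer htm)⟩,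
        fun x hx => by rw [autFun_of_mem _ hx]; exact (hte ⟨x, hx⟩).symm,
        fun q hq => by
          show t * q * t⁻¹ = q
          rw [← h.cp.comm q hq t ht, mul_inv_cancel_right], fun x hx => ?_⟩
      have hs : x ∈ S := hDTS hx
      have h1 := h.n.conj_t (S.inv_mem hs) ht
      have := T.mul_mem h1 (T.inv_mem ht)
      convert this using 1
      group
    · obtain ⟨γ₀, hγ₀, hγ₀e, hγ₀c⟩ := Fus93.normal_ext h.n.normal ((mem_autGroup le_rfl).mp a.2)
      obtain ⟨A, hA, hAe⟩ := hγ₀.exists_aut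
      obtain ⟨m, hm, hme⟩ := exists_pow_coprime (p := p) A (a : MulAut T) (by rwa [Subgroup.orderOf_coe])
      have hmod₀ : ∀ x ∈ DT, x⁻¹ * autFun A x ∈ T := fun x hx => by
        rw [hAe hx]
        exact mod_sup (inf_le_right.trans (Subgroup.centralizer_le_normalizer _)) hγ₀.1
          (fun y hy => hγ₀e y hy ▸ autFun_mem_self _ hy) (fun c hc => (hγ₀c c hc).1) x hx
      have hγe : ∀ x ∈ T, autFun (A ^ m) x = autFun (a : MulAut T) x := by
        have key : ∀ n : ℕ, ∀ x ∈ T, autFun (A ^ n) x = autFun ((a : MulAut T) ^ n) x := by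
          intro n
          induction n with
          | zero => intro x hx; rw [pow_zero, pow_zero, autFun_one (Subgroup.mem_sup_left hx), autFun_one hx]
          | succ n ih =>
            intro x hx
            rw [pow_succ, pow_succ, autFun_mul _ _ (Subgroup.mem_sup_left hx), autFun_mul _ _ hx,
              Function.comp_apply, Function.comp_apply, hAe (Subgroup.mem_sup_left hx), hγ₀e x hx,
              ih _ (autFun_mem_self _ hx)]
        intro x hx
        rw [key m x hx, hme]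
      have hγ := (mem_autGroup hDTS).mp (Subgroup.pow_mem _ hA m)
      have hmod := mod_pow hmod₀ m
      refine ⟨autFun (A ^ m), hγ, hγe, fun q hq => ?_, hmod⟩
      -- the lift fixes `Q`
      have hγU : IsIso F U U (autFun (A ^ m)) := isIso_of_mapsTo (hγ.1.mono hUD) hUS
        (fun x hx => h.map_u hγ.1 (hUD hx) hx) le_rfl
      obtain ⟨γU, hγUF, hγUe⟩ := hγU.exists_aut
      obtain ⟨μ₀, hμ₀, hμ₀e, hμ₀f⟩ := h.ext _ _ ((mem_autGroup le_rfl).mp a.2).1
      have hμU : IsIso F U U μ₀ := isIso_of_mapsTo (hμ₀.mono h.u_eq.le) hUS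
        (fun x hx => h.map_u hμ₀ (h.u_eq.le hx) hx) le_rfl
      obtain ⟨μ, hμF, hμe⟩ := hμU.exists_aut
      let H : Subgroup (F.autGroup U) :=
        { carrier := {φ | ∀ q ∈ Q, autFun (φ : MulAut U) q = q}
          one_mem' := fun q hq => autFun_one (h.cp.left hq)
          mul_mem' := fun {φ ψ} hφ hψ q hq => by
            rw [Subgroup.coe_mul, autFun_mul _ _ (h.cp.left hq), Function.comp_apply, hψ q hq, hφ q hq]
          inv_mem' := fun {φ} hφ q hq => by
            rw [Subgroup.coe_inv]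
            conv_lhs => rw [← hφ q hq]
            exact PrimeIndex.autFun_inv_apply _ (h.cp.left hq) }
      haveI : H.Normal := ⟨fun φ hφ ψ q hq => by
        have h1 : autFun ((ψ : MulAut U)⁻¹) q ∈ Q :=
          h.map_q ((mem_autGroup hUS).mp (Subgroup.inv_mem _ ψ.2)).1 h.cp.left hq
        rw [Subgroup.coe_mul, Subgroup.coe_mul, Subgroup.coe_inv, autFun_mul _ _ (h.cp.left hq),
          Function.comp_apply, autFun_mul _ _ (h.cp.left h1), Function.comp_apply, hφ _ h1,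
          ← Function.comp_apply (f := autFun (ψ : MulAut U)), ← autFun_mul _ _ (h.cp.left hq),
          mul_inv_cancel, autFun_one (h.cp.left hq)]
        rfl⟩
      set δ := μ⁻¹ * γU with hδ
      have hδi := (mem_autGroup hUS).mp (Subgroup.mul_mem _ (Subgroup.inv_mem _ hμF) hγUF)
      have hfixT : ∀ x ∈ T, autFun δ x = x := fun x hx => by
        rw [hδ, autFun_mul _ _ (h.cp.right hx), Function.comp_apply, hγUe (h.cp.right hx), hγe x hx,
          ← hμ₀e hx, ← hμe (h.cp.right hx), PrimeIndex.autFun_inv_apply μ (h.cp.right hx)]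
      have hmodU : ∀ x ∈ U, x⁻¹ * autFun δ x ∈ T := fun x hx => by
        refine mod_sup (R := T) (B := Q) (hQC.trans (inf_le_right.trans (Subgroup.centralizer_le_normalizer _)))
          (hδi.1.mono h.u_eq.ge) (fun y hy => (hfixT y hy).symm ▸ hy) (fun q hq => ?_) x (h.u_eq.le hx)
        have hqU := h.cp.left hq
        have hz := hmod q (hUD hqU)
        have hμi := (mem_autGroup hUS).mp (Subgroup.inv_mem _ hμF)
        have hμq : autFun μ⁻¹ q = q := by
          conv_lhs => rw [← hμ₀f q hq, ← hμe hqU]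
          exact PrimeIndex.autFun_inv_apply _ hqU
        have h2 := Fusion92.closed_apply h.n.closed hμi.1 (h.cp.right hz) hz
        rwa [hμi.1.map_mul (U.inv_mem hqU) (hγU.mem hqU), hμi.1.map_inv hqU, hμq, ← hγUe hqU,
          ← Function.comp_apply (f := autFun μ⁻¹), ← autFun_mul _ _ hqU] at h2
      have hδfix : δ ∈ fixMod U T := ⟨fun x hx => Subtype.ext (by rw [← autFun_coe, hfixT _ hx]),
        fun x => by rw [Subgroup.coe_mul, Subgroup.coe_inv, ← autFun_coe]; exact hmodU x x.2⟩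
      obtain ⟨k, hk⟩ := fixMod_isPGroup (p := p) (h.n.pgroup.to_le hUS) ⟨δ, hδfix⟩
      have hUo : (orderOf γU).Coprime p := by
        obtain ⟨n, hn, hne⟩ := cop_of_pow (p := p) hm hUD
        refine Nat.Coprime.coprime_dvd_left
          (orderOf_dvd_of_pow_eq_one (MulEquiv.ext fun x => Subtype.ext ?_)) hn
        rw [← autFun_coe, iterate_autFun hγUe n x x.2, hne x x.2]
        rfl
      have hμH : (⟨μ, hμF⟩ : F.autGroup U) ∈ H := fun q hq => (hμe (h.cp.left hq)).trans (hμ₀f q hq)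
      have hmem : (⟨γU, hγUF⟩ : F.autGroup U) ∈ H := by
        refine mem_of_coprime_mod H (b := ⟨δ, Subgroup.mul_mem _ (Subgroup.inv_mem _ hμF) hγUF⟩)
          (by rwa [← Subgroup.orderOf_coe]) (k := k) (Subtype.ext (by simpa using congrArg Subtype.val hk)) ?_
        have he : (⟨δ, Subgroup.mul_mem _ (Subgroup.inv_mem _ hμF) hγUF⟩ : F.autGroup U)⁻¹ * ⟨γU, hγUF⟩ =
            ⟨γU, hγUF⟩⁻¹ * ⟨μ, hμF⟩ * (⟨γU, hγUF⟩⁻¹)⁻¹ := Subtype.ext (by
          simp only [hδ, Subgroup.coe_mul, Subgroup.coe_inv]; group)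
        rw [he]
        exact Subgroup.Normal.conj_mem inferInstance _ hμH _
      rw [← hγUe (h.cp.left hq)]
      exact hmem q hq
  obtain ⟨α, hα, hαe⟩ := hg.exists_aut
  obtain ⟨γ, h1, h2, h3, h4⟩ := (hK.ge (Subgroup.mem_top (⟨α, hα⟩ : E.autGroup T)) : ExtQ F T Q (autFun α))
  exact ⟨γ, h1, h2.trans hαe, h3, h4⟩

theorem FData.isNormalIn (h : FData F E D p Q D₀ θ) : D.IsNormalIn F p := by
  have hUS := h.uS
  haveI := h.n.finiteT
  refine Fus93.isNormalIn_of ⟨h.dSat, h.n.sat, h.invariant⟩ fun k hk => ?_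
  obtain ⟨c, hc, g, m, hg, hm, hme, hfix, he⟩ := dlift h hk.1
  have hT : T ≤ snd₂ θ U := fun t ht => mem_snd₂ h Q.one_mem ht (by rw [one_mul]; exact h.cp.right ht)
  have hgT : IsIso E T T g := isIso_of_mapsTo (hg.mono hT) le_rfl (fun x hx => hg.apply_mem (hT hx)) le_rfl
  obtain ⟨γ, hγ, hγe, hγf, hγm⟩ := h.extQ hgT
  have hQC : Q ≤ centralizerIn S T := fun q hq => ⟨h.qS hq, Subgroup.mem_centralizer_iff.mpr
    fun t ht => (h.cp.comm q hq t ht).symm⟩
  have hle : U ⊔ centralizerIn S U ≤ T ⊔ centralizerIn S T := sup_le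
    (h.u_eq.le.trans (sup_le_sup_left hQC T))
    ((inf_le_inf_left _ (Subgroup.centralizer_le h.cp.right)).trans le_sup_right)
  have hcU := h.cp.left hc
  have hγU : IsIso F U U γ := by
    haveI := finite_of_le hUS
    exact isIso_of_mapsTo (hγ.1.mono (le_sup_left.trans hle)) hUS
      (fun x hx => h.map_u hγ.1 (hle (Subgroup.mem_sup_left hx)) hx) le_rfl
  have hγC : ∀ x ∈ centralizerIn S U, γ x ∈ centralizerIn S U := fun x hx =>
    map_mem_centralizer hγ.1 (le_sup_left.trans hle) hγU.2 (hle (Subgroup.mem_sup_right hx)) hx.2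
  have hfixC : ∀ x ∈ centralizerIn S U, c * γ x * c⁻¹ = γ x := fun x hx => by
    rw [Subgroup.mem_centralizer_iff.mp (hγC x hx).2 c hcU, mul_inv_cancel_right]
  have hUSS : U ⊔ centralizerIn S U ≤ S := sup_le hUS (Fusion.centralizerIn_le _ _)
  have hmapsTo : ∀ x ∈ U ⊔ centralizerIn S U, γ x ∈ U ⊔ centralizerIn S U :=
    isMap_mem_sup (hγ.1.mono hle) le_sup_left le_sup_right
      (fun x hx => Subgroup.mem_sup_left (hγU.mem hx)) fun x hx => Subgroup.mem_sup_right (hγC x hx)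
  have hcm : c ∈ U ⊔ centralizerIn S U := Subgroup.mem_sup_left hcU
  have hm' : IsMap F (U ⊔ centralizerIn S U) fun x => c * γ x * c⁻¹ :=
    ((hγ.1.mono hle).comp (isMap_conj hUSS (hUS hcU)) hmapsTo).congr fun _ _ => rfl
  refine ⟨_, isIso_of_mapsTo hm' hUSS (fun x hx => Subgroup.mul_mem _ (Subgroup.mul_mem _ hcm (hmapsTo x hx))
    (Subgroup.inv_mem _ hcm)) le_rfl, fun x hx => ?_, fun x hx => ?_⟩
  · rw [he x hx]
    obtain ⟨q, hq, t, ht, rfl⟩ := h.mem_u.mp hx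
    show c * γ (q * t) * c⁻¹ = c * m (q * t) * c⁻¹
    rw [hγ.1.map_mul (Subgroup.mem_sup_right (hQC hq)) (Subgroup.mem_sup_left ht), hγf q hq, hγe ht]
    rw [hm.map_mul (Subgroup.mem_sup_right hq) (Subgroup.mem_sup_left (hT ht)), hfix q hq, hme (hT ht)]
  · show x⁻¹ * (c * γ x * c⁻¹) ∈ _
    rw [hfixC x hx]
    exact ⟨h.cp.right (hγm x (hle (Subgroup.mem_sup_right hx))),
      Subgroup.mul_mem _ (Subgroup.inv_mem _ hx.2) (hγC x hx).2⟩

end Cfsg.Agent.Fusion.Inter
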