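import Cfsg.Agent.Lib.Fusion.Inter.Sylow

/-!
# The maps generated by `W` and the liftable automorphisms of order prime to `p`
-/

set_option autoImplicit false
set_option linter.style.haveILetI false

namespace Cfsg.Agent.Fusion.Inter

open Cfsg Cfsg.Agent.Fusion Cfsg.Agent.Fusion.NormalLift
open Cfsg.FusionSystem (normalizerIn centralizerIn)

variable {Ω : Type*} [Group Ω] {S T T₁ T₂ : Subgroup Ω} {F : FusionSystem S} {E : FusionSystem T}
  {E₁ : FusionSystem T₁} {E₂ : FusionSystem T₂} {p : ℕ}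

/-- A generating automorphism: a transported automorphism of order prime to `p` with a lift. -/
def KGen (F : FusionSystem S) (E₁ : FusionSystem T₁) (E₂ : FusionSystem T₂) (p : ℕ) (R : Subgroup Ω)
    (k : Ω → Ω) : Prop :=
  Wc F (T₁ ⊓ T₂) R ∧ ∃ R' θ θi ψ, IsIso F R R' θ ∧ (∀ x ∈ R, θi (θ x) = x) ∧
    F.IsFullyCentralized R' ∧ LiftI F E₁ E₂ R' ψ ∧ Cop p R' ψ ∧ Set.EqOn k (θi ∘ ψ ∘ θ) R

/-- The maps generated by conjugation by `W` and the generating automorphisms. -/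
inductive IGen (F : FusionSystem S) (E₁ : FusionSystem T₁) (E₂ : FusionSystem T₂) (p : ℕ) :
    Subgroup Ω → (Ω → Ω) → Prop
  | conj {P : Subgroup Ω} {w : Ω} : P ≤ T₁ ⊓ T₂ → w ∈ T₁ ⊓ T₂ → IGen F E₁ E₂ p P (fun x => w * x * w⁻¹)
  | aut {P R : Subgroup Ω} {k : Ω → Ω} : KGen F E₁ E₂ p R k → P ≤ R → IGen F E₁ E₂ p P k
  | comp {P Q : Subgroup Ω} {f g : Ω → Ω} : IGen F E₁ E₂ p P f → IGen F E₁ E₂ p Q g →
      (∀ x ∈ P, f x ∈ Q) → IGen F E₁ E₂ p P (g ∘ f)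
  | inv {P Q : Subgroup Ω} {f g : Ω → Ω} : IGen F E₁ E₂ p P f → f '' (P : Set Ω) = (Q : Set Ω) →
      (∀ x ∈ P, g (f x) = x) → IGen F E₁ E₂ p Q g
  | congr {P : Subgroup Ω} {f g : Ω → Ω} : IGen F E₁ E₂ p P f → Set.EqOn f g P → IGen F E₁ E₂ p P g

variable [Finite S]

theorem KGen.wc {R : Subgroup Ω} {k : Ω → Ω} (hk : KGen F E₁ E₂ p R k) : Wc F (T₁ ⊓ T₂) R := hk.1

theorem KGen.isIso {R : Subgroup Ω} {k : Ω → Ω} (hk : KGen F E₁ E₂ p R k) :
    IsIso F R R k := by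
  obtain ⟨-, R', θ, θi, ψ, hθ, hθi, hfc, hψ, -, he⟩ := hk
  obtain ⟨σ, hσ, hσl, -⟩ := hθ.exists_inv
  refine (((hθ.comp (hψ.isIso hfc.1)).comp hσ)).congr fun x hx => ?_
  obtain ⟨y, hy, hye⟩ := hθ.exists_preimage (hψ.mem_self (hθ.mem hx))
  simp only [Function.comp_apply, he hx]
  rw [← hye, hσl y hy, hθi y hy]

/-- Transport of a generating automorphism along any isomorphism of the system. -/
theorem KGen.map (h : IData F E₁ E₂ p) {R R₁ : Subgroup Ω} {k σ σi : Ω → Ω}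
    (hk : KGen F E₁ E₂ p R k) (hσ : IsIso F R R₁ σ) (hσi : ∀ x ∈ R, σi (σ x) = x) :
    KGen F E₁ E₂ p R₁ (σ ∘ k ∘ σi) := by
  obtain ⟨hwc, R', θ, θi, ψ, hθ, hθi, hfc, hψ, hcop, he⟩ := hk
  obtain ⟨τ, hτ, hτl, -⟩ := hσ.exists_inv
  refine ⟨hwc.of_conj h hσ.isConj, R', θ ∘ τ, σ ∘ θi, ψ, hτ.comp hθ, fun y hy => ?_, hfc, hψ, hcop,
    fun y hy => ?_⟩
  · obtain ⟨x, hx, rfl⟩ := hσ.exists_preimage hy
    simp only [Function.comp_apply]
    rw [hτl x hx, hθi x hx]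
  · obtain ⟨x, hx, rfl⟩ := hσ.exists_preimage hy
    simp only [Function.comp_apply]
    rw [hσi x hx, hτl x hx, he hx]
    rfl

theorem KGen.congr {R : Subgroup Ω} {k k' : Ω → Ω} (hk : KGen F E₁ E₂ p R k)
    (he : Set.EqOn k k' R) : KGen F E₁ E₂ p R k' := by
  obtain ⟨hwc, R', θ, θi, ψ, hθ, hθi, hfc, hψ, hcop, hke⟩ := hk
  exact ⟨hwc, R', θ, θi, ψ, hθ, hθi, hfc, hψ, hcop, he.symm.trans hke⟩

theorem IGen.isMap (h : IData F E₁ E₂ p) {P : Subgroup Ω} {f : Ω → Ω} (hg : IGen F E₁ E₂ p P f) :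
    IsMap F P f := by
  induction hg with
  | conj hP hw => exact isMap_conj (hP.trans h.wS) (h.wS hw)
  | aut hk hle => exact hk.isIso.1.mono hle
  | comp _ _ hm hf hg => exact hf.comp hg hm
  | @inv P Q f g _ him hinv hf =>
    have hiso : IsIso F P Q f := ⟨hf, him⟩
    obtain ⟨g', hg', hl, -⟩ := hiso.exists_inv
    refine hg'.1.congr fun y hy => ?_
    obtain ⟨x, hx, rfl⟩ := hiso.exists_preimage hy
    rw [hl x hx, hinv x hx]
  | congr _ he hf => exact hf.congr he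

theorem IGen.dom_le (h : IData F E₁ E₂ p) {P : Subgroup Ω} {f : Ω → Ω} (hg : IGen F E₁ E₂ p P f) :
    P ≤ T₁ ⊓ T₂ := by
  induction hg with
  | conj hP _ => exact hP
  | aut hk hle => exact hle.trans hk.1.1
  | comp _ _ _ hf _ => exact hf
  | @inv P Q f g hf' him _ hf =>
    intro y hy
    have hy' : y ∈ f '' (P : Set Ω) := him.symm ▸ hy
    obtain ⟨x, hx, rfl⟩ := hy'
    exact h.map_w (hf'.isMap h) hx (hf hx)
  | congr _ _ hf => exact hf

theorem IGen.apply_mem (h : IData F E₁ E₂ p) {P : Subgroup Ω} {f : Ω → Ω}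
    (hg : IGen F E₁ E₂ p P f) {x : Ω} (hx : x ∈ P) : f x ∈ T₁ ⊓ T₂ :=
  h.map_w (hg.isMap h) hx (hg.dom_le h hx)

omit [Finite S] in
theorem igen_id {P : Subgroup Ω} (hP : P ≤ T₁ ⊓ T₂) : IGen F E₁ E₂ p P id :=
  (IGen.conj hP (Subgroup.one_mem _)).congr fun x _ => by simp

theorem IGen.mono (h : IData F E₁ E₂ p) {P P' : Subgroup Ω} {f : Ω → Ω}
    (hg : IGen F E₁ E₂ p P f) (hle : P' ≤ P) : IGen F E₁ E₂ p P' f :=
  ((igen_id (hle.trans (hg.dom_le h))).comp hg fun _ hx => hle hx).congr fun _ _ => rfl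

/-- The generated maps lie in a normal subsystem containing the lifts. -/
theorem IGen.isMap_single (h : IData F E₁ E₂ p) (n : NData F E p) (hWT : T₁ ⊓ T₂ ≤ T)
    (hl : ∀ R ψ, LiftI F E₁ E₂ R ψ → IsMap E (R ⊔ centralizerIn T R) ψ)
    {P : Subgroup Ω} {f : Ω → Ω} (hg : IGen F E₁ E₂ p P f) : IsMap E P f := by
  induction hg with
  | conj hP hw => exact isMap_conj (hP.trans hWT) (hWT hw)
  | @aut P R k hk hle =>
    obtain ⟨hwc, R', θ, θi, ψ, hθ, hθi, hfc, hψ, -, he⟩ := hk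
    obtain ⟨σ, hσ, hσl, -⟩ := hθ.exists_inv
    have hR' : R' ≤ T := (hwc.of_conj h hθ.isConj).1.trans hWT
    obtain ⟨χ, hχ, hχe⟩ := n.strongInv _ _ _ ψ σ le_rfl hR' ((hl _ _ hψ).mono le_sup_left)
      (fun x hx => hψ.mem_self hx) hσ.1 hσ
    refine (hχ.mono hle).congr fun x hx => ?_
    have hx' := hθ.mem (hle hx)
    rw [← hσl x (hle hx), hχe _ hx', hσl x (hle hx), he (hle hx)]
    obtain ⟨y, hy, hye⟩ := hθ.exists_preimage (hψ.mem_self hx')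
    simp only [Function.comp_apply]
    rw [← hye, hσl y hy, hθi y hy]
  | comp _ _ hm hf hg => exact hf.comp hg hm
  | @inv P Q f g _ him hinv hf =>
    have hiso : IsIso E P Q f := ⟨hf, him⟩
    obtain ⟨g', hg', hl', -⟩ := hiso.exists_inv
    refine hg'.1.congr fun y hy => ?_
    obtain ⟨x, hx, rfl⟩ := hiso.exists_preimage hy
    rw [hl' x hx, hinv x hx]
  | congr _ he hf => exact hf.congr he

/-- Invariance under the automorphisms of `W`. -/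
theorem IGen.transport (h : IData F E₁ E₂ p) {α αi : Ω → Ω}
    (hα : IsIso F (T₁ ⊓ T₂) (T₁ ⊓ T₂) α) (hl : ∀ x ∈ T₁ ⊓ T₂, αi (α x) = x)
    {P : Subgroup Ω} {f : Ω → Ω} (hg : IGen F E₁ E₂ p P f) :
    ∀ P' : Subgroup Ω, (P' : Set Ω) = α '' (P : Set Ω) → IGen F E₁ E₂ p P' (α ∘ f ∘ αi) := by
  have hback : ∀ {P P' : Subgroup Ω}, P ≤ T₁ ⊓ T₂ → (P' : Set Ω) = α '' (P : Set Ω) → ∀ y ∈ P',
      ∃ x ∈ P, α x = y ∧ αi y = x := by
    intro P P' hP hP' y hy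
    have : y ∈ α '' (P : Set Ω) := hP' ▸ hy
    obtain ⟨x, hx, rfl⟩ := this
    exact ⟨x, hx, rfl, hl x (hP hx)⟩
  have hle : ∀ {P P' : Subgroup Ω}, P ≤ T₁ ⊓ T₂ → (P' : Set Ω) = α '' (P : Set Ω) → P' ≤ T₁ ⊓ T₂ := by
    intro P P' hP hP' y hy
    obtain ⟨x, hx, rfl, -⟩ := hback hP hP' y hy
    exact hα.mem (hP hx)
  induction hg with
  | @conj P w hP hw =>
    intro P' hP'
    refine (IGen.conj (w := α w) (hle hP hP') (hα.mem hw)).congr fun y hy => ?_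
    obtain ⟨x, hx, rfl, hxi⟩ := hback hP hP' y hy
    simp only [Function.comp_apply, hxi]
    exact (hα.1.map_conj hw (hP hx)).symm
  | @aut P R k hk hPR =>
    intro P' hP'
    obtain ⟨R₁, hR₁⟩ := (hα.1.mono hk.1.1).exists_image
    refine IGen.aut (hk.map h hR₁ fun x hx => hl x (hk.1.1 hx)) fun y hy => ?_
    obtain ⟨x, hx, rfl, -⟩ := hback (hPR.trans hk.1.1) hP' y hy
    exact hR₁.mem (hPR hx)
  | @comp P Q f g hf hg hm ihf ihg =>
    intro P' hP'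
    obtain ⟨Q', hQ'⟩ := (hα.1.mono (hg.dom_le h)).exists_image
    refine ((ihf P' hP').comp (ihg Q' hQ'.2.symm) fun y hy => ?_).congr fun y hy => ?_
    · obtain ⟨x, hx, rfl, hxi⟩ := hback (hf.dom_le h) hP' y hy
      simp only [Function.comp_apply, hxi]
      exact hQ'.mem (hm x hx)
    · obtain ⟨x, hx, rfl, hxi⟩ := hback (hf.dom_le h) hP' y hy
      simp only [Function.comp_apply, hxi, hl _ (hg.dom_le h (hm x hx))]
  | @inv P Q f g hf him hinv ihf =>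
    intro Q' hQ'
    have hiso : IsIso F P Q f := ⟨hf.isMap h, him⟩
    obtain ⟨P', hP'⟩ := (hα.1.mono (hf.dom_le h)).exists_image
    refine IGen.inv (ihf P' hP'.2.symm) ?_ fun y hy => ?_
    · rw [hQ', ← hiso.2, ← hP'.2, Set.image_image, Set.image_image]
      exact Set.image_congr fun x hx => by
        simp only [Function.comp_apply, hl _ (hf.dom_le h hx)]
    · obtain ⟨x, hx, rfl, hxi⟩ := hback (hf.dom_le h) hP'.2.symm y hy
      simp only [Function.comp_apply, hxi, hl _ (hf.apply_mem h hx), hinv x hx]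
  | @congr P f g hf he ih =>
    intro P' hP'
    refine (ih P' hP').congr fun y hy => ?_
    obtain ⟨x, hx, rfl, hxi⟩ := hback (hf.dom_le h) hP' y hy
    simp only [Function.comp_apply, hxi, he hx]

/-! ### Classes -/

/-- `f` is an automorphism `a` of `W` after a generated map. -/
def Cls (F : FusionSystem S) (E₁ : FusionSystem T₁) (E₂ : FusionSystem T₂) (p : ℕ) (P : Subgroup Ω)
    (f a : Ω → Ω) : Prop :=
  IsIso F (T₁ ⊓ T₂) (T₁ ⊓ T₂) a ∧ ∃ g, IGen F E₁ E₂ p P g ∧ Set.EqOn f (a ∘ g) P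

omit [Finite S] in
theorem Cls.congr {P : Subgroup Ω} {f f' a : Ω → Ω} (hc : Cls F E₁ E₂ p P f a)
    (he : Set.EqOn f f' P) : Cls F E₁ E₂ p P f' a :=
  let ⟨ha, g, hg, hf⟩ := hc
  ⟨ha, g, hg, he.symm.trans hf⟩

theorem Cls.congr_aut (h : IData F E₁ E₂ p) {P : Subgroup Ω} {f a a' : Ω → Ω}
    (hc : Cls F E₁ E₂ p P f a) (he : Set.EqOn a a' (T₁ ⊓ T₂ : Subgroup Ω)) :
    Cls F E₁ E₂ p P f a' :=
  let ⟨ha, g, hg, hf⟩ := hc
  ⟨ha.congr he, g, hg, fun x hx => (hf hx).trans (he (hg.apply_mem h hx))⟩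

theorem Cls.mono (h : IData F E₁ E₂ p) {P P' : Subgroup Ω} {f a : Ω → Ω}
    (hc : Cls F E₁ E₂ p P f a) (hle : P' ≤ P) : Cls F E₁ E₂ p P' f a :=
  let ⟨ha, g, hg, hf⟩ := hc
  ⟨ha, g, hg.mono h hle, hf.mono hle⟩

theorem Cls.isMap (h : IData F E₁ E₂ p) {P : Subgroup Ω} {f a : Ω → Ω}
    (hc : Cls F E₁ E₂ p P f a) : IsMap F P f := by
  obtain ⟨ha, g, hg, he⟩ := hc
  exact ((hg.isMap h).comp ha.1 fun _ hx => hg.apply_mem h hx).congr fun x hx => (he hx).symm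

theorem Cls.dom_le (h : IData F E₁ E₂ p) {P : Subgroup Ω} {f a : Ω → Ω}
    (hc : Cls F E₁ E₂ p P f a) : P ≤ T₁ ⊓ T₂ :=
  let ⟨_, _, hg, _⟩ := hc
  hg.dom_le h

theorem cls_of_gen (h : IData F E₁ E₂ p) {P : Subgroup Ω} {f : Ω → Ω} (hg : IGen F E₁ E₂ p P f) :
    Cls F E₁ E₂ p P f id :=
  ⟨isIso_id h.wS, f, hg, fun _ _ => rfl⟩

omit [Finite S] in
theorem cls_aut {P : Subgroup Ω} (hP : P ≤ T₁ ⊓ T₂) {a : Ω → Ω}
    (ha : IsIso F (T₁ ⊓ T₂) (T₁ ⊓ T₂) a) : Cls F E₁ E₂ p P a a :=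
  ⟨ha, id, igen_id hP, fun _ _ => rfl⟩

theorem igen_of_cls (h : IData F E₁ E₂ p) {P : Subgroup Ω} {f a : Ω → Ω}
    (hc : Cls F E₁ E₂ p P f a) (ha : ∀ x ∈ T₁ ⊓ T₂, a x = x) : IGen F E₁ E₂ p P f :=
  let ⟨_, _, hg, hf⟩ := hc
  hg.congr fun x hx => ((hf hx).trans (ha _ (hg.apply_mem h hx))).symm

theorem Cls.comp (h : IData F E₁ E₂ p) {P Q : Subgroup Ω} {f f' a a' : Ω → Ω}
    (hc : Cls F E₁ E₂ p P f a) (hc' : Cls F E₁ E₂ p Q f' a') (hm : ∀ x ∈ P, f x ∈ Q) :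
    Cls F E₁ E₂ p P (f' ∘ f) (a' ∘ a) := by
  obtain ⟨ha, g, hg, hf⟩ := hc
  obtain ⟨ha', g', hg', hf'⟩ := hc'
  obtain ⟨ai, hai, hl, hr⟩ := ha.exists_inv
  obtain ⟨R, hR⟩ := (hai.1.mono (hg'.dom_le h)).exists_image
  have h1 : IGen F E₁ E₂ p R (ai ∘ g' ∘ a) := hg'.transport h hai hr R hR.2.symm
  refine ⟨ha.comp ha', (ai ∘ g' ∘ a) ∘ g, hg.comp h1 fun x hx => ?_, fun x hx => ?_⟩
  · have : ai (f x) = g x := by rw [hf hx, Function.comp_apply, hl _ (hg.apply_mem h hx)]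
    exact this ▸ hR.mem (hm x hx)
  · have hx' := hm x hx
    simp only [Function.comp_apply]
    rw [hf' hx', Function.comp_apply, hf hx, Function.comp_apply]
    rw [hr]
    refine hg'.apply_mem h ?_
    rwa [hf hx, Function.comp_apply] at hx'

theorem Cls.inv (h : IData F E₁ E₂ p) {P Q : Subgroup Ω} {f fi a ai : Ω → Ω}
    (hc : Cls F E₁ E₂ p P f a) (hf : IsIso F P Q f) (hl : ∀ x ∈ P, fi (f x) = x)
    (hai : ∀ x ∈ T₁ ⊓ T₂, ai (a x) = x) : Cls F E₁ E₂ p Q fi ai := by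
  obtain ⟨ha, g, hg, he⟩ := hc
  obtain ⟨σ, hσ, hσl, -⟩ := ha.exists_inv
  have hσa : Set.EqOn σ ai (T₁ ⊓ T₂ : Subgroup Ω) := fun y hy => by
    obtain ⟨x, hx, rfl⟩ := ha.exists_preimage hy
    rw [hσl x hx, hai x hx]
  obtain ⟨R, hR⟩ := (hg.isMap h).exists_image
  obtain ⟨gi, hgi, hgl, -⟩ := hR.exists_inv
  have hgen : IGen F E₁ E₂ p R gi := IGen.inv hg hR.2 hgl
  have hQ : (Q : Set Ω) = a '' (R : Set Ω) := by
    rw [← hf.2, ← hR.2, Set.image_image]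
    exact Set.image_congr he
  refine ⟨hσ.congr hσa, a ∘ gi ∘ ai, hgen.transport h ha hai Q hQ, fun y hy => ?_⟩
  obtain ⟨x, hx, rfl⟩ := hf.exists_preimage hy
  simp only [Function.comp_apply]
  rw [hl x hx, he hx, Function.comp_apply, hai _ (hg.apply_mem h hx), hgl x hx,
    hai _ (hg.dom_le h hx)]

/-- The intersection system. -/
noncomputable def gSys (h : IData F E₁ E₂ p) : FusionSystem (T₁ ⊓ T₂) :=
  mkSub F (T₁ ⊓ T₂) (fun P f => IGen F E₁ E₂ p P f) (fun hf he => hf.congr he)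
    (fun hf => ⟨hf.isMap h, hf.dom_le h, fun _ hx => hf.apply_mem h hx⟩)
    (fun hP hg => IGen.conj hP hg) (fun hf hg hm => hf.comp hg hm)
    (fun hf hi _ hl => hf.inv hi.2 hl)

theorem isMap_gSys (h : IData F E₁ E₂ p) {P : Subgroup Ω} {f : Ω → Ω} :
    IsMap (gSys h) P f ↔ IGen F E₁ E₂ p P f :=
  isMap_mkSub

/-! ### `L₀(R)` gives generated maps -/

variable [Fact p.Prime]

theorem KGen.of_lift (h : IData F E₁ E₂ p) {R : Subgroup Ω} (hR : Wc F (T₁ ⊓ T₂) R)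
    (hc : F.IsFullyCentralized R) (a : xGrp h hR.1) (ha : (orderOf a).Coprime p) :
    KGen F E₁ E₂ p R (autFun (rho h hR.1 a)) := by
  haveI := finite_of_le hc.1
  haveI := finite_mulAut R
  refine ⟨hR, R, id, id, autFun (a : MulAut ↥(R ⊔ centralizerIn S R)), isIso_id hc.1, fun _ _ => rfl,
    hc, a.2, ⟨orderOf (rho h hR.1 a), ha.coprime_dvd_left (orderOf_map_dvd _ a), fun x hx => ?_⟩,
    fun x hx => rho_apply h hR.1 a hx⟩
  rw [← iterate_autFun (ψ := autFun (a : MulAut ↥(R ⊔ centralizerIn S R)))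
    (fun y hy => rho_apply h hR.1 a hy) _ x hx, pow_orderOf_eq_one, autFun_one hx]
  rfl

theorem igen_of_lGrp (h : IData F E₁ E₂ p) {R : Subgroup Ω} (hR : Wc F (T₁ ⊓ T₂) R)
    (hc : F.IsFullyCentralized R) {α : MulAut R} (hα : α ∈ lGrp h hR.1) :
    IGen F E₁ E₂ p R (autFun α) := by
  haveI := finite_of_le hc.1
  haveI := finite_mulAut R
  let K : Subgroup (MulAut R) :=
    { carrier := {α | IGen F E₁ E₂ p R (autFun α)}
      one_mem' := (igen_id hR.1).congr autFun_one.symm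
      mul_mem' := fun {a b} ha hb =>
        (hb.comp ha fun x hx => autFun_mem_self b hx).congr (autFun_mul a b).symm
      inv_mem' := fun {a} ha =>
        IGen.inv ha (autFun_image a) fun x hx => PrimeIndex.autFun_inv_apply a hx }
  suffices H : lGrp h hR.1 ≤ K from H hα
  refine sup_le (fun a ha => ?_) ?_
  · obtain ⟨w, hw, hwe⟩ := mem_autInducedBy.mp ha
    exact (IGen.conj hR.1 hw).congr fun x hx => by rw [autFun_of_mem _ hx]; exact (hwe ⟨x, hx⟩).symm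
  · rw [Subgroup.map_le_iff_le_comap, Transfer.pResidual_le_iff]
    exact fun a ha => IGen.aut (KGen.of_lift h hR hc a ha) le_rfl

theorem kgen_mem_lGrp (h : IData F E₁ E₂ p) {R : Subgroup Ω} (hR : Wc F (T₁ ⊓ T₂) R)
    (hc : F.IsFullyCentralized R) {k : Ω → Ω} (hk : KGen F E₁ E₂ p R k) :
    ∃ α ∈ lGrp h hR.1, Set.EqOn (autFun α) k R := by
  obtain ⟨-, R', θ, θi, ψ, hθ, hθi, hfc, hψ, ⟨m, hm, hme⟩, he⟩ := hk
  obtain ⟨θ', hθ'R, hθ'e, hθ'D, -⟩ := exists_extend_centralizer h.pgroup h.sat hθ hfc hc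
  obtain ⟨σ, hσ, hσl, hσr⟩ := hθ'D.exists_inv
  have hσR : IsIso F R' R σ := by
    refine ⟨hσ.1.mono le_sup_left, ?_⟩
    rw [← hθ'R.2, ← Set.image_comp]
    exact (Set.image_congr fun x hx => hσl x (Subgroup.mem_sup_left hx)).trans (Set.image_id _)
  have hlift := LiftI.transport h (hR.of_conj h hθ.isConj).1 hσR hσ hσr hψ
  have hcop : Cop p R (σ ∘ ψ ∘ θ') := by
    refine ⟨m, hm, fun x hx => ?_⟩
    have key : ∀ n : ℕ, (σ ∘ ψ ∘ θ')^[n] x = σ (ψ^[n] (θ' x)) ∧ ψ^[n] (θ' x) ∈ R' := by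
      intro n
      induction n with
      | zero => exact ⟨(hσl x (Subgroup.mem_sup_left hx)).symm, hθ'R.mem hx⟩
      | succ n ih =>
        rw [Function.iterate_succ_apply', ih.1, Function.iterate_succ_apply']
        simp only [Function.comp_apply]
        rw [hσr _ (Subgroup.mem_sup_left ih.2)]
        exact ⟨rfl, hψ.mem_self ih.2⟩
    rw [(key m).1, hme _ (hθ'R.mem hx), hσl x (Subgroup.mem_sup_left hx)]
  obtain ⟨a, ha, hae⟩ := exists_coprime_lift h hR.1 hlift hcop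
  refine ⟨rho h hR.1 a, Subgroup.mem_sup_right ⟨a, Transfer.mem_pResidual_of_coprime ha, rfl⟩,
    fun x hx => ?_⟩
  rw [rho_apply h hR.1 a hx, hae hx, he hx]
  obtain ⟨y, hy, hye⟩ := hθ.exists_preimage (hψ.mem_self (hθ.mem hx))
  simp only [Function.comp_apply]
  rw [hθ'e hx, ← hye, hθi y hy, ← hθ'e hy, hσl y (Subgroup.mem_sup_left hy)]

end Cfsg.Agent.Fusion.Inter
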