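import Cfsg.Agent.Lib.Fusion.Inter.Stab
import Cfsg.Agent.Lib.Fusion.NormalCentralizer
import Cfsg.Agent.PrimeIndex.Basic

/-!
# Lifts of automorphisms lying in two normal subsystems

For two normal subsystems over `T₁`, `T₂` and `R ≤ T₁ ∩ T₂`, the automorphisms of `R C_S(R)` that are
trivial modulo `R` and lie, on `R C_{T_i}(R)`, in both subsystems.
-/

set_option autoImplicit false
set_option linter.style.haveILetI false

namespace Cfsg.Agent.Fusion.Inter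

open Cfsg Cfsg.Agent.Fusion Cfsg.Agent.Fusion.NormalLift
open Cfsg.FusionSystem (normalizerIn centralizerIn)

variable {Ω : Type*} [Group Ω] {S T T₁ T₂ : Subgroup Ω} {F : FusionSystem S} {E : FusionSystem T}
  {E₁ : FusionSystem T₁} {E₂ : FusionSystem T₂} {p : ℕ}

/-- Two normal subsystems of a saturated system. -/
structure IData (F : FusionSystem S) (E₁ : FusionSystem T₁) (E₂ : FusionSystem T₂) (p : ℕ) : Prop where
  n₁ : NData F E₁ p
  n₂ : NData F E₂ p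

theorem IData.pgroup (h : IData F E₁ E₂ p) : IsPGroup p S := h.n₁.pgroup

theorem IData.sat (h : IData F E₁ E₂ p) : F.IsSaturated p := h.n₁.sat

theorem IData.wS (h : IData F E₁ E₂ p) : T₁ ⊓ T₂ ≤ S := inf_le_left.trans h.n₁.tS

theorem IData.closed (h : IData F E₁ E₂ p) : F.StronglyClosed (T₁ ⊓ T₂) :=
  stronglyClosed_iff.mpr ⟨h.wS, fun _ _ hf x hx hxW =>
    ⟨Fusion92.closed_apply h.n₁.closed hf hx hxW.1, Fusion92.closed_apply h.n₂.closed hf hx hxW.2⟩⟩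

theorem IData.map_w (h : IData F E₁ E₂ p) {P : Subgroup Ω} {f : Ω → Ω} (hf : IsMap F P f) {x : Ω}
    (hx : x ∈ P) (hxW : x ∈ T₁ ⊓ T₂) : f x ∈ T₁ ⊓ T₂ :=
  Fusion92.closed_apply h.closed hf hx hxW

/-- The subgroups `R` of `W` all of whose conjugates contain their centralizers in `W`. -/
def Wc (F : FusionSystem S) (W R : Subgroup Ω) : Prop :=
  R ≤ W ∧ ∀ R', F.IsConj R R' → centralizerIn W R' ≤ R'

theorem Wc.self {W R : Subgroup Ω} (h : Wc F W R) (hWS : W ≤ S) : centralizerIn W R ≤ R :=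
  h.2 R (isConj_refl (h.1.trans hWS))

theorem Wc.of_conj [Finite S] (h : IData F E₁ E₂ p) {R R' : Subgroup Ω} (hR : Wc F (T₁ ⊓ T₂) R)
    (hc : F.IsConj R R') : Wc F (T₁ ⊓ T₂) R' := by
  refine ⟨fun y hy => ?_, fun R'' hR'' => hR.2 R'' (isConj_trans hc hR'')⟩
  obtain ⟨f, hf⟩ := isConj_iff.mp hc
  obtain ⟨x, hx, rfl⟩ := hf.exists_preimage hy
  exact h.map_w hf.1 hx (hR.1 hx)

theorem Wc.of_le [Finite S] (h : IData F E₁ E₂ p) {R R' : Subgroup Ω} (hR : Wc F (T₁ ⊓ T₂) R)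
    (hle : R ≤ R') (hR' : R' ≤ T₁ ⊓ T₂) : Wc F (T₁ ⊓ T₂) R' := by
  refine ⟨hR', fun R'' hc => ?_⟩
  obtain ⟨f, hf⟩ := isConj_iff.mp hc
  obtain ⟨R₀, hR₀, hfR⟩ := hf.restrict hle
  exact ((inf_le_inf_left _ (Subgroup.centralizer_le hR₀)).trans (hR.2 R₀ hfR.isConj)).trans hR₀

theorem wc_w [Finite S] (h : IData F E₁ E₂ p) : Wc F (T₁ ⊓ T₂) (T₁ ⊓ T₂) := by
  haveI := finite_of_le h.wS
  refine ⟨le_rfl, fun R' hc => ?_⟩
  obtain ⟨f, hf⟩ := isConj_iff.mp hc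
  have hle : R' ≤ T₁ ⊓ T₂ := fun y hy => by
    obtain ⟨x, hx, rfl⟩ := hf.exists_preimage hy
    exact h.map_w hf.1 hx hx
  rw [Subgroup.eq_of_le_of_card_ge hle (isConj_card hc).le]
  exact inf_le_left

/-- A fully normalized subgroup of `W` containing its centralizer in `W` has this property. -/
theorem wc_of_fullyNormalized [Finite S] [Fact p.Prime] (h : IData F E₁ E₂ p) {R : Subgroup Ω}
    (hR : F.IsFullyNormalized R) (hRW : R ≤ T₁ ⊓ T₂) (hc : centralizerIn (T₁ ⊓ T₂) R ≤ R) :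
    Wc F (T₁ ⊓ T₂) R := by
  refine ⟨hRW, fun Q hQ => ?_⟩
  obtain ⟨θ, hθ, hθQ, -⟩ := exists_normalizer_map h.pgroup
    (fullyAutomized_of_fullyNormalized h.pgroup h.sat hR) (h.n₁.recv hR) (isConj_symm hQ)
  intro x hx
  have hxN : x ∈ normalizerIn S Q := ⟨h.wS hx.1, Subgroup.centralizer_le_normalizer _ hx.2⟩
  have hθx : θ x ∈ R := hc ⟨h.map_w hθ hxN hx.1,
    (map_mem_centralizer hθ (le_normalizerIn hθQ.dom_le) hθQ.2 hxN hx.2).2⟩
  obtain ⟨y, hy, hyx⟩ := hθQ.exists_preimage hθx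
  exact hθ.injOn (le_normalizerIn hθQ.dom_le hy) hxN hyx ▸ hy

/-- An automorphism of `R C_S(R)`, trivial modulo `R`, lying in both subsystems. -/
def LiftI (F : FusionSystem S) (E₁ : FusionSystem T₁) (E₂ : FusionSystem T₂) (R : Subgroup Ω)
    (ψ : Ω → Ω) : Prop :=
  IsIso F (R ⊔ centralizerIn S R) (R ⊔ centralizerIn S R) ψ ∧
    (∀ x ∈ R ⊔ centralizerIn S R, x⁻¹ * ψ x ∈ R) ∧
    IsMap E₁ (R ⊔ centralizerIn T₁ R) ψ ∧ IsMap E₂ (R ⊔ centralizerIn T₂ R) ψ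

/-- The order of `ψ` on `R` is prime to `p`. -/
def Cop (p : ℕ) (R : Subgroup Ω) (ψ : Ω → Ω) : Prop :=
  ∃ m : ℕ, m.Coprime p ∧ ∀ x ∈ R, ψ^[m] x = x

theorem sup_centralizer_le_normalizer (K R : Subgroup Ω) :
    R ⊔ centralizerIn K R ≤ Subgroup.normalizer (R : Set Ω) :=
  sup_le R.le_normalizer (inf_le_right.trans (Subgroup.centralizer_le_normalizer _))

/-- Triviality modulo `R` on `R ⊔ B` follows from triviality on `B`. -/
theorem mod_sup {R B : Subgroup Ω} (hB : B ≤ Subgroup.normalizer (R : Set Ω)) {ψ : Ω → Ω}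
    (hψ : IsMap F (R ⊔ B) ψ) (hR : ∀ x ∈ R, ψ x ∈ R) (hBm : ∀ x ∈ B, x⁻¹ * ψ x ∈ R) :
    ∀ x ∈ R ⊔ B, x⁻¹ * ψ x ∈ R := by
  intro x hx
  suffices H : x ∈ R ⊔ B ∧ x⁻¹ * ψ x ∈ R from H.2
  rw [Subgroup.sup_eq_closure] at hx
  induction hx using Subgroup.closure_induction with
  | mem x hx =>
    rcases hx with hx | hx
    · exact ⟨Subgroup.mem_sup_left hx, R.mul_mem (R.inv_mem hx) (hR x hx)⟩
    · exact ⟨Subgroup.mem_sup_right hx, hBm x hx⟩
  | one => exact ⟨Subgroup.one_mem _, by rw [hψ.map_one]; simp⟩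
  | mul a b _ _ ha hb =>
    refine ⟨Subgroup.mul_mem _ ha.1 hb.1, ?_⟩
    have hbn : b⁻¹ ∈ Subgroup.normalizer (R : Set Ω) :=
      Subgroup.inv_mem _ (sup_le R.le_normalizer hB hb.1)
    have := R.mul_mem (conj_mem_of_mem_normalizer hbn ha.2) hb.2
    rw [hψ.map_mul ha.1 hb.1]
    convert this using 1
    group
  | inv a _ ha =>
    refine ⟨Subgroup.inv_mem _ ha.1, ?_⟩
    have han : a ∈ Subgroup.normalizer (R : Set Ω) := sup_le R.le_normalizer hB ha.1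
    have := R.inv_mem (conj_mem_of_mem_normalizer han ha.2)
    rw [hψ.map_inv ha.1]
    convert this using 1
    group

theorem LiftI.mem_self {R : Subgroup Ω} {ψ : Ω → Ω} (hψ : LiftI F E₁ E₂ R ψ) {x : Ω} (hx : x ∈ R) :
    ψ x ∈ R := by
  have := R.mul_mem hx (hψ.2.1 x (Subgroup.mem_sup_left hx))
  rwa [mul_inv_cancel_left] at this

theorem LiftI.isIso [Finite S] {R : Subgroup Ω} (hR : R ≤ S) {ψ : Ω → Ω} (hψ : LiftI F E₁ E₂ R ψ) :
    IsIso F R R ψ :=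
  isIso_of_mapsTo (hψ.1.1.mono le_sup_left) hR (fun _ hx => hψ.mem_self hx) le_rfl

section Single

variable [Finite S]

theorem le_supC (h : NData F E p) (R : Subgroup Ω) :
    R ⊔ centralizerIn T R ≤ R ⊔ centralizerIn S R :=
  sup_le_sup_left (inf_le_inf_right _ h.tS) R

/-- A map stabilizing `R`, defined on `R C_S(R)`, stabilizes `R C_T(R)`. -/
theorem mapsTo_supT (h : NData F E p) {R R' : Subgroup Ω} (hR' : R' ≤ S) {θ : Ω → Ω}
    (hθ : IsMap F (R ⊔ centralizerIn S R) θ) (hθR : θ '' (R : Set Ω) = (R' : Set Ω)) :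
    ∀ x ∈ R ⊔ centralizerIn T R, θ x ∈ R' ⊔ centralizerIn T R' := by
  refine isMap_mem_sup (hθ.mono (le_supC h R)) le_sup_left le_sup_right
    (fun x hx => Subgroup.mem_sup_left ?_) fun x hx => Subgroup.mem_sup_right ?_
  · rw [← SetLike.mem_coe, ← hθR]; exact ⟨x, hx, rfl⟩
  · have hxD : x ∈ R ⊔ centralizerIn S R := Subgroup.mem_sup_right ⟨h.tS hx.1, hx.2⟩
    exact ⟨Fusion92.closed_apply h.closed hθ hxD hx.1, (map_mem_centralizer hθ le_sup_left hθR hxD hx.2).2⟩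

/-- Transport of a map of `E` on `R C_T(R)`. -/
theorem transport_supT (h : NData F E p) {R R' : Subgroup Ω} (hRT : R ≤ T) {θ : Ω → Ω}
    (hθR : IsIso F R R' θ) (hθD : IsIso F (R ⊔ centralizerIn S R) (R' ⊔ centralizerIn S R') θ)
    {ψ : Ω → Ω} (hψ : IsMap E (R ⊔ centralizerIn T R) ψ)
    (hψm : ∀ x ∈ R ⊔ centralizerIn T R, ψ x ∈ R ⊔ centralizerIn T R) :
    ∃ χ, IsMap E (R' ⊔ centralizerIn T R') χ ∧ ∀ x ∈ R ⊔ centralizerIn T R, χ (θ x) = θ (ψ x) := by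
  have hDT : R ⊔ centralizerIn T R ≤ T := sup_le hRT inf_le_left
  obtain ⟨θi, hθi, hθil, hθir⟩ := hθD.exists_inv
  have hiR : θi '' (R' : Set Ω) = (R : Set Ω) := by
    rw [← hθR.2, ← Set.image_comp]
    exact (Set.image_congr fun x hx => hθil x (Subgroup.mem_sup_left hx)).trans (Set.image_id _)
  have him : θ '' ((R ⊔ centralizerIn T R : Subgroup Ω) : Set Ω) =
      ((R' ⊔ centralizerIn T R' : Subgroup Ω) : Set Ω) := by
    refine Set.Subset.antisymm ?_ fun y hy => ?_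
    · rintro _ ⟨x, hx, rfl⟩
      exact mapsTo_supT h hθR.cod_le hθD.1 hθR.2 x hx
    · exact ⟨θi y, mapsTo_supT h hθR.dom_le hθi.1 hiR y hy, hθir y (le_supC h R' hy)⟩
  exact h.strongInv _ _ _ ψ θ le_rfl hDT hψ hψm (hθD.1.mono (le_supC h R))
    ⟨hθD.1.mono (le_supC h R), him⟩

/-- The lifts compose. -/
theorem comp_supT (h : NData F E p) {R : Subgroup Ω} (hR : R ≤ S) {ψ ψ' : Ω → Ω}
    (hψD : IsMap F (R ⊔ centralizerIn S R) ψ) (hψR : ψ '' (R : Set Ω) = (R : Set Ω))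
    (hψ : IsMap E (R ⊔ centralizerIn T R) ψ) (hψ' : IsMap E (R ⊔ centralizerIn T R) ψ') :
    IsMap E (R ⊔ centralizerIn T R) (ψ' ∘ ψ) :=
  hψ.comp hψ' (mapsTo_supT h hR hψD hψR)

/-- Conjugation by an element of `T` normalizing `R` is a map of `E` on `R C_T(R)`. -/
theorem conj_supT {R : Subgroup Ω} (hRT : R ≤ T) {g : Ω} (hg : g ∈ T) :
    IsMap E (R ⊔ centralizerIn T R) fun x => g * x * g⁻¹ :=
  isMap_conj (sup_le hRT inf_le_left) hg

end Single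

variable [Finite S]

theorem liftI_id (h : IData F E₁ E₂ p) {R : Subgroup Ω} (hR : R ≤ T₁ ⊓ T₂) : LiftI F E₁ E₂ R id :=
  ⟨isIso_id (sup_le (hR.trans h.wS) (Fusion.centralizerIn_le _ _)),
    fun x _ => by simp,
    isMap_id (sup_le (hR.trans inf_le_left) inf_le_left),
    isMap_id (sup_le (hR.trans inf_le_right) inf_le_left)⟩

theorem LiftI.comp (h : IData F E₁ E₂ p) {R : Subgroup Ω} (hR : R ≤ T₁ ⊓ T₂) {ψ ψ' : Ω → Ω}
    (h₁ : LiftI F E₁ E₂ R ψ) (h₂ : LiftI F E₁ E₂ R ψ') : LiftI F E₁ E₂ R (ψ' ∘ ψ) := by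
  have hψR := (h₁.isIso (hR.trans h.wS)).2
  refine ⟨h₁.1.comp h₂.1, fun x hx => ?_, comp_supT h.n₁ (hR.trans h.wS) h₁.1.1 hψR h₁.2.2.1 h₂.2.2.1,
    comp_supT h.n₂ (hR.trans h.wS) h₁.1.1 hψR h₁.2.2.2 h₂.2.2.2⟩
  have := R.mul_mem (h₁.2.1 x hx) (h₂.2.1 (ψ x) (h₁.1.mem hx))
  rw [Function.comp_apply]
  convert this using 1
  group

theorem LiftI.congr {R : Subgroup Ω} {ψ ψ' : Ω → Ω} (h₁ : LiftI F E₁ E₂ R ψ)
    (hle : ∀ x, x ∈ R ⊔ centralizerIn T₁ R ∨ x ∈ R ⊔ centralizerIn T₂ R → x ∈ R ⊔ centralizerIn S R)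
    (he : Set.EqOn ψ ψ' (R ⊔ centralizerIn S R : Subgroup Ω)) : LiftI F E₁ E₂ R ψ' :=
  ⟨h₁.1.congr he, fun x hx => he hx ▸ h₁.2.1 x hx,
    h₁.2.2.1.congr fun x hx => he (hle x (Or.inl hx)),
    h₁.2.2.2.congr fun x hx => he (hle x (Or.inr hx))⟩

theorem IData.le_sup (h : IData F E₁ E₂ p) (R : Subgroup Ω) :
    ∀ x, x ∈ R ⊔ centralizerIn T₁ R ∨ x ∈ R ⊔ centralizerIn T₂ R → x ∈ R ⊔ centralizerIn S R :=
  fun _ hx => hx.elim (fun hx => le_supC h.n₁ R hx) fun hx => le_supC h.n₂ R hx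

/-- Transport of a lift along an isomorphism of `R C_S(R)`. -/
theorem LiftI.transport (h : IData F E₁ E₂ p) {R R' : Subgroup Ω} (hR : R ≤ T₁ ⊓ T₂) {θ θi : Ω → Ω}
    (hθR : IsIso F R R' θ) (hθD : IsIso F (R ⊔ centralizerIn S R) (R' ⊔ centralizerIn S R') θ)
    (hθi : ∀ x ∈ R ⊔ centralizerIn S R, θi (θ x) = x) {ψ : Ω → Ω} (hψ : LiftI F E₁ E₂ R ψ) :
    LiftI F E₁ E₂ R' (θ ∘ ψ ∘ θi) := by
  obtain ⟨σ, hσ, hσl, hσr⟩ := hθD.exists_inv
  have hσθ : Set.EqOn σ θi (R' ⊔ centralizerIn S R' : Subgroup Ω) := fun y hy => by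
    obtain ⟨x, hx, rfl⟩ := hθD.exists_preimage hy
    rw [hσl x hx, hθi x hx]
  refine LiftI.congr (ψ := θ ∘ ψ ∘ σ) ?_ (IData.le_sup h R') fun y hy => by
    simp only [Function.comp_apply, hσθ hy]
  refine ⟨(hσ.comp hψ.1).comp hθD, fun y hy => ?_, ?_, ?_⟩
  · obtain ⟨x, hx, rfl⟩ := hθD.exists_preimage hy
    simp only [Function.comp_apply, hσl x hx]
    rw [← hθD.1.map_inv hx, ← hθD.1.map_mul (Subgroup.inv_mem _ hx) (hψ.1.mem hx)]
    exact hθR.mem (hψ.2.1 x hx)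
  · obtain ⟨χ, hχ, hχe⟩ := transport_supT h.n₁ (hR.trans inf_le_left) hθR hθD hψ.2.2.1
      (mapsTo_supT h.n₁ (hR.trans h.wS) hψ.1.1 (hψ.isIso (hR.trans h.wS)).2)
    refine hχ.congr fun y hy => ?_
    obtain ⟨x, hx, rfl⟩ := hθD.exists_preimage (le_supC h.n₁ R' hy)
    have hxT : x ∈ R ⊔ centralizerIn T₁ R := hσl x hx ▸ mapsTo_supT h.n₁ hθR.dom_le hσ.1
      (by rw [← hθR.2, ← Set.image_comp]
          exact (Set.image_congr fun z hz => hσl z (Subgroup.mem_sup_left hz)).trans (Set.image_id _))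
      _ hy
    simp only [Function.comp_apply, hσl x hx]
    exact hχe x hxT
  · obtain ⟨χ, hχ, hχe⟩ := transport_supT h.n₂ (hR.trans inf_le_right) hθR hθD hψ.2.2.2
      (mapsTo_supT h.n₂ (hR.trans h.wS) hψ.1.1 (hψ.isIso (hR.trans h.wS)).2)
    refine hχ.congr fun y hy => ?_
    obtain ⟨x, hx, rfl⟩ := hθD.exists_preimage (le_supC h.n₂ R' hy)
    have hxT : x ∈ R ⊔ centralizerIn T₂ R := hσl x hx ▸ mapsTo_supT h.n₂ hθR.dom_le hσ.1
      (by rw [← hθR.2, ← Set.image_comp]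
          exact (Set.image_congr fun z hz => hσl z (Subgroup.mem_sup_left hz)).trans (Set.image_id _))
      _ hy
    simp only [Function.comp_apply, hσl x hx]
    exact hχe x hxT

/-- Conjugation by an element of `N_W(R)` is a lift. -/
theorem liftI_conj (h : IData F E₁ E₂ p) {R : Subgroup Ω} (hR : Wc F (T₁ ⊓ T₂) R) {g : Ω}
    (hg : g ∈ T₁ ⊓ T₂) (hgN : g ∈ Subgroup.normalizer (R : Set Ω)) :
    LiftI F E₁ E₂ R fun x => g * x * g⁻¹ := by
  have hgS := h.wS hg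
  have hRS := hR.1.trans h.wS
  have hD : R ⊔ centralizerIn S R ≤ S := sup_le hRS (Fusion.centralizerIn_le _ _)
  have hgm : IsMap F (R ⊔ centralizerIn S R) fun x => g * x * g⁻¹ := isMap_conj hD hgS
  have hC : ∀ c ∈ centralizerIn S R, g * c * g⁻¹ ∈ centralizerIn S R := fun c hc =>
    map_mem_centralizer hgm le_sup_left (image_conj_eq_self hgN)
      (Subgroup.mem_sup_right hc) hc.2
  refine ⟨isIso_of_mapsTo hgm hD (isMap_mem_sup hgm le_sup_left le_sup_right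
      (fun x hx => Subgroup.mem_sup_left (conj_mem_of_mem_normalizer hgN hx))
      fun x hx => Subgroup.mem_sup_right (hC x hx)) le_rfl, ?_,
    conj_supT (hR.1.trans inf_le_left) hg.1, conj_supT (hR.1.trans inf_le_right) hg.2⟩
  refine mod_sup ((inf_le_right).trans (Subgroup.centralizer_le_normalizer _)) hgm
    (fun x hx => conj_mem_of_mem_normalizer hgN hx) fun c hc => hR.self h.wS ⟨?_, ?_⟩
  · have h1 : c⁻¹ * g * c ∈ T₁ ⊓ T₂ := by
      have := h.map_w (isMap_conj (F := F) (P := T₁ ⊓ T₂) h.wS (S.inv_mem hc.1)) hg hg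
      simpa using this
    have := Subgroup.mul_mem _ h1 (Subgroup.inv_mem _ hg)
    simpa [mul_assoc] using this
  · exact Subgroup.mul_mem _ (Subgroup.inv_mem _ hc.2) (hC c hc).2

/-- A restriction of automorphisms. -/
def restrictHom {D R : Subgroup Ω} (A : Subgroup (MulAut D)) (hRD : R ≤ D)
    (hst : ∀ a ∈ A, ∀ x : D, (x : Ω) ∈ R ↔ ((a x : D) : Ω) ∈ R) : A →* MulAut R where
  toFun a :=
    { toFun := fun x => ⟨(a : MulAut D) ⟨x, hRD x.2⟩, (hst a a.2 _).mp x.2⟩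
      invFun := fun x => ⟨((a : MulAut D)⁻¹ : MulAut D) ⟨x, hRD x.2⟩,
        (hst _ (A.inv_mem a.2) _).mp x.2⟩
      left_inv := fun x => by
        apply Subtype.ext
        show ((((a : MulAut D)⁻¹ : MulAut D) ((a : MulAut D) ⟨x, hRD x.2⟩) : D) : Ω) = x
        rw [MulAut.inv_apply_self]
      right_inv := fun x => by
        apply Subtype.ext
        show (((a : MulAut D) (((a : MulAut D)⁻¹ : MulAut D) ⟨x, hRD x.2⟩) : D) : Ω) = x
        rw [MulAut.apply_inv_self]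
      map_mul' := fun x y => by
        apply Subtype.ext
        show (((a : MulAut D) (⟨x, hRD x.2⟩ * ⟨y, hRD y.2⟩) : D) : Ω) = _
        rw [map_mul]
        rfl }
  map_one' := MulEquiv.ext fun _ => Subtype.ext rfl
  map_mul' _ _ := MulEquiv.ext fun _ => Subtype.ext rfl

theorem restrictHom_apply {D R : Subgroup Ω} {A : Subgroup (MulAut D)} {hRD : R ≤ D}
    {hst : ∀ a ∈ A, ∀ x : D, (x : Ω) ∈ R ↔ ((a x : D) : Ω) ∈ R} (a : A) {x : Ω} (hx : x ∈ R) :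
    autFun (restrictHom A hRD hst a) x = autFun (a : MulAut D) x := by
  rw [autFun_of_mem _ hx, autFun_of_mem _ (hRD hx)]
  rfl

/-- The group of lifts. -/
def xGrp (h : IData F E₁ E₂ p) {R : Subgroup Ω} (hR : R ≤ T₁ ⊓ T₂) :
    Subgroup (MulAut ↥(R ⊔ centralizerIn S R)) where
  carrier := {α | LiftI F E₁ E₂ R (autFun α)}
  one_mem' := (liftI_id h hR).congr (h.le_sup R) autFun_one.symm
  mul_mem' {α β} hα hβ := (LiftI.comp h hR hβ hα).congr (h.le_sup R) (autFun_mul α β).symm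
  inv_mem' {α} hα := by
    haveI := finite_of_le (sup_le (hR.trans h.wS) (Fusion.centralizerIn_le S R) :
      R ⊔ centralizerIn S R ≤ S)
    haveI := finite_mulAut ↥(R ⊔ centralizerIn S R)
    obtain ⟨n, hn⟩ : ∃ n : ℕ, α⁻¹ = α ^ n := ⟨orderOf α - 1, by
      rw [inv_eq_iff_mul_eq_one, ← pow_succ', Nat.sub_add_cancel (orderOf_pos α), pow_orderOf_eq_one]⟩
    show LiftI F E₁ E₂ R (autFun α⁻¹)
    rw [hn]
    clear hn
    induction n with
    | zero => rw [pow_zero]; exact (liftI_id h hR).congr (h.le_sup R) autFun_one.symm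
    | succ n ih => rw [pow_succ]; exact (LiftI.comp h hR hα ih).congr (h.le_sup R) (autFun_mul _ α).symm

theorem mem_xGrp {h : IData F E₁ E₂ p} {R : Subgroup Ω} {hR : R ≤ T₁ ⊓ T₂}
    {α : MulAut ↥(R ⊔ centralizerIn S R)} : α ∈ xGrp h hR ↔ LiftI F E₁ E₂ R (autFun α) := Iff.rfl

theorem xGrp_stab (h : IData F E₁ E₂ p) {R : Subgroup Ω} (hR : R ≤ T₁ ⊓ T₂) :
    ∀ a ∈ xGrp h hR, ∀ x : ↥(R ⊔ centralizerIn S R), (x : Ω) ∈ R ↔ ((a x) : Ω) ∈ R := by
  intro a ha x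
  rw [← autFun_coe a x]
  refine ⟨fun hx => LiftI.mem_self ha hx, fun hx => ?_⟩
  have h1 := R.mul_mem hx (R.inv_mem ((show LiftI F E₁ E₂ R (autFun a) from ha).2.1 x x.2))
  simpa [mul_assoc] using h1

/-- Restriction of lifts to `R`. -/
def rho (h : IData F E₁ E₂ p) {R : Subgroup Ω} (hR : R ≤ T₁ ⊓ T₂) : xGrp h hR →* MulAut R :=
  restrictHom (xGrp h hR) le_sup_left (xGrp_stab h hR)

theorem rho_apply (h : IData F E₁ E₂ p) {R : Subgroup Ω} (hR : R ≤ T₁ ⊓ T₂) (a : xGrp h hR) {x : Ω}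
    (hx : x ∈ R) : autFun (rho h hR a) x = autFun (a : MulAut ↥(R ⊔ centralizerIn S R)) x :=
  restrictHom_apply a hx

/-- The group `L₀(R)`: `Aut_W(R)` with the automorphisms of order prime to `p` that lift. -/
def lGrp (h : IData F E₁ E₂ p) {R : Subgroup Ω} (hR : R ≤ T₁ ⊓ T₂) : Subgroup (MulAut R) :=
  autInducedBy (T₁ ⊓ T₂) R ⊔ (pResidual p ↥(xGrp h hR)).map (rho h hR)

theorem LiftI.exists_mem_xGrp (h : IData F E₁ E₂ p) {R : Subgroup Ω} (hR : R ≤ T₁ ⊓ T₂) {ψ : Ω → Ω}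
    (hψ : LiftI F E₁ E₂ R ψ) :
    ∃ α ∈ xGrp h hR, Set.EqOn (autFun α) ψ (R ⊔ centralizerIn S R : Subgroup Ω) := by
  obtain ⟨α, -, hαe⟩ := hψ.1.exists_aut
  exact ⟨α, hψ.congr (h.le_sup R) hαe.symm, hαe⟩

theorem iterate_autFun {P : Subgroup Ω} {α : MulAut P} {ψ : Ω → Ω} (he : Set.EqOn (autFun α) ψ P)
    (n : ℕ) : ∀ x ∈ P, autFun (α ^ n) x = ψ^[n] x := by
  induction n with
  | zero => intro x hx; rw [pow_zero, autFun_one hx]; rfl
  | succ n ih =>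
    intro x hx
    rw [pow_succ', autFun_mul _ _ hx, Function.comp_apply, Function.iterate_succ_apply', ← ih x hx]
    exact he (autFun_mem_self _ hx)

variable [Fact p.Prime]

/-- A lift of order prime to `p`. -/
theorem exists_coprime_lift (h : IData F E₁ E₂ p) {R : Subgroup Ω} (hR : R ≤ T₁ ⊓ T₂) {ψ : Ω → Ω}
    (hψ : LiftI F E₁ E₂ R ψ) (hc : Cop p R ψ) :
    ∃ α : xGrp h hR, (orderOf α).Coprime p ∧
      Set.EqOn (autFun (α : MulAut ↥(R ⊔ centralizerIn S R))) ψ R := by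
  haveI := finite_of_le (sup_le (hR.trans h.wS) (Fusion.centralizerIn_le S R) :
      R ⊔ centralizerIn S R ≤ S)
  haveI := finite_mulAut ↥(R ⊔ centralizerIn S R)
  obtain ⟨α, hα, hαe⟩ := hψ.exists_mem_xGrp h hR
  obtain ⟨m, hm, hme⟩ := hc
  have hρe : Set.EqOn (autFun (rho h hR ⟨α, hα⟩)) ψ R := fun x hx =>
    (rho_apply h hR ⟨α, hα⟩ hx).trans (hαe (Subgroup.mem_sup_left hx))
  have ho : (orderOf (rho h hR ⟨α, hα⟩)).Coprime p := by
    refine Nat.Coprime.coprime_dvd_left (orderOf_dvd_of_pow_eq_one ?_) hm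
    refine MulEquiv.ext fun x => Subtype.ext ?_
    rw [← autFun_coe, iterate_autFun hρe m x x.2, hme x x.2]
    rfl
  obtain ⟨k, hk, hke⟩ := exists_pow_coprime (p := p) (⟨α, hα⟩ : xGrp h hR) _ ho
  refine ⟨_, hk, fun x hx => ?_⟩
  rw [← rho_apply h hR _ hx, map_pow, hke]
  exact hρe hx

theorem xGrp_le (h : IData F E₁ E₂ p) {R : Subgroup Ω} (hR : R ≤ T₁ ⊓ T₂) :
    xGrp h hR ≤ F.autGroup (R ⊔ centralizerIn S R) := fun _ hα =>
  (mem_autGroup (sup_le (hR.trans h.wS) (Fusion.centralizerIn_le _ _))).mpr hα.1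

theorem rho_mem_autGroup (h : IData F E₁ E₂ p) {R : Subgroup Ω} (hR : R ≤ T₁ ⊓ T₂) (a : xGrp h hR) :
    rho h hR a ∈ F.autGroup R :=
  (mem_autGroup (hR.trans h.wS)).mpr
    ((LiftI.isIso (hR.trans h.wS) a.2).congr fun _ hx => (rho_apply h hR a hx).symm)

theorem autInducedBy_le_rho (h : IData F E₁ E₂ p) {R : Subgroup Ω} (hR : Wc F (T₁ ⊓ T₂) R) :
    autInducedBy (T₁ ⊓ T₂) R ≤ (rho h hR.1).range := by
  intro α hα
  obtain ⟨g, hg, hge⟩ := mem_autInducedBy.mp hα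
  obtain ⟨β, hβ, hβe⟩ := (liftI_conj h hR hg (mem_normalizer_of_induces hge)).exists_mem_xGrp h hR.1
  refine ⟨⟨β, hβ⟩, MulEquiv.ext fun x => Subtype.ext ?_⟩
  rw [← autFun_coe, rho_apply h hR.1 _ x.2, hβe (Subgroup.mem_sup_left x.2), hge x]

theorem lGrp_le_rho (h : IData F E₁ E₂ p) {R : Subgroup Ω} (hR : Wc F (T₁ ⊓ T₂) R) :
    lGrp h hR.1 ≤ (rho h hR.1).range :=
  sup_le (autInducedBy_le_rho h hR) (Subgroup.map_le_range _ _)

theorem lGrp_le (h : IData F E₁ E₂ p) {R : Subgroup Ω} (hR : Wc F (T₁ ⊓ T₂) R) :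
    lGrp h hR.1 ≤ F.autGroup R := fun α hα => by
  obtain ⟨a, rfl⟩ := lGrp_le_rho h hR hα
  exact rho_mem_autGroup h hR.1 a

/-- An element of `L₀(R)` of order prime to `p` has a lift of order prime to `p`. -/
theorem lift_of_lGrp (h : IData F E₁ E₂ p) {R : Subgroup Ω} (hR : Wc F (T₁ ⊓ T₂) R) {α : MulAut R}
    (hα : α ∈ lGrp h hR.1) (ho : (orderOf α).Coprime p) :
    ∃ a : xGrp h hR.1, (orderOf a).Coprime p ∧ rho h hR.1 a = α := by
  haveI := finite_of_le (sup_le (hR.1.trans h.wS) (Fusion.centralizerIn_le S R) :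
      R ⊔ centralizerIn S R ≤ S)
  haveI := finite_mulAut ↥(R ⊔ centralizerIn S R)
  obtain ⟨a, rfl⟩ := lGrp_le_rho h hR hα
  obtain ⟨k, hk, hke⟩ := exists_pow_coprime (p := p) a _ ho
  exact ⟨a ^ k, hk, by rw [map_pow, hke]⟩

end Cfsg.Agent.Fusion.Inter
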