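import Cfsg.Agent.Lib.Fusion.Inter.Class

/-!
# Generated maps extend: receptivity inside `W`
-/

set_option autoImplicit false
set_option linter.style.haveILetI false

namespace Cfsg.Agent.Fusion.Inter

open Cfsg Cfsg.Agent.Fusion Cfsg.Agent.Fusion.NormalLift
open Cfsg.FusionSystem (normalizerIn centralizerIn)

variable {Ω : Type*} [Group Ω] {S T₁ T₂ : Subgroup Ω} {F : FusionSystem S}
  {E₁ : FusionSystem T₁} {E₂ : FusionSystem T₂} {p : ℕ} [Finite S]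

/-- A translation of `P` to `R`. -/
def Trans (F : FusionSystem S) (E₁ : FusionSystem T₁) (E₂ : FusionSystem T₂) (p : ℕ) (R P : Subgroup Ω)
    (θ a : Ω → Ω) : Prop :=
  Cls F E₁ E₂ p (normalizerIn (T₁ ⊓ T₂) P) θ a ∧ θ '' (P : Set Ω) = (R : Set Ω)

theorem Trans.isIso {R P : Subgroup Ω} {θ a : Ω → Ω} (h : IData F E₁ E₂ p)
    (hP : P ≤ T₁ ⊓ T₂) (hθ : Trans F E₁ E₂ p R P θ a) : IsIso F P R θ :=
  ⟨(hθ.1.isMap h).mono (le_normalizerIn hP), hθ.2⟩

variable [Fact p.Prime]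

theorem exists_trans (h : IData F E₁ E₂ p) {R P : Subgroup Ω} (hRn : F.IsFullyNormalized R)
    (hPR : F.IsConj P R) : ∃ θ a, Trans F E₁ E₂ p R P θ a := by
  obtain ⟨θ, hθ, hθP, -⟩ := exists_normalizer_map h.pgroup
    (fullyAutomized_of_fullyNormalized h.pgroup h.sat hRn) (h.n₁.recv hRn) hPR
  obtain ⟨a, ha⟩ := frattini h (Fusion.normalizerIn_le _ _) (hθ.mono (h.nW_le P))
  exact ⟨θ, a, ha, hθP.2⟩

/-- The statement that the class of `f` on `P` is the trivial one. -/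
def Good (h : IData F E₁ E₂ p) {R : Subgroup Ω} (hR : R ≤ T₁ ⊓ T₂) (P : Subgroup Ω) (f : Ω → Ω) : Prop :=
  ∀ (Q : Subgroup Ω) (θP aP θQ aQ θPi aPi : Ω → Ω), IsIso F P Q f → F.IsConj P R →
    Trans F E₁ E₂ p R P θP aP → Trans F E₁ E₂ p R Q θQ aQ → (∀ x ∈ P, θPi (θP x) = x) →
    (∀ x ∈ T₁ ⊓ T₂, aPi (aP x) = x) → Pair h hR (θQ ∘ f ∘ θPi) (aQ ∘ aPi)

variable {h : IData F E₁ E₂ p} {R : Subgroup Ω}

theorem good_bigger (hRn : F.IsFullyNormalized R) (hR : Wc F (T₁ ⊓ T₂) R)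
    (hrec : ∀ P : Subgroup Ω, Nat.card R < Nat.card P → Wc F (T₁ ⊓ T₂) P → RecvAt F E₁ E₂ p P)
    {P Y : Subgroup Ω} {f : Ω → Ω} (hPY : P ≤ Y) (hY : Y ≤ normalizerIn (T₁ ⊓ T₂) P)
    (hne : P ≠ Y ∨ P = T₁ ⊓ T₂) (hf : IGen F E₁ E₂ p Y f) : Good h hR.1 P f := by
  intro Q θP aP θQ aQ θPi aPi hPQ hPR hθP hθQ hli hai
  have hYW : Y ≤ T₁ ⊓ T₂ := hY.trans inf_le_left
  have hθY : Cls F E₁ E₂ p Y θP aP := hθP.1.mono h hY
  obtain ⟨M, hM⟩ := (hθY.isMap h).exists_image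
  obtain ⟨θYi, hθYi, hYl, hYr⟩ := hM.exists_inv
  haveI := finite_of_le (hYW.trans h.wS)
  haveI := finite_of_le hM.cod_le
  have hN₀S : normalizerIn (T₁ ⊓ T₂) R ≤ S := inf_le_left.trans h.wS
  haveI := finite_of_le hN₀S
  have hMN : M ≤ normalizerIn (T₁ ⊓ T₂) R := fun y hy => by
    obtain ⟨x, hx, rfl⟩ := hM.exists_preimage hy
    exact mem_nW h (hθY.isMap h) hPY hθP.2 hx (hY hx)
  have hRM : R ≤ M := fun y hy => by
    have : y ∈ θP '' (P : Set Ω) := hθP.2.symm ▸ hy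
    obtain ⟨x, hx, rfl⟩ := this
    exact hM.mem (hPY hx)
  have hne' : R ≠ M ∨ M = normalizerIn (T₁ ⊓ T₂) R := by
    rcases hne with hne | rfl
    · refine Or.inl fun e => hne ?_
      refine Subgroup.eq_of_le_of_card_ge hPY ?_
      rw [hM.card_eq, isConj_card hPR, e]
    · refine Or.inr (Subgroup.eq_of_le_of_card_ge hMN ?_)
      rw [← hM.card_eq]
      haveI := finite_of_le h.wS
      exact (Subgroup.card_le_of_le inf_le_left).trans (Subgroup.card_le_of_le hPY)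
  have hfN : ∀ x ∈ Y, f x ∈ normalizerIn (T₁ ⊓ T₂) Q := fun x hx =>
    mem_nW h (hf.isMap h) hPY hPQ.2 hx (hY hx)
  have hc : Cls F E₁ E₂ p M (θQ ∘ f ∘ θYi) (aQ ∘ id ∘ aPi) :=
    ((hθY.inv h hM hYl hai).comp h (cls_of_gen h hf) fun y hy => hθYi.mem hy).comp h hθQ.1
      fun y hy => hfN _ (hθYi.mem hy)
  have he : Set.EqOn (θQ ∘ f ∘ θYi) (θQ ∘ f ∘ θPi) R := fun y hy => by
    have : y ∈ θP '' (P : Set Ω) := hθP.2.symm ▸ hy
    obtain ⟨x, hx, rfl⟩ := this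
    simp only [Function.comp_apply, hli x hx, hYl x (hPY hx)]
  have him : (θQ ∘ f ∘ θYi) '' (R : Set Ω) = (R : Set Ω) := by
    conv_lhs => rw [← hθP.2, ← Set.image_comp]
    have h1 : Set.EqOn ((θQ ∘ f ∘ θYi) ∘ θP) (θQ ∘ f) P := fun x hx => by
      simp only [Function.comp_apply, hYl x (hPY hx)]
    rw [Set.image_congr h1, Set.image_comp, hPQ.2, hθQ.2]
  exact ((key h hRn hR hrec hRM hMN hne' hc him).congr he).congr_aut fun _ _ => rfl

set_option maxHeartbeats 1000000 in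
/-- Generated maps have trivial class. -/
theorem good_igen (hRn : F.IsFullyNormalized R) (hR : Wc F (T₁ ⊓ T₂) R)
    (hrec : ∀ P : Subgroup Ω, Nat.card R < Nat.card P → Wc F (T₁ ⊓ T₂) P → RecvAt F E₁ E₂ p P)
    {P : Subgroup Ω} {f : Ω → Ω} (hg : IGen F E₁ E₂ p P f) :
    ∀ P' ≤ P, Good h hR.1 P' f := by
  haveI := finite_of_le h.wS
  induction hg with
  | @conj P w hP hw =>
    intro P' hle Q θP aP θQ aQ θPi aPi hPQ hPR hθP hθQ hli hai
    have hP' := hle.trans hP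
    refine good_bigger (Y := normalizerIn (T₁ ⊓ T₂) P') hRn hR hrec (le_normalizerIn hP') le_rfl ?_
      (IGen.conj (Fusion.normalizerIn_le _ _) hw) Q θP aP θQ aQ θPi aPi hPQ hPR hθP hθQ hli hai
    by_cases hPW : P' = T₁ ⊓ T₂
    · exact Or.inr hPW
    · exact Or.inl fun e => (lt_nW h (lt_of_le_of_ne hP' hPW)).ne (by rw [← e])
  | @aut P X k hk hPX =>
    intro P' hle Q θP aP θQ aQ θPi aPi hPQ hPR hθP hθQ hli hai
    have hX : P' ≤ X := hle.trans hPX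
    have hXW : X ≤ T₁ ⊓ T₂ := hk.1.1
    haveI := finite_of_le (hXW.trans h.wS)
    by_cases hXe : P' = X
    · subst hXe
      have hki := hk.isIso
      obtain rfl : P' = Q := hki.cod_unique hPQ
      have h1 := good_bigger (h := h) (Y := normalizerIn (T₁ ⊓ T₂) P') hRn hR hrec (le_normalizerIn hXW)
        le_rfl (by
          by_cases hPW : P' = T₁ ⊓ T₂
          · exact Or.inr hPW
          · exact Or.inl fun e => (lt_nW h (lt_of_le_of_ne hXW hPW)).ne (by rw [← e]))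
        (igen_id (Fusion.normalizerIn_le _ _)) P' θP aP θQ aQ θPi aPi
        (isIso_id (hXW.trans h.wS)) hPR hθP hθQ hli hai
      obtain ⟨α, hα, hαe⟩ := kgen_mem_lGrp h hR (h.n₁.centralized hRn)
        (hk.map h (hθP.isIso h hXW) hli)
      refine ((Pair.comp (hR := hR) hRn ((pair_of_lGrp hα).congr hαe) h1).congr fun y hy => ?_).congr_aut
        fun _ _ => rfl
      have : y ∈ θP '' (P' : Set Ω) := hθP.2.symm ▸ hy
      obtain ⟨x, hx, rfl⟩ := this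
      simp only [Function.comp_apply, id, hli x hx, hli _ (hki.mem hx)]
    · refine good_bigger (Y := normalizerIn X P') hRn hR hrec (le_normalizerIn hX)
        (inf_le_inf_right _ hXW) (Or.inl fun e => ?_)
        (IGen.aut hk (Fusion.normalizerIn_le _ _)) Q θP aP θQ aQ θPi aPi hPQ hPR hθP hθQ hli hai
      exact (lt_normalizerIn (h.pgroup.to_le (hXW.trans h.wS)) (lt_of_le_of_ne hX hXe)).ne e
  | @comp P B f g hf hg hm ihf ihg =>
    intro P' hle Q θP aP θQ aQ θPi aPi hPQ hPR hθP hθQ hli hai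
    obtain ⟨B', hB'⟩ := ((hf.isMap h).mono hle).exists_image
    have hB'B : B' ≤ B := fun y hy => by
      obtain ⟨x, hx, rfl⟩ := hB'.exists_preimage hy
      exact hm x (hle hx)
    have hB'R := isConj_trans (isConj_symm hB'.isConj) hPR
    obtain ⟨θB, aB, hθB⟩ := exists_trans h hRn hB'R
    have hB'W : B' ≤ T₁ ⊓ T₂ := hB'B.trans (hg.dom_le h)
    obtain ⟨θBi, -, hBl, -⟩ := (hθB.isIso h hB'W).exists_inv
    obtain ⟨aBi, -, hbl, -⟩ := hθB.1.1.exists_inv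
    have hgQ : IsIso F B' Q g := ⟨(hg.isMap h).mono hB'B, by rw [← hB'.2, ← Set.image_comp, hPQ.2]⟩
    have h1 := ihf P' hle B' θP aP θB aB θPi aPi hB' hPR hθP hθB hli hai
    have h2 := ihg B' hB'B Q θB aB θQ aQ θBi aBi hgQ hB'R hθB hθQ hBl hbl
    refine ((Pair.comp (hR := hR) hRn h1 h2).congr fun y hy => ?_).congr_aut fun y hy => ?_
    · have : y ∈ θP '' (P' : Set Ω) := hθP.2.symm ▸ hy
      obtain ⟨x, hx, rfl⟩ := this
      simp only [Function.comp_apply, hli x hx, hBl _ (hB'.mem hx)]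
    · simp only [Function.comp_apply]
      obtain ⟨z, hz, rfl⟩ := hθP.1.1.exists_preimage hy
      rw [hai z hz, hbl z hz]
  | @inv P B f g hf him hinv ihf =>
    intro P' hle Q θP aP θQ aQ θPi aPi hPQ hPR hθP hθQ hli hai
    have hiso : IsIso F P B f := ⟨hf.isMap h, him⟩
    have hQP : Q ≤ P := fun y hy => by
      obtain ⟨x, hx, rfl⟩ := hPQ.exists_preimage hy
      obtain ⟨z, hz, rfl⟩ := hiso.exists_preimage (hle hx)
      rwa [hinv z hz]
    have hfl : ∀ x ∈ P', f (g x) = x := fun x hx => by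
      obtain ⟨z, hz, rfl⟩ := hiso.exists_preimage (hle hx)
      rw [hinv z hz]
    have hfQ : IsIso F Q P' f := ⟨(hf.isMap h).mono hQP, by
      rw [← hPQ.2, ← Set.image_comp]
      exact (Set.image_congr hfl).trans (Set.image_id' _)⟩
    have hQR := isConj_trans (isConj_symm hPQ.isConj) hPR
    have hQW : Q ≤ T₁ ⊓ T₂ := hQP.trans (hf.dom_le h)
    obtain ⟨θQi, -, hQl, -⟩ := (hθQ.isIso h hQW).exists_inv
    obtain ⟨aQi, -, hql, hqr⟩ := hθQ.1.1.exists_inv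
    have h1 := ihf Q hQP P' θQ aQ θP aP θQi aQi hfQ hQR hθQ hθP hQl hql
    refine h1.inv (hR := hR) hRn (fun y hy => ?_) fun y hy => ?_
    · have : y ∈ θQ '' (Q : Set Ω) := hθQ.2.symm ▸ hy
      obtain ⟨x, hx, rfl⟩ := this
      obtain ⟨z, hz, rfl⟩ := hPQ.exists_preimage hx
      simp only [Function.comp_apply, hQl _ (hPQ.mem hz), hfl z hz, hli z hz]
    · obtain ⟨z, hz, rfl⟩ := hθQ.1.1.exists_preimage hy
      simp only [Function.comp_apply, hql z hz, hai z hz]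
  | @congr P f g hf he ih =>
    intro P' hle Q θP aP θQ aQ θPi aPi hPQ hPR hθP hθQ hli hai
    refine (ih P' hle Q θP aP θQ aQ θPi aPi (hPQ.congr (he.mono hle).symm) hPR hθP hθQ hli hai).congr
      fun y hy => ?_
    have : y ∈ θP '' (P' : Set Ω) := hθP.2.symm ▸ hy
    obtain ⟨x, hx, rfl⟩ := this
    simp only [Function.comp_apply, hli x hx, he (hle hx)]

set_option maxHeartbeats 1000000 in
/-- Generated maps extend as generated maps wherever they extend in `F`, at every class with the bigger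
ones settled. -/
theorem recv_step (h : IData F E₁ E₂ p) {R : Subgroup Ω} (hRn : F.IsFullyNormalized R) (hR : Wc F (T₁ ⊓ T₂) R)
    (hrec : ∀ P : Subgroup Ω, Nat.card R < Nat.card P → Wc F (T₁ ⊓ T₂) P → RecvAt F E₁ E₂ p P)
    {P : Subgroup Ω} (hPR : F.IsConj P R) : RecvAt F E₁ E₂ p P := by
  intro Y f F₁ hf hPY hY hF₁ hF₁e
  have hPW : P ≤ T₁ ⊓ T₂ := hf.dom_le h
  obtain ⟨Q, hQ⟩ := (hf.isMap h).exists_image
  have hQW : Q ≤ T₁ ⊓ T₂ := fun y hy => by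
    obtain ⟨x, hx, rfl⟩ := hQ.exists_preimage hy
    exact hf.apply_mem h hx
  obtain ⟨θP, aP, hθP⟩ := exists_trans h hRn hPR
  obtain ⟨θQ, aQ, hθQ⟩ := exists_trans h hRn (isConj_trans (isConj_symm hQ.isConj) hPR)
  obtain ⟨θPi, -, hPl, -⟩ := (hθP.isIso h hPW).exists_inv
  obtain ⟨aPi, -, hpl, -⟩ := hθP.1.1.exists_inv
  obtain ⟨σ, α, hσ, hσR, hα, he⟩ :=
    good_igen (h := h) hRn hR hrec hf P le_rfl Q θP aP θQ aQ θPi aPi hQ hPR hθP hθQ hPl hpl
  set N₀ := normalizerIn (T₁ ⊓ T₂) R with hN₀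
  have hRN : R ≤ N₀ := le_normalizerIn hR.1
  have hσi := isIso_nW h hR.1 (hσ.isMap h) hσR
  obtain ⟨σi, hσii, hσl, -⟩ := hσi.exists_inv
  have hθY : Cls F E₁ E₂ p Y θP aP := hθP.1.mono h hY
  have hθYm := hθY.isMap h
  obtain ⟨M, hM⟩ := hθYm.exists_image
  have hMN : M ≤ N₀ := fun y hy => by
    obtain ⟨x, hx, rfl⟩ := hM.exists_preimage hy
    exact mem_nW h hθYm hPY hθP.2 hx (hY hx)
  have hRM : R ≤ M := fun y hy => by
    have : y ∈ θP '' (P : Set Ω) := hθP.2.symm ▸ hy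
    obtain ⟨x, hx, rfl⟩ := this
    exact hM.mem (hPY hx)
  have hF₁Q : F₁ '' (P : Set Ω) = (Q : Set Ω) := (Set.image_congr hF₁e).trans hQ.2
  have hF₁N : ∀ y ∈ Y, F₁ y ∈ normalizerIn (T₁ ⊓ T₂) Q := fun y hy => mem_nW h hF₁ hPY hF₁Q hy (hY hy)
  have hθQm := hθQ.1.isMap h
  have hQN : Q ≤ normalizerIn (T₁ ⊓ T₂) Q := le_normalizerIn hQW
  have hθQN : ∀ y ∈ normalizerIn (T₁ ⊓ T₂) Q, θQ y ∈ N₀ := fun y hy => mem_nW h hθQm hQN hθQ.2 hy hy
  -- the conjugation compatibility of `σ α`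
  have hxe : ∀ u ∈ P, σ (autFun α (θP u)) = θQ (f u) := fun u hu => by
    have h1 := he (hθP.isIso h hPW |>.mem hu)
    simp only [Function.comp_apply, hPl u hu] at h1
    exact h1.symm
  have hconjx : ∀ y ∈ Y, ∀ z ∈ R, σ (autFun α (θP y * z * (θP y)⁻¹)) =
      θQ (F₁ y) * σ (autFun α z) * (θQ (F₁ y))⁻¹ := by
    intro y hy z hz
    have : z ∈ θP '' (P : Set Ω) := hθP.2.symm ▸ hz
    obtain ⟨u, hu, rfl⟩ := this
    have hyu : y * u * y⁻¹ ∈ P := conj_mem_of_mem_normalizer (hY hy).2 hu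
    rw [← hθYm.map_conj hy (hPY hu), hxe _ hyu, hxe u hu, ← hF₁e hyu, hF₁.map_conj hy (hPY hu), hF₁e hu,
      hθQm.map_conj (hF₁N y hy) (hQN (hQ.mem hu))]
  have hconj : ∀ m ∈ M, ∃ w ∈ N₀, ∀ z ∈ R, autFun α (m * z * m⁻¹) = w * autFun α z * w⁻¹ := by
    intro m hm
    obtain ⟨y, hy, rfl⟩ := hM.exists_preimage hm
    refine ⟨σi (θQ (F₁ y)), hσii.mem (hθQN _ (hF₁N y hy)), fun z hz => ?_⟩
    have hz' : θP y * z * (θP y)⁻¹ ∈ R := conj_mem_of_mem_normalizer (hMN (hM.mem hy)).2 hz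
    have h1 := congrArg σi (hconjx y hy z hz)
    rw [hσl _ (hRN (autFun_mem_self α hz')),
      hσii.1.map_conj (hθQN _ (hF₁N y hy)) (hσi.mem (hRN (autFun_mem_self α hz))),
      hσl _ (hRN (autFun_mem_self α hz))] at h1
    exact h1
  obtain ⟨g₁, hg₁, hg₁e⟩ := extend_of_lGrp h hRn hR hRM hMN hα hconj
  have hg₁R : g₁ '' (R : Set Ω) = (R : Set Ω) := (Set.image_congr hg₁e).trans (autFun_image _)
  have hg₁N : ∀ m ∈ M, g₁ m ∈ N₀ := fun m hm => mem_nW h (hg₁.isMap h) hRM hg₁R hm (hMN hm)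
  obtain ⟨Q', hQ'⟩ := hθQm.exists_image
  have hmem : ∀ y ∈ Y, σ (g₁ (θP y)) ∈ Q' := by
    intro y hy
    have hm := hM.mem hy
    have hd : (θQ (F₁ y))⁻¹ * σ (g₁ (θP y)) ∈ R := by
      refine hR.self h.wS (inv_mul_mem_centralizerIn (hσi.mem (hg₁N _ hm)).1 (hθQN _ (hF₁N y hy)).1
        fun z hz => ?_)
      obtain ⟨v, hv, rfl⟩ : ∃ v ∈ R, σ (autFun α v) = z := by
        have : z ∈ σ '' (R : Set Ω) := hσR.symm ▸ hz
        obtain ⟨u, hu, rfl⟩ := this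
        exact ⟨autFun α⁻¹ u, autFun_mem_self _ hu, by
          rw [← Function.comp_apply (f := autFun α), ← autFun_mul _ _ hu, mul_inv_cancel, autFun_one hu]
          rfl⟩
      rw [← hconjx y hy v hv]
      have hv' : θP y * v * (θP y)⁻¹ ∈ R := conj_mem_of_mem_normalizer (hMN hm).2 hv
      rw [← hg₁e hv', (hg₁.isMap h).map_conj hm (hRM hv),
        hσi.1.map_conj (hg₁N _ hm) (hg₁N _ (hRM hv)), hg₁e hv]
    have hRQ' : R ≤ Q' := fun z hz => by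
      have : z ∈ θQ '' (Q : Set Ω) := hθQ.2.symm ▸ hz
      obtain ⟨u, hu, rfl⟩ := this
      exact hQ'.mem (hQN hu)
    have := Q'.mul_mem (hQ'.mem (hF₁N y hy)) (hRQ' hd)
    rwa [mul_inv_cancel_left] at this
  obtain ⟨θQi, hθQi, hQl, -⟩ := hQ'.exists_inv
  obtain ⟨aQi, -, hql, -⟩ := hθQ.1.1.exists_inv
  have hc : Cls F E₁ E₂ p Y (θQi ∘ σ ∘ g₁ ∘ θP) (aQi ∘ (aQ ∘ aPi) ∘ id ∘ aP) :=
    (((hθY.comp h (cls_of_gen h hg₁) fun y hy => hM.mem hy).comp h hσ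
      fun y hy => hg₁N _ (hM.mem hy)).comp h (hθQ.1.inv h hQ' hQl hql) hmem)
  refine ⟨_, igen_of_cls h hc fun y hy => ?_, fun u hu => ?_⟩
  · simp only [Function.comp_apply, id, hpl y hy, hql y hy]
  · simp only [Function.comp_apply]
    rw [hg₁e ((hθP.isIso h hPW).mem hu), hxe u hu, hQl _ (hQN (hQ.mem hu))]

/-- Generated maps extend as generated maps wherever they extend in `F`. -/
theorem recvAt (h : IData F E₁ E₂ p) {P : Subgroup Ω} (hP : Wc F (T₁ ⊓ T₂) P) :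
    RecvAt F E₁ E₂ p P := by
  suffices H : ∀ (n : ℕ) (P : Subgroup Ω), Nat.card ↥(T₁ ⊓ T₂) - Nat.card P = n → Wc F (T₁ ⊓ T₂) P →
      RecvAt F E₁ E₂ p P from H _ P rfl hP
  intro n
  induction n using Nat.strong_induction_on with
  | _ n ih =>
  intro P hn hP
  obtain ⟨R, hPR, hRn⟩ := exists_fullyNormalized (F := F) (hP.1.trans h.wS)
  refine recv_step h hRn (hP.of_conj h hPR) (fun X hX hXw => ?_) hPR
  rw [← isConj_card hPR] at hX
  haveI := finite_of_le h.wS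
  exact ih (Nat.card ↥(T₁ ⊓ T₂) - Nat.card X)
    (by have := Subgroup.card_le_of_le hXw.1; omega) X rfl hXw

end Cfsg.Agent.Fusion.Inter
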