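import Cfsg.Agent.Lib.Fusion.Inter.Recv
import Cfsg.Agent.Lib.Fusion.SatCriterion
import Cfsg.Agent.Fus93.Iso

/-!
# The intersection system is saturated
-/

set_option autoImplicit false
set_option linter.style.haveILetI false

namespace Cfsg.Agent.Fusion.Inter

open Cfsg Cfsg.Agent.Fusion Cfsg.Agent.Fusion.NormalLift
open Cfsg.FusionSystem (normalizerIn centralizerIn)

variable {Ω : Type*} [Group Ω] {S T₁ T₂ : Subgroup Ω} {F : FusionSystem S}
  {E₁ : FusionSystem T₁} {E₂ : FusionSystem T₂} {p : ℕ} [Finite S]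

omit [Finite S] in
theorem isMap_conj_of {P Q : Subgroup Ω} {β βi φ : Ω → Ω} (hβi : IsIso F Q P βi)
    (hφ : IsMap F P φ) (hm : ∀ x ∈ P, φ x ∈ P) (hβ : IsMap F P β) : IsMap F Q (β ∘ φ ∘ βi) :=
  (hβi.comp_map (hφ.comp hβ hm)).congr fun _ _ => rfl

variable [Fact p.Prime]

/-- Generated maps are invariant under `F`. -/
theorem igen_conj (h : IData F E₁ E₂ p) {P Q : Subgroup Ω} {β βi φ : Ω → Ω} (hP : P ≤ T₁ ⊓ T₂)
    (hβ : IsIso F P Q β) (hl : ∀ x ∈ P, βi (β x) = x) (hφ : IGen F E₁ E₂ p P φ)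
    (hm : ∀ x ∈ P, φ x ∈ P) : IGen F E₁ E₂ p Q (β ∘ φ ∘ βi) := by
  obtain ⟨a, ha⟩ := frattini h hP hβ.1
  obtain ⟨ai, -, hal, har⟩ := ha.1.exists_inv
  refine igen_of_cls h (a := a ∘ (id ∘ ai))
    (((ha.inv h hβ hl hal).comp h (cls_of_gen h hφ) fun y hy => ?_).comp h ha fun y hy => hm _ ?_)
    fun y hy => har y hy
  all_goals
    obtain ⟨x, hx, rfl⟩ := hβ.exists_preimage hy
    rwa [hl x hx]

/-- Generated automorphisms of `W` lie in `L₀(W)`. -/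
theorem lGrp_of_igen (h : IData F E₁ E₂ p) {P : Subgroup Ω} {f : Ω → Ω} (hf : IGen F E₁ E₂ p P f)
    (hP : P = T₁ ⊓ T₂) :
    ∃ α ∈ lGrp h (le_refl (T₁ ⊓ T₂)), Set.EqOn (autFun α) f (T₁ ⊓ T₂ : Subgroup Ω) := by
  haveI := finite_of_le h.wS
  have hWc : F.IsFullyCentralized (T₁ ⊓ T₂) := h.n₁.centralized
    (fullyNormalized_of_normalized h.wS (stronglyClosed_le_normalizer h.closed))
  induction hf with
  | @conj P w hle hw =>
    refine ⟨conjAutHom (T₁ ⊓ T₂) (T₁ ⊓ T₂) ⟨w, hw, Subgroup.le_normalizer hw⟩,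
      Subgroup.mem_sup_left (by rw [← range_conjAutHom]; exact ⟨_, rfl⟩), fun x hx => ?_⟩
    rw [autFun_of_mem _ hx, conjAutHom_apply]
  | @aut P X k hk hle =>
    obtain rfl : X = T₁ ⊓ T₂ := le_antisymm hk.1.1 (hP ▸ hle)
    exact kgen_mem_lGrp h (wc_w h) hWc hk
  | @comp P Q f g hf hg hm ihf ihg =>
    obtain ⟨α, hα, hαe⟩ := ihf hP
    subst hP
    have hQ : Q = T₁ ⊓ T₂ := by
      refine le_antisymm (hg.dom_le h) fun y hy => ?_
      obtain ⟨x, hx, rfl⟩ := (show IsIso F (T₁ ⊓ T₂) (T₁ ⊓ T₂) f from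
        isIso_of_mapsTo (hf.isMap h) h.wS (fun x hx => hf.apply_mem h hx) le_rfl).exists_preimage hy
      exact hm x hx
    obtain ⟨β, hβ, hβe⟩ := ihg hQ
    exact ⟨β * α, Subgroup.mul_mem _ hβ hα, fun x hx => by
      rw [autFun_mul _ _ hx, Function.comp_apply, hαe hx, Function.comp_apply,
        hβe (hαe hx ▸ autFun_mem_self α hx)]⟩
  | @inv P Q f g hf him hinv ihf =>
    have hiso : IsIso F P Q f := ⟨hf.isMap h, him⟩
    have hPW : P = T₁ ⊓ T₂ :=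
      Subgroup.eq_of_le_of_card_ge (hf.dom_le h) (by rw [hiso.card_eq, hP])
    obtain ⟨α, hα, hαe⟩ := ihf hPW
    subst hP
    refine ⟨α⁻¹, Subgroup.inv_mem _ hα, fun y hy => ?_⟩
    obtain ⟨x, hx, rfl⟩ := hiso.exists_preimage hy
    have hx' : x ∈ T₁ ⊓ T₂ := hPW ▸ hx
    rw [hinv x hx, ← hαe hx', PrimeIndex.autFun_inv_apply α hx']
  | @congr P f g hf he ih =>
    obtain ⟨α, hα, hαe⟩ := ih hP
    subst hP
    exact ⟨α, hα, fun x hx => (hαe hx).trans (he hx)⟩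

set_option maxHeartbeats 1000000 in
/-- An element of `N_S(R)` acting on `R` as a generated map acts as an element of `W`. -/
theorem autS (h : IData F E₁ E₂ p) {R : Subgroup Ω} (hRn : F.IsFullyNormalized R)
    (hR : Wc F (T₁ ⊓ T₂) R) {s : Ω} (hs : s ∈ normalizerIn S R)
    (hg : IGen F E₁ E₂ p R fun x => s * x * s⁻¹) :
    ∃ w ∈ T₁ ⊓ T₂, ∀ x ∈ R, s * x * s⁻¹ = w * x * w⁻¹ := by
  suffices H : ∀ (n : ℕ) (R : Subgroup Ω) (s : Ω), Nat.card ↥(T₁ ⊓ T₂) - Nat.card R = n →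
      F.IsFullyNormalized R → Wc F (T₁ ⊓ T₂) R → s ∈ normalizerIn S R →
      IGen F E₁ E₂ p R (fun x => s * x * s⁻¹) →
      ∃ w ∈ T₁ ⊓ T₂, ∀ x ∈ R, s * x * s⁻¹ = w * x * w⁻¹ from H _ R s rfl hRn hR hs hg
  intro n
  induction n using Nat.strong_induction_on with
  | _ n ih =>
  intro R s hn hRn hR hs hg
  haveI := finite_of_le h.wS
  haveI := finite_of_le hRn.1
  haveI := finite_mulAut R
  set A := F.autGroup R with hA
  have hcS : conjAutHom S R ⟨s, hs⟩ ∈ autInducedBy S R := by rw [← range_conjAutHom]; exact ⟨_, rfl⟩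
  have hce : ∀ x ∈ R, autFun (conjAutHom S R ⟨s, hs⟩) x = s * x * s⁻¹ := fun x hx => by
    rw [autFun_of_mem _ hx, conjAutHom_apply]
  suffices hL : conjAutHom S R ⟨s, hs⟩ ∈ lGrp h hR.1 by
    obtain ⟨w, hw, hwe⟩ := mem_autInducedBy.mp (lGrp_inter h hRn hR ⟨hcS, hL⟩)
    exact ⟨w, hw, fun x hx => by rw [← hce x hx, autFun_of_mem _ hx, hwe ⟨x, hx⟩]⟩
  by_cases hRW : R = T₁ ⊓ T₂
  · subst hRW
    obtain ⟨α, hα, hαe⟩ := lGrp_of_igen h hg rfl
    convert hα using 1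
    exact MulEquiv.ext fun x => Subtype.ext (by
      rw [← autFun_coe, hce x x.2]
      exact (hαe x.2).symm.trans (autFun_coe α x))
  set N₀ := normalizerIn (T₁ ⊓ T₂) R with hN₀
  have hlt : Nat.card R < Nat.card N₀ := lt_nW h (lt_of_le_of_ne hR.1 hRW)
  have hRN : R ≤ N₀ := le_normalizerIn hR.1
  have hN₀W : N₀ ≤ T₁ ⊓ T₂ := Fusion.normalizerIn_le _ _
  have hN₀S : N₀ ≤ S := hN₀W.trans h.wS
  haveI := finite_of_le hN₀S
  haveI := finite_mulAut N₀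
  haveI := finite_of_le (Fusion.normalizerIn_le S R)
  -- decomposition of the action of `s`
  have htr : Trans F E₁ E₂ p R R id id :=
    ⟨cls_of_gen h (igen_id hN₀W), Set.image_id _⟩
  have hsR : IsIso F R R fun x => s * x * s⁻¹ :=
    ⟨isMap_conj hRn.1 hs.1, image_conj_eq_self hs.2⟩
  obtain ⟨σ, α, hσ, hσR, hα, he⟩ := good_igen (h := h) hRn hR (fun P _ hP => recvAt h hP) hg R le_rfl R
    id id id id id id hsR (isConj_refl hRn.1) htr htr (fun _ _ => rfl) fun _ _ => rfl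
  have hσg : IGen F E₁ E₂ p N₀ σ := igen_of_cls h hσ fun _ _ => rfl
  -- the generated automorphisms of `N₀` stabilizing `R`
  set N := normalizerSystem F R hRn.1 with hN
  have hN₀N : N₀ ≤ normalizerIn S R := h.nW_le R
  have hSN : ∀ g ∈ normalizerIn S R, g ∈ Subgroup.normalizer (N₀ : Set Ω) := fun g hg =>
    Subgroup.mem_normalizer_fintype fun y hy =>
      ⟨h.map_w (isMap_conj (F := F) h.wS hg.1) hy.1 hy.1,
        Subgroup.mul_mem _ (Subgroup.mul_mem _ hg.2 hy.2) (Subgroup.inv_mem _ hg.2)⟩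
  have hN₀n : N.IsFullyNormalized N₀ := fullyNormalized_of_normalized hN₀N hSN
  set B := N.autGroup N₀ with hB
  have hBm : ∀ φ : B, IsIso F N₀ N₀ (autFun (φ : MulAut N₀)) ∧
      autFun (φ : MulAut N₀) '' (R : Set Ω) = (R : Set Ω) := fun φ =>
    let h1 := (mem_stabAut hRn.1 hRN hN₀N).mp φ.2
    ⟨(mem_autGroup hN₀S).mp h1.1, h1.2⟩
  let Φ : Subgroup B :=
    { carrier := {φ | IGen F E₁ E₂ p N₀ (autFun (φ : MulAut N₀))}
      one_mem' := (igen_id hN₀W).congr autFun_one.symm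
      mul_mem' := fun {a b} ha hb =>
        (hb.comp ha fun x hx => autFun_mem_self _ hx).congr (autFun_mul _ _).symm
      inv_mem' := fun {a} ha =>
        IGen.inv ha (autFun_image _) fun x hx => PrimeIndex.autFun_inv_apply _ hx }
  haveI hΦn : Φ.Normal := ⟨fun φ hφ β => by
    refine (igen_conj h hN₀W (hBm β).1 (βi := autFun ((β : MulAut N₀)⁻¹))
      (fun x hx => PrimeIndex.autFun_inv_apply _ hx) hφ fun x hx => autFun_mem_self _ hx).congr
      fun x hx => ?_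
    rw [Subgroup.coe_mul, Subgroup.coe_mul, Subgroup.coe_inv, autFun_mul _ _ hx]
    simp only [Function.comp_apply]
    rw [autFun_mul _ _ (autFun_mem_self _ hx), Function.comp_apply]⟩
  obtain ⟨V, hV⟩ := (fullyAutomized_of_fullyNormalized (h.pgroup.to_le (Fusion.normalizerIn_le S R))
    (normalizerSystem_isSaturated h.pgroup h.sat hRn) hN₀n).2
  obtain ⟨U, hU⟩ := Transfer.exists_sylow_subgroupOf_normal V Φ
  -- restriction to `R`
  let ρ : B →* A := MonoidHom.mk'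
    (fun φ => ⟨(show IsIso F R R (autFun (φ : MulAut N₀)) from ⟨(hBm φ).1.1.mono hRN, (hBm φ).2⟩).equiv,
      IsIso.equiv_mem_autGroup _⟩)
    fun a b => Subtype.ext (MulEquiv.ext fun x => Subtype.ext (autFun_mul _ _ (hRN x.2)))
  have hρe : ∀ φ : B, ∀ x ∈ R, autFun (ρ φ : MulAut R) x = autFun (φ : MulAut N₀) x := fun φ x hx => by
    rw [autFun_of_mem _ hx]
    rfl
  haveI hLn : ((lGrp h hR.1).subgroupOf A).Normal :=
    ⟨fun a ha b => Subgroup.mem_subgroupOf.mpr (lGrp_conj h hRn hR b.2 (Subgroup.mem_subgroupOf.mp ha))⟩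
  let j : Φ →* A ⧸ (lGrp h hR.1).subgroupOf A :=
    ((QuotientGroup.mk' _).comp ρ).comp Φ.subtype
  have hUk : (U : Subgroup Φ) ≤ j.ker := by
    intro φ hφ
    rw [hU, Subgroup.mem_subgroupOf, hV, Subgroup.mem_subgroupOf] at hφ
    obtain ⟨t, ht, hte⟩ := mem_autInducedBy.mp hφ
    have htN : t ∈ normalizerIn S N₀ := ⟨ht.1, hSN t ht⟩
    have hφe : ∀ x ∈ N₀, autFun ((φ : B) : MulAut N₀) x = t * x * t⁻¹ := fun x hx => by
      rw [autFun_of_mem _ hx]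
      exact hte ⟨x, hx⟩
    obtain ⟨Z, hZc, hZn⟩ := exists_fullyNormalized (F := F) hN₀S
    obtain ⟨θ, hθ, hθN, -⟩ := exists_normalizer_map h.pgroup
      (fullyAutomized_of_fullyNormalized h.pgroup h.sat hZn) (h.n₁.recv hZn) hZc
    obtain ⟨θi, hθi, hθl, -⟩ := hθN.exists_inv
    have hN₀θ : N₀ ≤ normalizerIn S N₀ := le_normalizerIn hN₀S
    have hZw : Wc F (T₁ ⊓ T₂) Z := (hR.of_le h hRN hN₀W).of_conj h hZc
    haveI := finite_of_le (hZw.1.trans h.wS)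
    have hgen : IGen F E₁ E₂ p Z fun z => θ t * z * (θ t)⁻¹ := by
      refine (igen_conj h hN₀W hθN hθl φ.2 fun x hx => autFun_mem_self _ hx).congr fun z hz => ?_
      obtain ⟨x, hx, rfl⟩ := hθN.exists_preimage hz
      simp only [Function.comp_apply, hθl x hx, hφe x hx]
      exact hθ.map_conj htN (hN₀θ hx)
    obtain ⟨w, hw, hwe⟩ := ih (Nat.card ↥(T₁ ⊓ T₂) - Nat.card Z)
      (by have := Subgroup.card_le_of_le hZw.1; rw [← isConj_card hZc] at this ⊢; omega) Z (θ t) rfl hZn hZw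
      (map_mem_normalizer hθ hN₀θ hθN.2 htN htN.2) hgen
    have hc' : (θ t)⁻¹ * w ∈ centralizerIn S Z := by
      refine inv_mul_mem_centralizerIn (h.wS hw) (hθ.apply_mem htN) fun z hz => (hwe z hz).symm
    have hNc := fullyCentralized_of_normalizerSystem h.pgroup h.sat hRn hRN hN₀n
    obtain ⟨c, hc, hce'⟩ := surjOn_of_card_le (Fusion.centralizerIn_le S Z)
      (hθ.injOn.mono (centralizerIn_le_normalizerIn S N₀))
      (fun c hc => map_mem_centralizer hθ hN₀θ hθN.2 (centralizerIn_le_normalizerIn S N₀ hc) hc.2)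
      (hNc.2 Z hZc) _ hc'
    have htc : t * c ∈ normalizerIn S N₀ :=
      Subgroup.mul_mem _ htN (centralizerIn_le_normalizerIn S N₀ hc)
    have htw : θ (t * c) = w := by
      rw [hθ.map_mul htN (centralizerIn_le_normalizerIn S N₀ hc), hce', mul_inv_cancel_left]
    obtain ⟨Y, hY⟩ := hθ.exists_image
    obtain ⟨θY, hθY, hθYl, -⟩ := hY.exists_inv
    have htW : t * c ∈ T₁ ⊓ T₂ := by
      have := h.map_w hθY.1 (hY.mem htc) (htw.symm ▸ hw)
      rwa [hθYl _ htc] at this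
    refine MonoidHom.mem_ker.mpr ((QuotientGroup.eq_one_iff _).mpr (Subgroup.mem_subgroupOf.mpr
      (Subgroup.mem_sup_left (mem_autInducedBy.mpr ⟨t * c, htW, fun x => ?_⟩))))
    show ((ρ (φ : B) : MulAut R) x : Ω) = _
    have h1 : c * (x : Ω) = x * c := (Subgroup.mem_centralizer_iff.mp hc.2 _ (hRN x.2)).symm
    rw [← autFun_coe, hρe _ x x.2, hφe _ (hRN x.2), mul_inv_rev, mul_assoc t c, h1]
    group
  obtain ⟨φ₀, hφ₀, hφ₀e⟩ := (isIso_nW h hR.1 (hσ.isMap h) hσR).exists_aut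
  have hφ₀B : φ₀ ∈ B := (mem_stabAut hRn.1 hRN hN₀N).mpr
    ⟨hφ₀, (Set.image_congr fun x hx => hφ₀e (hRN hx)).trans hσR⟩
  have hφΦ : (⟨φ₀, hφ₀B⟩ : B) ∈ Φ := hσg.congr hφ₀e.symm
  have hcA : conjAutHom S R ⟨s, hs⟩ ∈ A := autInducedBy_le_autGroup hRn.1 hcS
  have hje : j ⟨⟨φ₀, hφ₀B⟩, hφΦ⟩ = QuotientGroup.mk' _ ⟨_, hcA⟩ := by
    refine (QuotientGroup.eq (s := (lGrp h hR.1).subgroupOf A)).mpr (Subgroup.mem_subgroupOf.mpr ?_)
    show ((ρ ⟨φ₀, hφ₀B⟩ : A) : MulAut R)⁻¹ * conjAutHom S R ⟨s, hs⟩ ∈ lGrp h hR.1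
    convert hα using 1
    refine inv_mul_eq_of_eq_mul (MulEquiv.ext fun x => Subtype.ext ?_)
    rw [← autFun_coe (conjAutHom S R ⟨s, hs⟩), hce x x.2, ← autFun_coe, autFun_mul _ _ x.2,
      Function.comp_apply, hρe _ _ (autFun_mem_self _ x.2), hφ₀e (hRN (autFun_mem_self _ x.2))]
    have := he x.2
    simpa using this
  obtain ⟨k, hk⟩ := autInducedBy_isPGroup h.pgroup R ⟨_, hcS⟩
  have hk' : (⟨_, hcA⟩ : A) ^ p ^ k = 1 := Subtype.ext (by simpa using congrArg Subtype.val hk)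
  have h1 : orderOf (j ⟨⟨φ₀, hφ₀B⟩, hφΦ⟩) ∣ p ^ k :=
    orderOf_dvd_of_pow_eq_one (by rw [hje, ← map_pow, hk', map_one])
  have h2 : orderOf (j ⟨⟨φ₀, hφ₀B⟩, hφΦ⟩) ∣ j.ker.index := by
    rw [Subgroup.index_ker]
    have := orderOf_dvd_natCard (⟨j ⟨⟨φ₀, hφ₀B⟩, hφΦ⟩, _, rfl⟩ : j.range)
    rwa [← Subgroup.orderOf_coe] at this
  have h3 : (p ^ k).Coprime (U : Subgroup Φ).index :=
    ((Fact.out : p.Prime).coprime_iff_not_dvd.mpr U.not_dvd_index).pow_left k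
  have h4 := Nat.eq_one_of_dvd_one
    (h3.gcd_eq_one ▸ Nat.dvd_gcd h1 (h2.trans (Subgroup.index_dvd_of_le hUk)))
  rw [orderOf_eq_one_iff, hje] at h4
  exact Subgroup.mem_subgroupOf.mp ((QuotientGroup.eq_one_iff _).mp h4)

theorem gSys_fullyAutomized (h : IData F E₁ E₂ p) {R : Subgroup Ω} (hRn : F.IsFullyNormalized R)
    (hR : Wc F (T₁ ⊓ T₂) R) : (gSys h).IsFullyAutomized p R := by
  refine ⟨hR.1, ?_⟩
  haveI := finite_of_le hRn.1
  haveI := finite_mulAut R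
  set A := F.autGroup R with hA
  set G := (gSys h).autGroup R with hG
  have hmem : ∀ {α : MulAut R}, α ∈ G ↔ IGen F E₁ E₂ p R (autFun α) := by
    intro α
    rw [hG, mem_autGroup hR.1]
    exact ⟨fun ha => (isMap_gSys h).mp ha.1, fun ha => ⟨(isMap_gSys h).mpr ha, autFun_image α⟩⟩
  have hGA : G ≤ A := fun α hα => autGroup_mem_of_isMap ((hmem.mp hα).isMap h)
  haveI : (G.subgroupOf A).Normal := ⟨fun a ha b => Subgroup.mem_subgroupOf.mpr (hmem.mpr (by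
    refine (igen_conj h hR.1 ((mem_autGroup hRn.1).mp b.2) (βi := autFun ((b : MulAut R)⁻¹))
      (fun x hx => PrimeIndex.autFun_inv_apply _ hx) (hmem.mp (Subgroup.mem_subgroupOf.mp ha))
      fun x hx => autFun_mem_self _ hx).congr fun x hx => ?_
    rw [Subgroup.coe_mul, Subgroup.coe_mul, Subgroup.coe_inv, autFun_mul _ _ hx]
    simp only [Function.comp_apply]
    rw [autFun_mul _ _ (autFun_mem_self _ hx), Function.comp_apply]))⟩
  obtain ⟨V, hV⟩ := (fullyAutomized_of_fullyNormalized h.pgroup h.sat hRn).2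
  obtain ⟨U, hU⟩ := Transfer.exists_sylow_subgroupOf_normal V (G.subgroupOf A)
  refine ⟨U.comapOfInjective (Subgroup.subgroupOfEquivOfLe hGA).symm.toMonoidHom
    (Subgroup.subgroupOfEquivOfLe hGA).symm.injective
    (by rw [MonoidHom.range_eq_top.mpr (Subgroup.subgroupOfEquivOfLe hGA).symm.surjective]; exact le_top), ?_⟩
  ext a
  show (Subgroup.subgroupOfEquivOfLe hGA).symm a ∈ (U : Subgroup _) ↔ _
  rw [hU, Subgroup.mem_subgroupOf, hV, Subgroup.mem_subgroupOf, Subgroup.mem_subgroupOf]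
  refine ⟨fun ha => ?_, fun ha => autInducedBy_mono h.wS ha⟩
  obtain ⟨s, hs, hse⟩ := mem_autInducedBy.mp ha
  obtain ⟨w, hw, hwe⟩ := autS h hRn hR ⟨hs, mem_normalizer_of_induces hse⟩
    ((hmem.mp a.2).congr fun x hx => by rw [autFun_of_mem _ hx]; exact hse ⟨x, hx⟩)
  exact mem_autInducedBy.mpr ⟨w, hw, fun x => (hse x).trans (hwe x x.2)⟩

theorem gSys_receptive (h : IData F E₁ E₂ p) {R : Subgroup Ω} (hRn : F.IsFullyNormalized R)
    (hR : Wc F (T₁ ⊓ T₂) R) : (gSys h).IsReceptive R := by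
  refine isReceptive_of hR.1 fun P f hf M hPM hM => ?_
  have hg := (isMap_gSys h).mp hf.1
  have hfF : IsIso F P R f := ⟨hg.isMap h, hf.2⟩
  obtain ⟨F₁, hF₁, hF₁e⟩ := receptive_extend (h.n₁.recv hRn) hfF (M := M)
    ⟨hM.1.trans h.wS, fun g hg' =>
      let ⟨hn, u, hu, hue⟩ := hM.2 g hg'
      ⟨hn, u, h.wS hu, hue⟩⟩
  obtain ⟨g, hg', hge⟩ := recvAt h (hR.of_conj h (isConj_symm hfF.isConj)) M f F₁ hg hPM
    (fun x hx => ⟨hM.1 hx, (hM.2 x hx).1⟩) (hF₁.mono le_sup_right) hF₁e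
  exact ⟨g, (isMap_gSys h).mpr hg', hge⟩

omit [Fact p.Prime] in
/-- The automorphisms of `W` act on the intersection system. -/
theorem gSys_fiso (h : IData F E₁ E₂ p) {a ai : Ω → Ω} (ha : IsIso F (T₁ ⊓ T₂) (T₁ ⊓ T₂) a)
    (hai : IsIso F (T₁ ⊓ T₂) (T₁ ⊓ T₂) ai) (hl : ∀ x ∈ T₁ ⊓ T₂, ai (a x) = x)
    (hr : ∀ x ∈ T₁ ⊓ T₂, a (ai x) = x) : Fus93.FIso (gSys h) (gSys h) a ai where
  map_mul _ hx _ hy := ha.1.map_mul hx hy
  mem _ hx := ha.mem hx
  mem' _ hx := hai.mem hx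
  left := hl
  right := hr
  push _ _ hf P' hP' := (isMap_gSys h).mpr (((isMap_gSys h).mp hf).transport h ha hl P' hP')
  pull _ _ hf P hP := (isMap_gSys h).mpr (((isMap_gSys h).mp hf).transport h hai hr P hP)

omit [Fact p.Prime] in
/-- Conjugates in the intersection system are conjugates in `F`. -/
theorem isConj_of_gSys (h : IData F E₁ E₂ p) {P Q : Subgroup Ω} (hc : (gSys h).IsConj P Q) :
    F.IsConj P Q := by
  obtain ⟨f, hf⟩ := isConj_iff.mp hc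
  exact IsIso.isConj ⟨((isMap_gSys h).mp hf.1).isMap h, hf.2⟩

omit [Finite S] [Fact p.Prime] in
/-- A centric subgroup of a system with the same classes up to automorphisms of `W`. -/
theorem wc_of_centric {D : FusionSystem (T₁ ⊓ T₂)}
    (hfr : ∀ P f, IsMap F P f → P ≤ T₁ ⊓ T₂ →
      ∃ k g, IsIso F (T₁ ⊓ T₂) (T₁ ⊓ T₂) k ∧ IsMap D P g ∧ ∀ x ∈ P, f x = k (g x))
    {P : Subgroup Ω} (hP : D.IsCentric P) : Wc F (T₁ ⊓ T₂) P := by
  refine ⟨hP.1, fun Q hQ => ?_⟩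
  obtain ⟨f, hf⟩ := isConj_iff.mp hQ
  obtain ⟨k, g, hk, hg, he⟩ := hfr P f hf.1 hP.1
  obtain ⟨Q₁, hQ₁⟩ := hg.exists_image
  have hc := hP.2 Q₁ hQ₁.isConj
  obtain ⟨ki, hki, hkl, hkr⟩ := hk.exists_inv
  intro y hy
  have hyc : ki y ∈ centralizerIn (T₁ ⊓ T₂) Q₁ := by
    refine ⟨hki.mem hy.1, Subgroup.mem_centralizer_iff.mpr fun z hz => ?_⟩
    obtain ⟨x, hx, rfl⟩ := hQ₁.exists_preimage hz
    have hgx : g x ∈ T₁ ⊓ T₂ := hg.apply_mem hx
    have h1 := Subgroup.mem_centralizer_iff.mp hy.2 _ (hf.mem hx)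
    rw [he x hx] at h1
    have h2 := congrArg ki h1
    rwa [hki.1.map_mul (hk.mem hgx) hy.1, hki.1.map_mul hy.1 (hk.mem hgx), hkl _ hgx] at h2
  obtain ⟨x, hx, hxe⟩ := hQ₁.exists_preimage (hc hyc)
  have := hf.mem hx
  rwa [he x hx, hxe, hkr y hy.1] at this

theorem gSys_frattini (h : IData F E₁ E₂ p) (P : Subgroup Ω) (f : Ω → Ω) (hf : IsMap F P f)
    (hP : P ≤ T₁ ⊓ T₂) :
    ∃ k g, IsIso F (T₁ ⊓ T₂) (T₁ ⊓ T₂) k ∧ IsMap (gSys h) P g ∧ ∀ x ∈ P, f x = k (g x) := by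
  obtain ⟨a, ha, g, hg, he⟩ := frattini h hP hf
  exact ⟨a, g, ha, (isMap_gSys h).mpr hg, he⟩

theorem gSys_isSaturated (h : IData F E₁ E₂ p) : (gSys h).IsSaturated p := by
  haveI := finite_of_le h.wS
  refine SatCrit.isSaturated_of_criterion (h.pgroup.to_le h.wS) (ℋ := {P | Wc F (T₁ ⊓ T₂) P})
    (fun P hP => hP.1) (fun P hP Q hQ => hP.of_conj h (isConj_of_gSys h hQ)) (fun P hP => ?_)
    (fun E hE => le_of_isMap fun P f hf => ?_)
    fun P hPc hPn => absurd (wc_of_centric (gSys_frattini h) hPc) hPn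
  · obtain ⟨R, hPR, hRn⟩ := exists_fullyNormalized (F := F) (hP.1.trans h.wS)
    have hRw := hP.of_conj h hPR
    obtain ⟨θ, hθ⟩ := isConj_iff.mp hPR
    obtain ⟨a, ha, g, hg, he⟩ := frattini h hP.1 hθ.1
    obtain ⟨ai, hai, hl, hr⟩ := ha.exists_inv
    have hiso := (gSys_fiso h ha hai hl hr).symm
    obtain ⟨Q, hQ⟩ := ((isMap_gSys h).mpr hg).exists_image
    have hQe : Fus93.img ai R = Q := by
      apply SetLike.coe_injective
      rw [hiso.coe_img hRw.1, ← hθ.2, ← hQ.2, ← Set.image_comp]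
      exact Set.image_congr fun x hx => by
        rw [Function.comp_apply, he hx, Function.comp_apply, hl _ (hg.apply_mem h hx)]
    exact ⟨Q, hQ.isConj, hQe ▸ hiso.fullyAutomized (gSys_fullyAutomized h hRn hRw),
      hQe ▸ hiso.receptive (gSys_receptive h hRn hRw)⟩
  · have hf' := (isMap_gSys h).mp hf
    clear hf
    induction hf' with
    | conj hP hw => exact isMap_conj hP hw
    | @aut P X k hk hle =>
      exact (((isMap_gSys h).mpr (IGen.aut hk le_rfl)).of_subset (hE X hk.1)).mono hle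
    | comp _ _ hm hf hg => exact hf.comp hg hm
    | @inv P Q f g _ him hinv hf =>
      have hiso : IsIso E P Q f := ⟨hf, him⟩
      obtain ⟨g', hg', hl', -⟩ := hiso.exists_inv
      refine hg'.1.congr fun y hy => ?_
      obtain ⟨x, hx, rfl⟩ := hiso.exists_preimage hy
      rw [hl' x hx, hinv x hx]
    | congr _ he hf => exact hf.congr he

end Cfsg.Agent.Fusion.Inter
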