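import Cfsg.Agent.Lib.Fusion.Inter.Lift
import Cfsg.Agent.Lib.Fusion.Hyperfocal
import Cfsg.Agent.Fusion92.TClass.GroupStep

/-!
# The group `L₀(R)` at a fully normalized `R`

Its Sylow subgroup is `Aut_W(R)` and it is normal in `Aut_F(R)`.
-/

set_option autoImplicit false
set_option linter.style.haveILetI false

namespace Cfsg.Agent.Fusion.Inter

open Cfsg Cfsg.Agent.Fusion Cfsg.Agent.Fusion.NormalLift
open Cfsg.FusionSystem (normalizerIn centralizerIn)

variable {Ω : Type*} [Group Ω] {S T T₁ T₂ : Subgroup Ω} {F : FusionSystem S} {E : FusionSystem T}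
  {E₁ : FusionSystem T₁} {E₂ : FusionSystem T₂} {p : ℕ} [Finite S]

omit [Finite S] in
/-- `N_S(R)` normalizes `R C_S(R)`. -/
theorem normalizer_supC {R : Subgroup Ω} {g : Ω} (hg : g ∈ normalizerIn S R) :
    g ∈ Subgroup.normalizer ((R ⊔ centralizerIn S R : Subgroup Ω) : Set Ω) := by
  refine mem_normalizer_sup hg.2 (Subgroup.mem_normalizer_iff.mpr fun c => ?_)
  have key : ∀ a ∈ S, a ∈ Subgroup.normalizer (R : Set Ω) → ∀ c ∈ centralizerIn S R,
      a * c * a⁻¹ ∈ centralizerIn S R := by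
    intro a haS ha c hc
    refine ⟨S.mul_mem (S.mul_mem haS hc.1) (S.inv_mem haS), Subgroup.mem_centralizer_iff.mpr fun x hx => ?_⟩
    have h1 : a⁻¹ * x * a ∈ R := by
      simpa using conj_mem_of_mem_normalizer (Subgroup.inv_mem _ ha) hx
    have h2 := Subgroup.mem_centralizer_iff.mp hc.2 _ h1
    calc x * (a * c * a⁻¹) = a * ((a⁻¹ * x * a) * c) * a⁻¹ := by group
      _ = a * (c * (a⁻¹ * x * a)) * a⁻¹ := by rw [h2]
      _ = _ := by group
  refine ⟨key g hg.1 hg.2 c, fun hc => ?_⟩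
  have := key g⁻¹ (S.inv_mem hg.1) (Subgroup.inv_mem _ hg.2) _ hc
  simpa [mul_assoc] using this

omit [Finite S] in
theorem supC_le {R : Subgroup Ω} (hR : R ≤ S) : R ⊔ centralizerIn S R ≤ normalizerIn S R :=
  sup_le (le_normalizerIn hR) (centralizerIn_le_normalizerIn S R)

/-- `R C_S(R)` is receptive when `R` is fully centralized. -/
theorem receptive_supC [Fact p.Prime] (hS : IsPGroup p S) (hF : F.IsSaturated p) {R : Subgroup Ω}
    (hR : F.IsFullyCentralized R) : F.IsReceptive (R ⊔ centralizerIn S R) :=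
  receptive_of_fullyCentralized hS hF
    (Fus93.isFullyCentralized_of_isCentric (PrimeIndex.isCentric_sup_centralizer hR))

variable [Fact p.Prime]

/-- An element of `N_S(R)` inducing a map of `E` on `R C_T(R)` is an element of `N_T(R)` times one
centralizing `R C_T(R)`. -/
theorem induced_single (h : NData F E p) {R : Subgroup Ω} (hR : F.IsFullyNormalized R) (hRT : R ≤ T)
    {s : Ω} (hs : s ∈ normalizerIn S R)
    (hf : IsMap E (R ⊔ centralizerIn T R) fun x => s * x * s⁻¹) :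
    ∃ t ∈ normalizerIn T R, t⁻¹ * s ∈ centralizerIn S (R ⊔ centralizerIn T R) := by
  haveI := h.finiteT
  have hRe := h.fullyNormalized_e hR hRT
  set D := R ⊔ centralizerIn T R with hD
  have hDN : D ≤ normalizerIn T R := supC_le hRT
  have hDS : D ≤ S := hDN.trans (inf_le_left.trans h.tS)
  haveI := finite_of_le hDS
  haveI := finite_mulAut D
  haveI := finite_of_le (Fusion.normalizerIn_le T R)
  haveI := finite_of_le (Fusion.normalizerIn_le S R)
  set N := normalizerSystem E R hRe.1 with hN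
  have hsat := normalizerSystem_isSaturated h.tp h.eSat hRe
  have hTNp := h.tp.to_le (Fusion.normalizerIn_le T R)
  obtain ⟨U, hU⟩ := (fullyAutomized_of_fullyNormalized hTNp hsat
    (fullyNormalized_of_normalized (F := N) hDN fun g hg => normalizer_supC hg)).2
  have hsD : ∀ x ∈ D, s * x * s⁻¹ ∈ D :=
    mapsTo_supT h (hR.1) (isMap_conj (F := F) (sup_le hR.1 (Fusion.centralizerIn_le _ _)) hs.1)
      (image_conj_eq_self hs.2)
  have hsn : s ∈ normalizerIn (normalizerIn S R) D := ⟨hs, Subgroup.mem_normalizer_fintype hsD⟩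
  set P := autInducedBy (normalizerIn S R) D ⊓ N.autGroup D with hP
  have hPp : IsPGroup p (P.subgroupOf (N.autGroup D)) :=
    ((autInducedBy_isPGroup (h.pgroup.to_le (Fusion.normalizerIn_le S R)) D).to_le
      inf_le_left).comap_of_injective _ (Subgroup.subtype_injective _)
  have hle : (U : Subgroup (N.autGroup D)) ≤ P.subgroupOf (N.autGroup D) := by
    intro a ha
    rw [hU, Subgroup.mem_subgroupOf] at ha
    exact Subgroup.mem_subgroupOf.mpr
      ⟨autInducedBy_mono (inf_le_inf_right _ h.tS) ha, a.2⟩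
  have heq := U.3 hPp hle
  set α := conjAutHom (normalizerIn S R) D ⟨s, hsn⟩ with hα
  have hαe : Set.EqOn (fun x => s * x * s⁻¹) (autFun α) D := fun x hx => by
    rw [autFun_of_mem α hx, hα, conjAutHom_apply]
  have hαN : α ∈ N.autGroup D :=
    autGroup_mem_of_isMap ((isMap_normalizerSystem_of_le hRe.1 hf le_sup_left hDN
      (image_conj_eq_self hs.2)).congr hαe)
  have hαU : (⟨α, hαN⟩ : N.autGroup D) ∈ (U : Subgroup (N.autGroup D)) := by
    rw [← heq]
    exact Subgroup.mem_subgroupOf.mpr ⟨mem_autInducedBy.mpr ⟨s, hs, fun x => conjAutHom_apply ..⟩, hαN⟩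
  rw [hU, Subgroup.mem_subgroupOf] at hαU
  obtain ⟨t, ht, hte⟩ := mem_autInducedBy.mp hαU
  refine ⟨t, ht, inv_mul_mem_centralizerIn hs.1 (h.tS ht.1) fun x hx => ?_⟩
  exact (hαe hx).trans ((autFun_of_mem α hx).trans (hte ⟨x, hx⟩))

set_option maxHeartbeats 400000 in
/-- An automorphism of order prime to `p` above `R C_S(R)`, trivial on it modulo `R` and in `E` on
`R C_T(R)`, is trivial modulo `T`. -/
theorem mod_single (h : NData F E p) {R M : Subgroup Ω} (hR : F.IsFullyNormalized R) (hRT : R ≤ T)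
    (hDM : R ⊔ centralizerIn S R ≤ M) (hMN : M ≤ normalizerIn S R) {φ : Ω → Ω} (hφ : IsIso F M M φ)
    (hφR : φ '' (R : Set Ω) = (R : Set Ω))
    (hmod : ∀ x ∈ R ⊔ centralizerIn S R, x⁻¹ * φ x ∈ R) (hE : IsMap E (R ⊔ centralizerIn T R) φ)
    (hcop : Cop p M φ) : ∀ q ∈ M, q⁻¹ * φ q ∈ T := by
  intro q hq
  haveI := h.finiteT
  have hD₀ : R ⊔ centralizerIn S R ≤ S := sup_le hR.1 (Fusion.centralizerIn_le _ _)
  have hDT : R ⊔ centralizerIn T R ≤ T := sup_le hRT inf_le_left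
  have hTM : R ⊔ centralizerIn T R ≤ M := (le_supC h R).trans hDM
  have hφT := mapsTo_supT h hR.1 (hφ.1.mono hDM) hφR
  obtain ⟨φi, hφi, hφil, hφir⟩ :=
    (isIso_of_mapsTo hE (Q := R ⊔ centralizerIn T R) hDT hφT le_rfl).exists_inv
  have hqS : q ∈ S := (hMN hq).1
  have hqi : q⁻¹ ∈ normalizerIn S R := Subgroup.inv_mem _ (hMN hq)
  have hqT := mapsTo_supT h hR.1 (isMap_conj (F := F) hD₀ hqi.1) (image_conj_eq_self hqi.2)
  have hqT' := mapsTo_supT h hR.1 (isMap_conj (F := F) hD₀ hqS) (image_conj_eq_self (hMN hq).2)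
  obtain ⟨χ, hχ, hχe⟩ := h.strongInv _ _ _ φ (fun x => q⁻¹ * x * q⁻¹⁻¹) le_rfl hDT hE hφT
    (isMap_conj (hDT.trans h.tS) hqi.1)
    (isIso_of_mapsTo (isMap_conj (hDT.trans h.tS) hqi.1) (hDT.trans h.tS) hqT le_rfl)
  have hs : q⁻¹ * φ q ∈ normalizerIn S R :=
    ⟨S.mul_mem (S.inv_mem hqS) (hMN (hφ.mem hq)).1,
      Subgroup.mul_mem _ hqi.2 (hMN (hφ.mem hq)).2⟩
  have hf : IsMap E (R ⊔ centralizerIn T R) fun x => (q⁻¹ * φ q) * x * (q⁻¹ * φ q)⁻¹ := by
    refine (hφi.1.comp hχ fun x hx => hφi.mem hx).congr fun x hx => ?_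
    have hx' := hφi.mem hx
    have hy : q * φi x * q⁻¹ ∈ R ⊔ centralizerIn T R := hqT' _ hx'
    have h1 := hχe _ hy
    rw [show q⁻¹ * (q * φi x * q⁻¹) * q⁻¹⁻¹ = φi x by group, hφ.1.map_conj hq (hTM hx'), hφir x hx] at h1
    rw [Function.comp_apply, h1]
    group
  obtain ⟨t, ht, hc⟩ := induced_single h hR hRT hs hf
  set c := t⁻¹ * (q⁻¹ * φ q) with hcdef
  have hcC : c ∈ centralizerIn S R := ⟨hc.1, Subgroup.centralizer_le (fun x hx => Subgroup.mem_sup_left hx) hc.2⟩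
  have hcM : c ∈ M := hDM (Subgroup.mem_sup_right hcC)
  set r := c⁻¹ * φ c with hr
  have hrT : r ∈ T := hRT (hmod c (Subgroup.mem_sup_right hcC))
  have hconj : ∀ a ∈ S, ∀ x ∈ T, a⁻¹ * x * a ∈ T := fun a ha x hx => by
    simpa using h.conj_t (S.inv_mem ha) hx
  have hpow : ∀ n : ℕ, ∃ u ∈ T, (c * r) ^ n = c ^ n * u := by
    intro n
    induction n with
    | zero => exact ⟨1, T.one_mem, by simp⟩
    | succ n ih =>
      obtain ⟨u, hu, he⟩ := ih
      exact ⟨(c⁻¹ * u * c) * r, T.mul_mem (hconj c hc.1 u hu) hrT, by rw [pow_succ, he, pow_succ]; group⟩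
  have hit : ∀ n : ℕ, ∃ u ∈ T, φ^[n] q = q * c ^ n * u := by
    intro n
    induction n with
    | zero => exact ⟨1, T.one_mem, by simp⟩
    | succ n ih =>
      obtain ⟨u, hu, he⟩ := ih
      have hcn : c ^ n ∈ M := M.pow_mem hcM n
      have huM : u ∈ M := by
        have h1 : φ^[n] q ∈ M := by
          clear he hu
          induction n with
          | zero => exact hq
          | succ n ih' => rw [Function.iterate_succ_apply']; exact hφ.mem (ih' (M.pow_mem hcM n))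
        have := M.mul_mem (M.inv_mem (M.mul_mem hq hcn)) h1
        rwa [he, inv_mul_cancel_left] at this
      obtain ⟨u', hu', he'⟩ := hpow n
      have hφc : φ c = c * r := by rw [hr, mul_inv_cancel_left]
      have hφu : φ u ∈ T := Fusion92.closed_apply h.closed hφ.1 huM hu
      have hφq : φ q = q * t * c := by rw [hcdef]; group
      refine ⟨(c ^ (n + 1))⁻¹ * t * c ^ (n + 1) * (u' * φ u),
        T.mul_mem (hconj _ (S.pow_mem hc.1 _) _ ht.1) (T.mul_mem hu' hφu), ?_⟩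
      rw [Function.iterate_succ_apply', he, hφ.1.map_mul (M.mul_mem hq hcn) huM,
        hφ.1.map_mul hq hcn, hφ.1.map_pow hcM, hφc, he', hφq, pow_succ']
      group
  obtain ⟨m, hm, hme⟩ := hcop
  obtain ⟨u, hu, he⟩ := hit m
  have hcm : c ^ m ∈ T := by
    rw [hme q hq, mul_assoc, left_eq_mul] at he
    rw [eq_inv_of_mul_eq_one_left he]
    exact T.inv_mem hu
  obtain ⟨k, hk⟩ := h.pgroup ⟨c, hc.1⟩
  have hck : c ^ p ^ k ∈ T := by
    rw [show c ^ p ^ k = 1 from congrArg Subtype.val hk]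
    exact T.one_mem
  have := T.mul_mem ht.1 (Fusion92.TClass.mem_of_pow_of_pow hcm hck (hm.pow_right k))
  rwa [hcdef, mul_inv_cancel_left] at this

/-! ### The group at a fully normalized subgroup -/

variable {h : IData F E₁ E₂ p} {R : Subgroup Ω}

theorem conj_rho_range (h : IData F E₁ E₂ p) (hR : R ≤ T₁ ⊓ T₂) (hc : F.IsFullyCentralized R)
    {β : MulAut R} (hβ : β ∈ F.autGroup R) {α : MulAut R} (hα : α ∈ (rho h hR).range) :
    β * α * β⁻¹ ∈ (rho h hR).range := by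
  obtain ⟨a, rfl⟩ := hα
  obtain ⟨θ, hθR, hθe, hθD, -⟩ :=
    exists_extend_centralizer h.pgroup h.sat ((mem_autGroup hc.1).mp hβ) hc hc
  obtain ⟨θi, -, hθil, -⟩ := hθD.exists_inv
  obtain ⟨b, hb, hbe⟩ := (LiftI.transport h hR hθR hθD hθil a.2).exists_mem_xGrp h hR
  refine ⟨⟨b, hb⟩, MulEquiv.ext fun x => Subtype.ext ?_⟩
  rw [← autFun_coe, rho_apply h hR _ x.2, hbe (Subgroup.mem_sup_left x.2)]
  have hy : ((β⁻¹ : MulAut R) x : Ω) ∈ R := Subtype.mem _
  have h1 : θi (x : Ω) = ((β⁻¹ : MulAut R) x : Ω) := by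
    have h2 := hθil _ (Subgroup.mem_sup_left hy)
    rwa [hθe hy, autFun_coe, MulAut.apply_inv_self] at h2
  simp only [Function.comp_apply, h1, MulAut.mul_apply]
  rw [← rho_apply h hR a hy, autFun_coe, hθe (Subtype.mem _), autFun_coe]

theorem mem_residual_of_range (h : IData F E₁ E₂ p) (hR : R ≤ T₁ ⊓ T₂) {α : MulAut R}
    (hα : α ∈ (rho h hR).range) (ho : (orderOf α).Coprime p) :
    α ∈ (pResidual p ↥(xGrp h hR)).map (rho h hR) := by
  haveI := finite_of_le (sup_le (hR.trans h.wS) (Fusion.centralizerIn_le S R) :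
      R ⊔ centralizerIn S R ≤ S)
  haveI := finite_mulAut ↥(R ⊔ centralizerIn S R)
  obtain ⟨a, rfl⟩ := hα
  obtain ⟨k, hk, hke⟩ := exists_pow_coprime (p := p) a _ ho
  exact ⟨a ^ k, Transfer.mem_pResidual_of_coprime hk, by rw [map_pow, hke]⟩

theorem conj_residual (h : IData F E₁ E₂ p) (hR : R ≤ T₁ ⊓ T₂) (hc : F.IsFullyCentralized R)
    {β : MulAut R} (hβ : β ∈ F.autGroup R) {α : MulAut R}
    (hα : α ∈ (pResidual p ↥(xGrp h hR)).map (rho h hR)) :
    β * α * β⁻¹ ∈ (pResidual p ↥(xGrp h hR)).map (rho h hR) := by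
  obtain ⟨a, ha, rfl⟩ := hα
  induction ha using Subgroup.closure_induction with
  | mem a ha =>
    refine mem_residual_of_range h hR (conj_rho_range h hR hc hβ ⟨a, rfl⟩) ?_
    rw [← MulAut.conj_apply, MulEquiv.orderOf_eq]
    exact Nat.Coprime.coprime_dvd_left (orderOf_map_dvd _ a) ha
  | one => simp
  | mul a b _ _ iha ihb =>
    rw [map_mul, show β * (rho h hR a * rho h hR b) * β⁻¹ = β * rho h hR a * β⁻¹ * (β * rho h hR b * β⁻¹) by group]
    exact Subgroup.mul_mem _ iha ihb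
  | inv a _ iha =>
    rw [map_inv, show β * (rho h hR a)⁻¹ * β⁻¹ = (β * rho h hR a * β⁻¹)⁻¹ by group]
    exact Subgroup.inv_mem _ iha

/-- The lifts, as a normal subgroup of the stabilizer of `R`. -/
theorem xGrp_sylow (h : IData F E₁ E₂ p) (hRn : F.IsFullyNormalized R) (hR : R ≤ T₁ ⊓ T₂) :
    ∃ U : Sylow p ↥(xGrp h hR), ∀ a : xGrp h hR,
      a ∈ (U : Subgroup (xGrp h hR)) ↔
        (a : MulAut ↥(R ⊔ centralizerIn S R)) ∈ autInducedBy (normalizerIn S R) (R ⊔ centralizerIn S R) := by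
  set D := R ⊔ centralizerIn S R with hD
  have hRS := hRn.1
  have hDS : D ≤ S := sup_le hRS (Fusion.centralizerIn_le _ _)
  haveI := finite_of_le hDS
  haveI := finite_mulAut D
  haveI := finite_of_le (Fusion.normalizerIn_le S R)
  set N := normalizerSystem F R hRS with hN
  obtain ⟨V, hV⟩ := (fullyAutomized_of_fullyNormalized (h.pgroup.to_le (Fusion.normalizerIn_le S R))
    (normalizerSystem_isSaturated h.pgroup h.sat hRn)
    (fullyNormalized_of_normalized (F := N) (supC_le hRS) fun g hg => normalizer_supC hg)).2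
  have hXA : xGrp h hR ≤ N.autGroup D := fun a ha =>
    (mem_stabAut hRS le_sup_left (supC_le hRS)).mpr
      ⟨xGrp_le h hR ha, (Set.image_congr fun x _ => rfl).trans (LiftI.isIso hRS ha).2⟩
  haveI hn : ((xGrp h hR).subgroupOf (N.autGroup D)).Normal := by
    refine ⟨fun a ha b => Subgroup.mem_subgroupOf.mpr ?_⟩
    obtain ⟨hbF, hbR⟩ := (mem_stabAut hRS le_sup_left (supC_le hRS)).mp b.2
    have hbi := (mem_autGroup hDS).mp hbF
    refine (LiftI.transport h hR (θi := autFun ((b : MulAut D)⁻¹)) ⟨hbi.1.mono le_sup_left, hbR⟩ hbi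
      (fun x hx => PrimeIndex.autFun_inv_apply _ hx) (Subgroup.mem_subgroupOf.mp ha)).congr
      (h.le_sup R) fun x hx => ?_
    rw [Subgroup.coe_mul, Subgroup.coe_mul, Subgroup.coe_inv]
    rw [autFun_mul _ _ hx]
    simp only [Function.comp_apply]
    rw [autFun_mul _ _ (autFun_mem_self _ hx)]
    rfl
  obtain ⟨Q, hQ⟩ := Transfer.exists_sylow_subgroupOf_normal V ((xGrp h hR).subgroupOf (N.autGroup D))
  refine ⟨Q.comapOfInjective (Subgroup.subgroupOfEquivOfLe hXA).symm.toMonoidHom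
    (Subgroup.subgroupOfEquivOfLe hXA).symm.injective
    (by rw [MonoidHom.range_eq_top.mpr (Subgroup.subgroupOfEquivOfLe hXA).symm.surjective]; exact le_top),
    fun a => ?_⟩
  show (Subgroup.subgroupOfEquivOfLe hXA).symm a ∈ (Q : Subgroup _) ↔ _
  rw [hQ, Subgroup.mem_subgroupOf, hV, Subgroup.mem_subgroupOf]
  rfl

set_option maxHeartbeats 1000000 in
/-- The `p`-residual of the lifts meets the Sylow subgroup in conjugations by elements of `W`. -/
theorem residual_inf_le (h : IData F E₁ E₂ p) (hRn : F.IsFullyNormalized R) (hR : R ≤ T₁ ⊓ T₂)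
    (U : Sylow p ↥(xGrp h hR))
    (hU : ∀ a : xGrp h hR, a ∈ (U : Subgroup (xGrp h hR)) ↔
      (a : MulAut ↥(R ⊔ centralizerIn S R)) ∈ autInducedBy (normalizerIn S R) (R ⊔ centralizerIn S R)) :
    (U : Subgroup (xGrp h hR)) ⊓ pResidual p ↥(xGrp h hR) ≤
      (autInducedBy (T₁ ⊓ T₂) (R ⊔ centralizerIn S R)).subgroupOf (xGrp h hR) := by
  set D := R ⊔ centralizerIn S R with hD
  have hRS := hRn.1
  have hDS : D ≤ S := sup_le hRS (Fusion.centralizerIn_le _ _)
  haveI := finite_of_le hDS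
  haveI := finite_mulAut D
  rw [← hyperfocal_eq U]
  refine (Subgroup.closure_le _).mpr ?_
  rintro _ ⟨P, α, u, hP, hα, rfl⟩
  set B := (autInducedBy (T₁ ⊓ T₂) D).subgroupOf (xGrp h hR) with hB
  revert u
  show ∀ u : P, (u : xGrp h hR)⁻¹ * (((α : MulAut P) u : P) : xGrp h hR) ∈ B
  induction hα using Subgroup.closure_induction with
  | one => intro u; simp
  | mul a b _ _ iha ihb =>
    intro u
    have := B.mul_mem (ihb u) (iha ((b : MulAut P) u))
    convert this using 1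
    rw [Subgroup.coe_mul, MulAut.mul_apply]
    group
  | inv a _ iha =>
    intro u
    have := B.inv_mem (iha (((a : MulAut P)⁻¹) u))
    rw [MulAut.apply_inv_self] at this
    convert this using 1
    rw [Subgroup.coe_inv]
    group
  | mem a ha =>
    intro u
    haveI := finite_mulAut P
    -- `a` is conjugation by an element of order prime to `p`
    obtain ⟨φ, hφ, hφe⟩ := ((mem_autGroup hP).mp a.2).1
    obtain ⟨-, -, g₀, hg₀⟩ := hφ
    have hg₀a : ∀ x : P, (((a : MulAut P) x : P) : xGrp h hR) = g₀ * (x : xGrp h hR) * g₀⁻¹ := fun x => by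
      rw [← autFun_coe, ← hφe x, hg₀ x]
    have hg₀N : g₀ ∈ normalizerIn (⊤ : Subgroup (xGrp h hR)) P :=
      ⟨Subgroup.mem_top _, mem_normalizer_of_induces hg₀a⟩
    obtain ⟨k, hk, hke⟩ := exists_pow_coprime (p := p) (⟨g₀, hg₀N⟩ : normalizerIn ⊤ P) (a : MulAut P)
      (by rwa [Subgroup.orderOf_coe])
    set g : xGrp h hR := g₀ ^ k with hg
    have hgo : (orderOf g).Coprime p := by
      rwa [← Subgroup.orderOf_coe, Subgroup.coe_pow] at hk
    have hga : ∀ x : P, (((a : MulAut P) x : P) : xGrp h hR) = g * (x : xGrp h hR) * g⁻¹ := fun x => by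
      have h1 : conjAutHom (⊤ : Subgroup (xGrp h hR)) P ⟨g₀, hg₀N⟩ = (a : MulAut P) :=
        MulEquiv.ext fun y => Subtype.ext ((conjAutHom_apply ..).trans (hg₀a y).symm)
      have h2 : conjAutHom (⊤ : Subgroup (xGrp h hR)) P (⟨g₀, hg₀N⟩ ^ k) = (a : MulAut P) := by
        rw [map_pow, h1, hke]
      rw [← h2, conjAutHom_apply, Subgroup.coe_pow]
    -- the elements of `N_S(R)` inducing elements of `P`
    set Q := ((P.map (xGrp h hR).subtype).comap (conjAutHom (normalizerIn S R) D)).map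
      (normalizerIn (normalizerIn S R) D).subtype with hQ
    have memQ : ∀ {q : Ω}, q ∈ Q ↔ q ∈ normalizerIn S R ∧
        ∃ v : P, ∀ x ∈ D, autFun ((v : xGrp h hR) : MulAut D) x = q * x * q⁻¹ := by
      intro q
      constructor
      · rintro ⟨⟨q, hq⟩, ⟨v, hv, hve⟩, rfl⟩
        refine ⟨hq.1, ⟨v, hv⟩, fun x hx => ?_⟩
        rw [autFun_of_mem _ hx, show (v : MulAut D) = _ from hve, conjAutHom_apply]
        rfl
      · rintro ⟨hq, v, hv⟩
        refine ⟨⟨q, hq, normalizer_supC hq⟩, ⟨v, v.2, MulEquiv.ext fun x => Subtype.ext ?_⟩, rfl⟩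
        rw [conjAutHom_apply, ← hv x x.2, autFun_coe]
        rfl
    have hQsurj : ∀ v : P, ∃ q ∈ Q, ∀ x ∈ D, autFun ((v : xGrp h hR) : MulAut D) x = q * x * q⁻¹ := by
      intro v
      obtain ⟨q, hq, hqe⟩ := mem_autInducedBy.mp ((hU _).mp (hP v.2))
      have hqe' : ∀ x ∈ D, autFun ((v : xGrp h hR) : MulAut D) x = q * x * q⁻¹ := fun x hx => by
        rw [autFun_of_mem _ hx]
        exact hqe ⟨x, hx⟩
      exact ⟨q, memQ.mpr ⟨hq, v, hqe'⟩, hqe'⟩
    have hgi := (mem_autGroup hDS).mp (xGrp_le h hR g.2)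
    have hgR : autFun (g : MulAut D) '' (R : Set Ω) = (R : Set Ω) := (LiftI.isIso hRS g.2).2
    have hgv : ∀ v : P, ∀ x ∈ D, autFun (g : MulAut D) (autFun ((v : xGrp h hR) : MulAut D) x) =
        autFun ((((a : MulAut P) v : P) : xGrp h hR) : MulAut D) (autFun (g : MulAut D) x) := by
      intro v x hx
      have e1 := autFun_mul (g : MulAut D) ((v : xGrp h hR) : MulAut D) hx
      have e2 := autFun_mul ((((a : MulAut P) v : P) : xGrp h hR) : MulAut D) (g : MulAut D) hx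
      rw [Function.comp_apply] at e1 e2
      rw [← e1, ← e2, hga v, Subgroup.coe_mul, Subgroup.coe_mul, Subgroup.coe_inv, inv_mul_cancel_right]
    have hext : IsExtendable S D (autFun (g : MulAut D)) Q := by
      refine ⟨fun q hq => (memQ.mp hq).1.1, fun q hq => ?_⟩
      obtain ⟨hqN, v, hv⟩ := memQ.mp hq
      obtain ⟨q', hq', hq'e⟩ := hQsurj ((a : MulAut P) v)
      refine ⟨normalizer_supC hqN, q', (memQ.mp hq').1.1, fun x hx => ?_⟩
      rw [← hv x hx, hgv v x hx, hq'e _ (hgi.mem hx)]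
    obtain ⟨f, hf, hfe⟩ := receptive_extend
      (receptive_supC h.pgroup h.sat (fullyCentralized_of_fullyNormalized h.pgroup h.sat hRn)) hgi hext
    set M := D ⊔ Q with hM
    have hMN : M ≤ normalizerIn S R := sup_le (supC_le hRS) fun q hq => (memQ.mp hq).1
    have hMS : M ≤ S := hMN.trans inf_le_left
    have hfR : f '' (R : Set Ω) = (R : Set Ω) :=
      (Set.image_congr fun x hx => hfe (Subgroup.mem_sup_left hx : x ∈ D)).trans hgR
    have hfQ : ∀ q ∈ Q, f q ∈ Q := by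
      intro q hq
      obtain ⟨hqN, v, hv⟩ := memQ.mp hq
      refine memQ.mpr ⟨map_mem_normalizer hf (le_sup_left.trans le_sup_left) hfR (Subgroup.mem_sup_right hq) hqN.2,
        (a : MulAut P) v, fun y hy => ?_⟩
      obtain ⟨x, hx, rfl⟩ := hgi.exists_preimage hy
      have hqx : q * x * q⁻¹ ∈ D := conj_mem_of_mem_normalizer (normalizer_supC hqN) hx
      rw [← hgv v x hx, hv x hx, ← hfe hqx, hf.map_conj (Subgroup.mem_sup_right hq) (Subgroup.mem_sup_left hx),
        hfe hx]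
    have hfi : IsIso F M M f := isIso_of_mapsTo hf hMS (isMap_mem_sup hf le_sup_left le_sup_right
      (fun x hx => Subgroup.mem_sup_left (hfe hx ▸ hgi.mem hx))
      fun x hx => Subgroup.mem_sup_right (hfQ x hx)) le_rfl
    haveI := finite_of_le hMS
    haveI := finite_mulAut M
    obtain ⟨β, hβ, hβe⟩ := hfi.exists_aut
    obtain ⟨e, he, hee⟩ := exists_pow_coprime (p := p) β (g : MulAut D) (by rwa [Subgroup.orderOf_coe])
    set φ := autFun (β ^ e) with hφdef
    have hφD : ∀ x ∈ D, φ x = autFun (g : MulAut D) x := by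
      intro x hx
      have key : ∀ n : ℕ, ∀ x ∈ D, autFun (β ^ n) x = autFun ((g : MulAut D) ^ n) x := by
        intro n
        induction n with
        | zero =>
          intro x hx
          rw [pow_zero, pow_zero, autFun_one (Subgroup.mem_sup_left hx : x ∈ M), autFun_one hx]
        | succ n ih =>
          intro x hx
          rw [pow_succ, pow_succ, autFun_mul _ _ (Subgroup.mem_sup_left hx : x ∈ M), autFun_mul _ _ hx,
            Function.comp_apply, Function.comp_apply, hβe (Subgroup.mem_sup_left hx), hfe hx,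
            ih _ (autFun_mem_self _ hx)]
      rw [hφdef, key e x hx, hee]
    have hφi : IsIso F M M φ := (mem_autGroup hMS).mp (Subgroup.pow_mem _ hβ e)
    have hcop : Cop p M φ := ⟨orderOf (β ^ e), he, fun x hx => by
      rw [← iterate_autFun (Set.eqOn_refl (autFun (β ^ e)) _) _ x hx, pow_orderOf_eq_one, autFun_one hx]
      rfl⟩
    have hφR : φ '' (R : Set Ω) = (R : Set Ω) :=
      (Set.image_congr fun x hx => hφD x (Subgroup.mem_sup_left hx)).trans hgR
    have hmod : ∀ x ∈ D, x⁻¹ * φ x ∈ R := fun x hx => hφD x hx ▸ g.2.2.1 x hx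
    obtain ⟨q, hq, hqe⟩ := hQsurj u
    have hqM : q ∈ M := Subgroup.mem_sup_right hq
    have h₁ := mod_single h.n₁ hRn (hR.trans inf_le_left) le_sup_left hMN hφi hφR hmod
      (g.2.2.2.1.congr fun x hx => (hφD x (le_supC h.n₁ R hx)).symm) hcop q hqM
    have h₂ := mod_single h.n₂ hRn (hR.trans inf_le_right) le_sup_left hMN hφi hφR hmod
      (g.2.2.2.2.congr fun x hx => (hφD x (le_supC h.n₂ R hx)).symm) hcop q hqM
    refine Subgroup.mem_subgroupOf.mpr (mem_autInducedBy.mpr ⟨q⁻¹ * φ q, ⟨h₁, h₂⟩, fun x => ?_⟩)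
    have hqn : ∀ y ∈ D, q * y * q⁻¹ ∈ D := fun y hy =>
      conj_mem_of_mem_normalizer (normalizer_supC (memQ.mp hq).1) hy
    have hau : ∀ y ∈ D, autFun ((((a : MulAut P) u : P) : xGrp h hR) : MulAut D) y = φ q * y * (φ q)⁻¹ := by
      intro y hy
      obtain ⟨z, hz, rfl⟩ := hgi.exists_preimage hy
      rw [← hgv u z hz, hqe z hz, ← hφD _ (hqn z hz), hφi.1.map_conj hqM (Subgroup.mem_sup_left hz), hφD z hz]
    have hui : ∀ y ∈ D, autFun (((u : xGrp h hR) : MulAut D)⁻¹) y = q⁻¹ * y * q := by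
      intro y hy
      have hy' : q⁻¹ * y * q ∈ D := by
        simpa using conj_mem_of_mem_normalizer (normalizer_supC (Subgroup.inv_mem _ (memQ.mp hq).1)) hy
      have := PrimeIndex.autFun_inv_apply ((u : xGrp h hR) : MulAut D) hy'
      rwa [hqe _ hy', show q * (q⁻¹ * y * q) * q⁻¹ = y by group] at this
    rw [← autFun_coe, Subgroup.coe_mul, Subgroup.coe_inv, autFun_mul _ _ x.2, Function.comp_apply,
      hui _ (autFun_mem_self _ x.2), hau _ x.2]
    group

/-- The automorphisms of the residual induced by `S` are induced by `W`. -/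
theorem residual_inter (h : IData F E₁ E₂ p) (hRn : F.IsFullyNormalized R) (hR : R ≤ T₁ ⊓ T₂) :
    autInducedBy S R ⊓ (pResidual p ↥(xGrp h hR)).map (rho h hR) ≤ autInducedBy (T₁ ⊓ T₂) R := by
  have hDS : R ⊔ centralizerIn S R ≤ S := sup_le hRn.1 (Fusion.centralizerIn_le _ _)
  haveI := finite_of_le hDS
  haveI := finite_mulAut ↥(R ⊔ centralizerIn S R)
  obtain ⟨U, hU⟩ := xGrp_sylow h hRn hR
  set K := pResidual p ↥(xGrp h hR) with hK
  obtain ⟨U₀, hU₀⟩ := Transfer.exists_sylow_subgroupOf_normal U K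
  let f : K →* ↥(K.map (rho h hR)) := (rho h hR).subgroupMap K
  have hf : Function.Surjective f := MonoidHom.subgroupMap_surjective _ _
  set P := (autInducedBy S R).subgroupOf (K.map (rho h hR)) with hP
  have hPp : IsPGroup p P :=
    (autInducedBy_isPGroup h.pgroup R).comap_of_injective _ (Subgroup.subtype_injective _)
  have hle : ((U₀.mapSurjective hf : Sylow p _) : Subgroup _) ≤ P := by
    rintro _ ⟨a, ha, rfl⟩
    rw [hU₀, SetLike.mem_coe, Subgroup.mem_subgroupOf, hU] at ha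
    obtain ⟨s, hs, hse⟩ := mem_autInducedBy.mp ha
    refine Subgroup.mem_subgroupOf.mpr (mem_autInducedBy.mpr ⟨s, hs.1, fun x => ?_⟩)
    show ((rho h hR (a : xGrp h hR) x : R) : Ω) = _
    rw [← autFun_coe, rho_apply h hR _ x.2, autFun_of_mem _ (Subgroup.mem_sup_left x.2)]
    exact hse ⟨x, Subgroup.mem_sup_left x.2⟩
  have heq := (U₀.mapSurjective hf).3 hPp hle
  rintro α ⟨hαS, hαK⟩
  have hmem : (⟨α, hαK⟩ : ↥(K.map (rho h hR))) ∈ ((U₀.mapSurjective hf : Sylow p _) : Subgroup _) := by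
    rw [← heq]
    exact Subgroup.mem_subgroupOf.mpr hαS
  obtain ⟨a, ha, hae⟩ := hmem
  rw [hU₀] at ha
  have hw := residual_inf_le h hRn hR U hU ⟨Subgroup.mem_subgroupOf.mp ha, a.2⟩
  obtain ⟨w, hw', hwe⟩ := mem_autInducedBy.mp hw
  refine mem_autInducedBy.mpr ⟨w, hw', fun x => ?_⟩
  rw [show α = rho h hR (a : xGrp h hR) from (congrArg Subtype.val hae).symm,
    ← autFun_coe, rho_apply h hR _ x.2, autFun_of_mem _ (Subgroup.mem_sup_left x.2)]
  exact hwe ⟨x, Subgroup.mem_sup_left x.2⟩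

/-! ### `L₀(R)` -/

theorem autInducedBy_conj {s : Ω} (h : IData F E₁ E₂ p) {β : MulAut R} (hs : s ∈ S)
    (hsβ : ∀ x : R, (β x : Ω) = s * x * s⁻¹) {α : MulAut R} (hα : α ∈ autInducedBy (T₁ ⊓ T₂) R) :
    β * α * β⁻¹ ∈ autInducedBy (T₁ ⊓ T₂) R := by
  obtain ⟨w, hw, hwe⟩ := mem_autInducedBy.mp hα
  refine mem_autInducedBy.mpr ⟨s * w * s⁻¹,
    h.map_w (isMap_conj (F := F) h.wS hs) hw hw, fun x => ?_⟩
  have h1 : ((β⁻¹ : MulAut R) x : Ω) = s⁻¹ * x * s := by
    have := hsβ ((β⁻¹ : MulAut R) x)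
    rw [MulAut.apply_inv_self] at this
    rw [this]
    group
  rw [MulAut.mul_apply, MulAut.mul_apply, hsβ, hwe, h1]
  group

theorem sylow_range (h : IData F E₁ E₂ p) (hRn : F.IsFullyNormalized R) (hR : R ≤ T₁ ⊓ T₂) :
    ∃ U : Sylow p ↥((rho h hR).range.subgroupOf (F.autGroup R)), ∀ a : ↥((rho h hR).range.subgroupOf (F.autGroup R)),
      a ∈ (U : Subgroup _) ↔ ((a : F.autGroup R) : MulAut R) ∈ autInducedBy S R := by
  haveI := finite_of_le hRn.1
  haveI := finite_mulAut R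
  haveI : ((rho h hR).range.subgroupOf (F.autGroup R)).Normal :=
    ⟨fun a ha b => Subgroup.mem_subgroupOf.mpr (conj_rho_range h hR
      (fullyCentralized_of_fullyNormalized h.pgroup h.sat hRn) b.2 (Subgroup.mem_subgroupOf.mp ha))⟩
  obtain ⟨V, hV⟩ := (fullyAutomized_of_fullyNormalized h.pgroup h.sat hRn).2
  obtain ⟨U, hU⟩ := Transfer.exists_sylow_subgroupOf_normal V ((rho h hR).range.subgroupOf (F.autGroup R))
  exact ⟨U, fun a => by rw [hU, Subgroup.mem_subgroupOf, hV, Subgroup.mem_subgroupOf]⟩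

/-- `L₀(R)` is invariant under `Aut_F(R)`. -/
theorem lGrp_conj (h : IData F E₁ E₂ p) (hRn : F.IsFullyNormalized R) (hR : Wc F (T₁ ⊓ T₂) R)
    {β : MulAut R} (hβ : β ∈ F.autGroup R) {α : MulAut R} (hα : α ∈ lGrp h hR.1) :
    β * α * β⁻¹ ∈ lGrp h hR.1 := by
  haveI := finite_of_le hRn.1
  haveI := finite_mulAut R
  have hc := fullyCentralized_of_fullyNormalized h.pgroup h.sat hRn
  set K := (pResidual p ↥(xGrp h hR.1)).map (rho h hR.1) with hK
  -- the normalizing elements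
  let N : Subgroup (MulAut R) :=
    { carrier := {β | ∀ α ∈ lGrp h hR.1, β * α * β⁻¹ ∈ lGrp h hR.1}
      one_mem' := fun α hα => by simpa using hα
      mul_mem' := fun {a b} ha hb α hα => by
        have := ha _ (hb α hα)
        simpa [mul_assoc] using this
      inv_mem' := fun {a} ha α hα => by
        obtain ⟨n, hn⟩ : ∃ n : ℕ, a⁻¹ = a ^ n := ⟨orderOf a - 1, by
          rw [inv_eq_iff_mul_eq_one, ← pow_succ', Nat.sub_add_cancel (orderOf_pos a), pow_orderOf_eq_one]⟩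
        rw [hn]
        clear hn
        induction n generalizing α with
        | zero => simpa using hα
        | succ n ih =>
          have := ih _ (ha α hα)
          simpa [pow_succ, mul_assoc] using this }
  suffices H : F.autGroup R ≤ N from H hβ α hα
  have hW : ∀ β ∈ F.autGroup R, (∀ α ∈ autInducedBy (T₁ ⊓ T₂) R, β * α * β⁻¹ ∈ lGrp h hR.1) → β ∈ N := by
    intro β hβ hb α hα
    have hsup : lGrp h hR.1 ≤ (lGrp h hR.1).comap (MulAut.conj β).toMonoidHom :=
      sup_le (fun α hα => hb α hα) fun α hα => Subgroup.mem_sup_right (conj_residual h hR.1 hc hβ hα)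
    exact hsup hα
  have hSN : ∀ β ∈ autInducedBy S R, β ∈ N := by
    intro β hβ
    refine hW β (autInducedBy_le_autGroup hRn.1 hβ) fun α hα => ?_
    obtain ⟨s, hs, hse⟩ := mem_autInducedBy.mp hβ
    exact Subgroup.mem_sup_left (autInducedBy_conj h hs hse hα)
  set X := (rho h hR.1).range.subgroupOf (F.autGroup R) with hX
  haveI : X.Normal :=
    ⟨fun a ha b => Subgroup.mem_subgroupOf.mpr (conj_rho_range h hR.1 hc b.2 (Subgroup.mem_subgroupOf.mp ha))⟩
  obtain ⟨U, hU⟩ := sylow_range h hRn hR.1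
  have hXN : ∀ a : X, ((a : F.autGroup R) : MulAut R) ∈ N := by
    intro a
    let N' : Subgroup X := N.comap ((F.autGroup R).subtype.comp X.subtype)
    have hN' : N' = ⊤ := eq_top_of_sylow_coprime U N' (fun u hu => hSN _ ((hU u).mp hu)) fun u hu => by
      refine hW _ (u : F.autGroup R).2 fun α hα => ?_
      have huK : ((u : F.autGroup R) : MulAut R) ∈ lGrp h hR.1 :=
        Subgroup.mem_sup_right (mem_residual_of_range h hR.1 (Subgroup.mem_subgroupOf.mp u.2)
          (by rwa [Subgroup.orderOf_coe, Subgroup.orderOf_coe]))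
      exact Subgroup.mul_mem _ (Subgroup.mul_mem _ huK (Subgroup.mem_sup_left hα)) (Subgroup.inv_mem _ huK)
    exact hN'.ge (Subgroup.mem_top a)
  have hfr := Sylow.normalizer_sup_eq_top U
  intro β hβ
  have hmem : (⟨β, hβ⟩ : F.autGroup R) ∈ (⊤ : Subgroup (F.autGroup R)) := Subgroup.mem_top _
  rw [← hfr] at hmem
  obtain ⟨n, hn, x, hx, hnx⟩ := Subgroup.mem_sup_of_normal_right.mp hmem
  have hβe : β = (n : MulAut R) * (x : MulAut R) := congrArg Subtype.val hnx.symm
  rw [hβe]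
  refine N.mul_mem (hW _ n.2 fun α hα => ?_) (hXN ⟨x, hx⟩)
  obtain ⟨w, hw, hwe⟩ := mem_autInducedBy.mp hα
  have hni := (mem_autGroup hRn.1).mp n.2
  have hαX : α ∈ (rho h hR.1).range := autInducedBy_le_rho h hR hα
  have hαF : α ∈ F.autGroup R := lGrp_le h hR (Subgroup.mem_sup_left hα)
  have hnα : (n : MulAut R) * α * (n : MulAut R)⁻¹ ∈ autInducedBy S R := by
    have h1 : (⟨⟨α, hαF⟩, Subgroup.mem_subgroupOf.mpr hαX⟩ : X) ∈ (U : Subgroup X) :=
      (hU _).mpr (autInducedBy_mono h.wS hα)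
    have h2 := (Subgroup.mem_normalizer_iff.mp hn (⟨α, hαF⟩ : F.autGroup R)).mp ⟨_, h1, rfl⟩
    obtain ⟨v, hv, hve⟩ := h2
    have := (hU v).mp hv
    rw [show (v : F.autGroup R) = n * ⟨α, hαF⟩ * n⁻¹ from hve] at this
    exact this
  obtain ⟨s, hs, hse⟩ := mem_autInducedBy.mp hnα
  -- extend `n` to `R⟨w⟩`
  have hwN : w ∈ Subgroup.normalizer (R : Set Ω) := mem_normalizer_of_induces hwe
  have hM : R ⊔ Subgroup.zpowers w ≤ S := sup_le hRn.1 (Subgroup.zpowers_le.mpr (h.wS hw))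
  obtain ⟨φ, -, hφf⟩ := id hni.1
  have hwext : w ∈ FusionSystem.extender S R φ := (mem_extender_fun hφf).mpr ⟨h.wS hw, hwN, s, hs, fun x hx => by
    have h3 := hse ((n : MulAut R) ⟨x, hx⟩)
    rw [MulAut.mul_apply, MulAut.mul_apply, MulAut.inv_apply_self,
      show α ⟨x, hx⟩ = ⟨w * x * w⁻¹, conj_mem_of_mem_normalizer hwN hx⟩ from Subtype.ext (hwe ⟨x, hx⟩)] at h3
    rwa [← autFun_of_mem, ← autFun_of_mem] at h3⟩
  obtain ⟨f, hf, hfe⟩ := receptive_extend (h.n₁.recv hRn) hni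
    (M := Subgroup.zpowers w) ⟨Subgroup.zpowers_le.mpr (h.wS hw), fun g hg =>
      (isExtendable_extender hφf).2 g ((Subgroup.zpowers_le.mpr hwext) hg)⟩
  have hwm : w ∈ R ⊔ Subgroup.zpowers w := Subgroup.mem_sup_right (Subgroup.mem_zpowers w)
  refine Subgroup.mem_sup_left (mem_autInducedBy.mpr ⟨f w, h.map_w hf hwm hw, fun y => ?_⟩)
  obtain ⟨x, rfl⟩ := (n : MulAut R).surjective y
  rw [MulAut.mul_apply, MulAut.mul_apply, MulAut.inv_apply_self,
    show α x = ⟨w * x * w⁻¹, conj_mem_of_mem_normalizer hwN x.2⟩ from Subtype.ext (hwe x), ← autFun_coe,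
    ← autFun_coe]
  show autFun (n : MulAut R) (w * x * w⁻¹) = _
  rw [← hfe (conj_mem_of_mem_normalizer hwN x.2), hf.map_conj hwm (Subgroup.mem_sup_left x.2), hfe x.2]

/-- The automorphisms of `L₀(R)` induced by `S` are induced by `W`. -/
theorem lGrp_inter (h : IData F E₁ E₂ p) (hRn : F.IsFullyNormalized R) (hR : Wc F (T₁ ⊓ T₂) R) :
    autInducedBy S R ⊓ lGrp h hR.1 ≤ autInducedBy (T₁ ⊓ T₂) R := by
  rintro α ⟨hαS, hαL⟩
  have hc := fullyCentralized_of_fullyNormalized h.pgroup h.sat hRn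
  set A := autInducedBy (T₁ ⊓ T₂) R
  set K := (pResidual p ↥(xGrp h hR.1)).map (rho h hR.1) with hK
  have hn : A ≤ Subgroup.normalizer (K : Set (MulAut R)) := by
    intro a ha
    refine Subgroup.mem_normalizer_iff.mpr fun k => ⟨fun hk => conj_residual h hR.1 hc
      (lGrp_le h hR (Subgroup.mem_sup_left ha)) hk, fun hk => ?_⟩
    have := conj_residual h hR.1 hc (lGrp_le h hR (Subgroup.mem_sup_left (A.inv_mem ha))) hk
    rwa [show a⁻¹ * (a * k * a⁻¹) * a⁻¹⁻¹ = k by group] at this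
  have hmem : α ∈ ((A ⊔ K : Subgroup (MulAut R)) : Set (MulAut R)) := hαL
  rw [Subgroup.coe_mul_of_left_le_normalizer_right A K hn] at hmem
  obtain ⟨a, ha, k, hk, rfl⟩ := hmem
  refine A.mul_mem ha (residual_inter h hRn hR.1 ⟨?_, hk⟩)
  have := Subgroup.mul_mem _ (Subgroup.inv_mem _ (autInducedBy_mono h.wS ha)) hαS
  simpa using this

/-- `Aut_W(R)` is a Sylow subgroup of `L₀(R)`. -/
theorem lGrp_sylow (h : IData F E₁ E₂ p) (hRn : F.IsFullyNormalized R) (hR : Wc F (T₁ ⊓ T₂) R) :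
    ∃ U : Sylow p ↥(lGrp h hR.1), (U : Subgroup _) = (autInducedBy (T₁ ⊓ T₂) R).subgroupOf (lGrp h hR.1) := by
  haveI := finite_of_le hRn.1
  haveI := finite_mulAut R
  set L := lGrp h hR.1 with hL
  haveI : (L.subgroupOf (F.autGroup R)).Normal :=
    ⟨fun a ha b => Subgroup.mem_subgroupOf.mpr (lGrp_conj h hRn hR b.2 (Subgroup.mem_subgroupOf.mp ha))⟩
  obtain ⟨V, hV⟩ := (fullyAutomized_of_fullyNormalized h.pgroup h.sat hRn).2
  obtain ⟨U, hU⟩ := Transfer.exists_sylow_subgroupOf_normal V (L.subgroupOf (F.autGroup R))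
  have hLF : L ≤ F.autGroup R := lGrp_le h hR
  refine ⟨U.comapOfInjective (Subgroup.subgroupOfEquivOfLe hLF).symm.toMonoidHom
    (Subgroup.subgroupOfEquivOfLe hLF).symm.injective
    (by rw [MonoidHom.range_eq_top.mpr (Subgroup.subgroupOfEquivOfLe hLF).symm.surjective]; exact le_top), ?_⟩
  ext a
  show (Subgroup.subgroupOfEquivOfLe hLF).symm a ∈ (U : Subgroup _) ↔ _
  rw [hU, Subgroup.mem_subgroupOf, hV, Subgroup.mem_subgroupOf, Subgroup.mem_subgroupOf]
  exact ⟨fun ha => lGrp_inter h hRn hR ⟨ha, a.2⟩, fun ha => autInducedBy_mono h.wS ha⟩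

/-- Frattini argument in `Aut_F(R)`. -/
theorem lGrp_decomp (h : IData F E₁ E₂ p) (hRn : F.IsFullyNormalized R) (hR : Wc F (T₁ ⊓ T₂) R)
    {x : MulAut R} (hx : x ∈ F.autGroup R) :
    ∃ n ∈ F.autGroup R, ∃ α ∈ lGrp h hR.1,
      (∀ a ∈ autInducedBy (T₁ ⊓ T₂) R, n * a * n⁻¹ ∈ autInducedBy (T₁ ⊓ T₂) R) ∧ x = n * α := by
  haveI := finite_of_le hRn.1
  haveI := finite_mulAut R
  set L := lGrp h hR.1 with hL
  haveI : (L.subgroupOf (F.autGroup R)).Normal :=
    ⟨fun a ha b => Subgroup.mem_subgroupOf.mpr (lGrp_conj h hRn hR b.2 (Subgroup.mem_subgroupOf.mp ha))⟩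
  obtain ⟨V, hV⟩ := (fullyAutomized_of_fullyNormalized h.pgroup h.sat hRn).2
  obtain ⟨U, hU⟩ := Transfer.exists_sylow_subgroupOf_normal V (L.subgroupOf (F.autGroup R))
  have hmem : (⟨x, hx⟩ : F.autGroup R) ∈ (⊤ : Subgroup (F.autGroup R)) := Subgroup.mem_top _
  rw [← Sylow.normalizer_sup_eq_top U] at hmem
  obtain ⟨n, hn, y, hy, hnx⟩ := Subgroup.mem_sup_of_normal_right.mp hmem
  refine ⟨n, n.2, y, Subgroup.mem_subgroupOf.mp hy, fun a ha => ?_, congrArg Subtype.val hnx.symm⟩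
  have haL : a ∈ L := Subgroup.mem_sup_left ha
  have h1 : (⟨⟨a, lGrp_le h hR haL⟩, Subgroup.mem_subgroupOf.mpr haL⟩ :
      ↥(L.subgroupOf (F.autGroup R))) ∈ (U : Subgroup _) := by
    rw [hU, Subgroup.mem_subgroupOf, hV, Subgroup.mem_subgroupOf]
    exact autInducedBy_mono h.wS ha
  obtain ⟨v, hv, hve⟩ :=
    (Subgroup.mem_normalizer_iff.mp hn (⟨a, lGrp_le h hR haL⟩ : F.autGroup R)).mp ⟨_, h1, rfl⟩
  rw [hU, SetLike.mem_coe, Subgroup.mem_subgroupOf, hV, Subgroup.mem_subgroupOf] at hv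
  have he : ((v : F.autGroup R) : MulAut R) = (n : MulAut R) * a * (n : MulAut R)⁻¹ := congrArg Subtype.val hve
  rw [← he]
  exact lGrp_inter h hRn hR ⟨hv, Subgroup.mem_subgroupOf.mp v.2⟩

end Cfsg.Agent.Fusion.Inter
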